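import Mathlib
import Cfsg.Prelude.Def_Local
import Cfsg.Agent.PLocal.PSolvable
import Cfsg.Agent.PLocal.Cores
import Cfsg.Agent.Coprime.Action
import Cfsg.Agent.Coprime.Abelian
import Cfsg.Agent.Coprime.Generation
import Cfsg.Agent.Coprime.SchurZassenhaus
import Cfsg.Agent.Solvable.Nilpotent
import Cfsg.Agent.Solvable.Frattini
import Cfsg.Agent.S3754

/-!
# `p`-solvable groups with a Sylow subgroup having an irreducible automorphism

If a `p`-group `Q` has an automorphism fixing exactly `Q'` and leaving no other proper subgroup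
above `Q'` invariant, then a `p`-solvable group with Sylow subgroup `Q` and trivial `p'`-core has
`Q` normal. The heart is `core`: otherwise `|Q : Q'| = p ^ 2`.
-/

set_option autoImplicit false

namespace CfsgLib.FGS74.Admissible

open Subgroup
open scoped commutatorElement Pointwise

/-- An automorphism fixing exactly the derived group and acting irreducibly above it. -/
structure Data (p : ℕ) (Q : Type*) [Group Q] where
  β : MulAut Q
  fixed_mem : ∀ x : Q, β x = x → x ∈ commutator Q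
  commutator_fixed : ∀ x ∈ commutator Q, β x = x
  irr : ∀ R : Subgroup Q, R ≠ ⊤ → (∀ x ∈ R, β x ∈ R) → R ≤ commutator Q
  central : commutator Q ≤ center Q
  ne_top : commutator Q ≠ ⊤
  q : ℕ
  q_prime : q.Prime
  q_ne : q ≠ p
  ord : ∃ k, β ^ q ^ k = 1
  invol : q = 2 → β ^ 2 = 1

section Comm

variable {Q : Type*} [Group Q]

theorem comm_mul_right (hc : commutator Q ≤ center Q) (x a b : Q) :
    ⁅x, a * b⁆ = ⁅x, a⁆ * ⁅x, b⁆ := by
  have h : ⁅x, b⁆ ∈ center Q := hc (commutator_mem_commutator (mem_top x) (mem_top b))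
  rw [commutatorElement_mul_right_eq_mul_conj, mul_assoc ⁅x, a⁆, mem_center_iff.1 h a]
  group

theorem comm_pow_right (hc : commutator Q ≤ center Q) (x a : Q) (n : ℕ) :
    ⁅x, a ^ n⁆ = ⁅x, a⁆ ^ n := by
  induction n with
  | zero => simp
  | succ n ih => rw [pow_succ, comm_mul_right hc, ih, pow_succ]

end Comm

section Automorphism

variable {Q : Type*} [Group Q] [Finite Q] {p : ℕ} [hp : Fact p.Prime] (D : Data p Q)
  (hQ : IsPGroup p Q)

include D in
omit [Finite Q] hp in
theorem comm_mul_left (x a b : Q) : ⁅a * b, x⁆ = ⁅a, x⁆ * ⁅b, x⁆ := by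
  have h : ⁅b, x⁆ ∈ center Q := D.central (commutator_mem_commutator (mem_top b) (mem_top x))
  rw [commutatorElement_mul_left_eq_conj_mul, mem_center_iff.1 h a, mul_inv_cancel_right]
  exact (mem_center_iff.1 h _).symm

include D hQ in
theorem pow_mem_commutator (x : Q) : x ^ p ∈ commutator Q := by
  let R : Subgroup Q :=
    { carrier := {x | (Abelianization.of x) ^ p = 1}
      one_mem' := by simp
      mul_mem' := fun {a b} ha hb => by
        show (Abelianization.of (a * b)) ^ p = 1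
        rw [map_mul, mul_pow, ha, hb, one_mul]
      inv_mem' := fun {a} ha => by
        show (Abelianization.of a⁻¹) ^ p = 1
        rw [map_inv, inv_pow, ha, inv_one] }
  have hmem : ∀ x, x ∈ R ↔ x ^ p ∈ commutator Q := fun x => by
    show (Abelianization.of x) ^ p = 1 ↔ _
    rw [← map_pow]
    exact QuotientGroup.eq_one_iff _
  by_cases hR : R = ⊤
  · exact (hmem x).1 (hR ▸ mem_top x)
  exfalso
  have hle := D.irr R hR fun y hy => (hmem _).2 (by
    rw [← map_pow, D.commutator_fixed _ ((hmem y).1 hy)]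
    exact (hmem y).1 hy)
  refine D.ne_top (eq_top_iff.2 fun y _ => ?_)
  obtain ⟨k, hk⟩ := hQ y
  suffices ∀ k, ∀ y : Q, y ^ p ^ k = 1 → y ∈ commutator Q from this k y hk
  intro k
  induction k with
  | zero => intro y hy; rw [pow_zero, pow_one] at hy; rw [hy]; exact one_mem _
  | succ k ih =>
    intro y hy
    exact hle ((hmem y).2 (ih _ (by rw [← pow_mul, ← pow_succ', hy])))

include D in
omit [Finite Q] hp in
theorem mem_commutator_of_bracket_le {Z₀ : Subgroup Q} (hle : Z₀ ≤ commutator Q)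
    (hne : Z₀ ≠ commutator Q) {x : Q} (hx : ∀ y, ⁅x, y⁆ ∈ Z₀) : x ∈ commutator Q := by
  let R : Subgroup Q :=
    { carrier := {x | ∀ y, ⁅x, y⁆ ∈ Z₀}
      one_mem' := fun y => by simp
      mul_mem' := fun {a b} ha hb y => by
        rw [comm_mul_left D]
        exact mul_mem (ha y) (hb y)
      inv_mem' := fun {a} ha y => by
        have h : ⁅a * a⁻¹, y⁆ = ⁅a, y⁆ * ⁅a⁻¹, y⁆ := comm_mul_left D y a a⁻¹
        rw [mul_inv_cancel, commutatorElement_one_left] at h
        rw [eq_inv_of_mul_eq_one_right h.symm]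
        exact inv_mem (ha y) }
  by_cases hR : R = ⊤
  · refine absurd (le_antisymm hle ?_) hne
    rw [commutator_def, commutator_le]
    exact fun a _ b _ => (hR ▸ mem_top a : a ∈ R) b
  refine D.irr R hR (fun a ha y => ?_) hx
  obtain ⟨y, rfl⟩ := D.β.surjective y
  rw [← map_commutatorElement, D.commutator_fixed _ (hle (ha y))]
  exact ha y

include D in
/-- Two generators above a central derived group make it small. -/
theorem card_commutator_le (hQ : IsPGroup p Q) (hi : (commutator Q).index = p ^ 2) :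
    Nat.card (commutator Q) ≤ p := by
  have hpp := hp.out
  obtain ⟨v, hv⟩ : ∃ v, v ∉ commutator Q := by
    by_contra! h
    exact D.ne_top (eq_top_iff.2 fun y _ => h y)
  let M := commutator Q ⊔ zpowers v
  have hM : M ≠ ⊤ := by
    intro e
    have h1 : (commutator Q).index ∣ p := by
      have : (commutator Q).index = Nat.card (Q ⧸ commutator Q) := index_eq_card _
      rw [this]
      have hcyc : ∀ x : Q ⧸ commutator Q, x ∈ zpowers (QuotientGroup.mk v : Q ⧸ commutator Q) := by
        intro x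
        induction x using QuotientGroup.induction_on with
        | H y =>
          obtain ⟨c, hc, w, hw, rfl⟩ := mem_sup_of_normal_left.1 (e ▸ mem_top y : y ∈ M)
          rw [QuotientGroup.mk_mul, (QuotientGroup.eq_one_iff c).2 hc, one_mul]
          obtain ⟨i, rfl⟩ := hw
          exact ⟨i, by simp⟩
      rw [← orderOf_eq_card_of_forall_mem_zpowers hcyc]
      refine orderOf_dvd_of_pow_eq_one ?_
      rw [← QuotientGroup.mk_pow, QuotientGroup.eq_one_iff]
      exact pow_mem_commutator D hQ v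
    rw [hi] at h1
    have := Nat.le_of_dvd hpp.pos h1
    have := hpp.two_le
    nlinarith
  obtain ⟨a, ha⟩ : ∃ a, a ∉ M := by
    by_contra! h
    exact hM (eq_top_iff.2 fun y _ => h y)
  have htop : commutator Q ⊔ (zpowers v ⊔ zpowers a) = ⊤ := by
    rw [← sup_assoc]
    have h1 : M < M ⊔ zpowers a :=
      lt_of_le_of_ne le_sup_left fun e => ha (e ▸ mem_sup_right (mem_zpowers a))
    have h2 : commutator Q < M :=
      lt_of_le_of_ne le_sup_left fun e => hv (e ▸ mem_sup_right (mem_zpowers v))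
    by_contra hne
    have d1 := index_dvd_of_le h2.le
    have d2 := index_dvd_of_le h1.le
    rw [hi] at d1
    obtain ⟨i, hi2, hMi⟩ := (Nat.dvd_prime_pow hpp).1 d1
    rw [hMi] at d2
    obtain ⟨j, hji, hMj⟩ := (Nat.dvd_prime_pow hpp).1 d2
    have hlt1 := index_strictAnti h1
    have hlt2 := index_strictAnti h2
    rw [hMi, hi] at hlt2
    rw [hMj, hMi] at hlt1
    have hj1 : j ≠ 0 := fun e => hne (index_eq_one.1 (by rw [hMj, e, pow_zero]))
    have := (Nat.pow_lt_pow_iff_right hpp.one_lt).1 hlt1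
    have := (Nat.pow_lt_pow_iff_right hpp.one_lt).1 hlt2
    omega
  set c := ⁅v, a⁆ with hcdef
  have key : ∀ s : Q, ⁅s, v⁆ ∈ zpowers c → ⁅s, a⁆ ∈ zpowers c → ∀ y, ⁅s, y⁆ ∈ zpowers c := by
    intro s h1 h2 y
    let T : Subgroup Q :=
      { carrier := {y | ⁅s, y⁆ ∈ zpowers c}
        one_mem' := by simp
        mul_mem' := fun {x z} hx hz => by
          show ⁅s, x * z⁆ ∈ zpowers c
          rw [comm_mul_right D.central]
          exact mul_mem hx hz
        inv_mem' := fun {x} hx => by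
          show ⁅s, x⁻¹⁆ ∈ zpowers c
          have h : ⁅s, x * x⁻¹⁆ = ⁅s, x⁆ * ⁅s, x⁻¹⁆ := comm_mul_right D.central s x x⁻¹
          rw [mul_inv_cancel, commutatorElement_one_right] at h
          rw [eq_inv_of_mul_eq_one_right h.symm]
          exact inv_mem hx }
    have hT : T = ⊤ := by
      rw [eq_top_iff, ← htop]
      refine sup_le (fun z hz => ?_) (sup_le (zpowers_le.2 h1) (zpowers_le.2 h2))
      show ⁅s, z⁆ ∈ zpowers c
      rw [commutatorElement_eq_one_iff_mul_comm.2 (mem_center_iff.1 (D.central hz) s)]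
      exact one_mem _
    exact (hT ▸ mem_top y : y ∈ T)
  have hle : commutator Q ≤ zpowers c := by
    rw [commutator_def, commutator_le]
    intro x _ y _
    have hv' : ∀ w, ⁅v, w⁆ ∈ zpowers c := key v (by simp) (mem_zpowers c)
    have ha' : ∀ w, ⁅a, w⁆ ∈ zpowers c := key a (by
      rw [← commutatorElement_inv]; exact inv_mem (mem_zpowers c)) (by simp)
    refine key x ?_ ?_ y
    · rw [← commutatorElement_inv]; exact inv_mem (hv' x)
    · rw [← commutatorElement_inv]; exact inv_mem (ha' x)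
  have hcp : c ^ p = 1 := by
    rw [hcdef, ← comm_pow_right D.central]
    exact commutatorElement_eq_one_iff_mul_comm.2 (mem_center_iff.1 (D.central (pow_mem_commutator D hQ a)) v)
  refine (Nat.le_of_dvd Nat.card_pos (card_dvd_of_le hle)).trans ?_
  rw [Nat.card_zpowers]
  exact Nat.le_of_dvd hpp.pos (orderOf_dvd_of_pow_eq_one hcp)

end Automorphism

section Core

variable {H : Type*} [Group H] [Finite H] {p : ℕ} [hp : Fact p.Prime]

theorem exists_normalizer_complement (V L R : Subgroup H) [V.Normal] [L.Normal]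
    (hVab : IsMulCommutative V) (hVL : V ≤ L) (hRL : R ≤ L) (hd : Disjoint V R)
    (hsup : V ⊔ R = L) (hcop : (Nat.card V).Coprime (Nat.card R)) (g : H) :
    ∃ v ∈ V, v * g ∈ normalizer (R : Set H) := by
  let V' := V.subgroupOf L
  haveI : IsMulCommutative V' := ⟨⟨fun x y => by
    have h : ((x : L) : H) * ((y : L) : H) = ((y : L) : H) * ((x : L) : H) := congrArg Subtype.val
      (hVab.is_comm.comm (⟨((x : L) : H), x.2⟩ : V) ⟨((y : L) : H), y.2⟩)
    exact Subtype.ext (Subtype.ext h)⟩⟩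
  let K : Subgroup H := R.map (MulAut.conj g).toMonoidHom
  have hKc : Nat.card K = Nat.card R := card_map_of_injective (MulAut.conj g).injective
  have hKL : K ≤ L := by
    rintro _ ⟨r, hr, rfl⟩
    exact (inferInstance : L.Normal).conj_mem r (hRL hr) g
  have hcompl : ∀ S : Subgroup H, S ≤ L → Nat.card S = Nat.card R →
      IsComplement' V' (S.subgroupOf L) := by
    intro S hSL hS
    have hcS : Nat.card (S.subgroupOf L) = Nat.card R :=
      (Nat.card_congr (subgroupOfEquivOfLe hSL).toEquiv).trans hS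
    have hcV : Nat.card V' = Nat.card V := Nat.card_congr (subgroupOfEquivOfLe hVL).toEquiv
    refine isComplement'_of_card_mul_and_disjoint ?_ (disjoint_def.2 fun {x} hx hy => ?_)
    · rw [hcS, hcV, mul_comm, ← Solvable.card_sup_of_disjoint V R hd.symm, sup_comm, hsup]
    · refine orderOf_eq_one_iff.1 ?_
      exact Nat.eq_one_of_dvd_coprimes hcop (hcV ▸ V'.orderOf_dvd_natCard hx)
        (hcS ▸ (S.subgroupOf L).orderOf_dvd_natCard hy)
  have hcopV : (Nat.card V').Coprime V'.index := by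
    rw [(hcompl R hRL rfl).symm.index_eq_card,
      Nat.card_congr (subgroupOfEquivOfLe hVL).toEquiv,
      Nat.card_congr (subgroupOfEquivOfLe hRL).toEquiv]
    exact hcop
  obtain ⟨a, ha, hconj⟩ := Coprime.exists_conj_eq_of_isComplement'_of_abelian hcopV
    (hcompl K hKL hKc) (hcompl R hRL rfl)
  refine ⟨a, ha, mem_normalizer_iff.2 fun r => ?_⟩
  have h1 : ∀ r ∈ R, ((a : H) * g) * r * ((a : H) * g)⁻¹ ∈ R := by
    intro r hr
    have hgr : g * r * g⁻¹ ∈ K := ⟨r, hr, rfl⟩
    have h2 : MulAut.conj a • (⟨_, hKL hgr⟩ : L) ∈ MulAut.conj a • K.subgroupOf L :=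
      smul_mem_pointwise_smul _ _ _ hgr
    rw [hconj] at h2
    have h3 : (a : H) * (g * r * g⁻¹) * (a : H)⁻¹ ∈ R := h2
    rw [show ((a : H) * g) * r * ((a : H) * g)⁻¹ = (a : H) * (g * r * g⁻¹) * (a : H)⁻¹ by group]
    exact h3
  refine ⟨h1 r, fun hr => ?_⟩
  let f : R → R := fun s => ⟨_, h1 s s.2⟩
  have hinj : Function.Injective f := fun s t e => by
    have := congrArg Subtype.val e
    exact Subtype.ext (by simpa [f] using this)
  obtain ⟨s, hs⟩ := Finite.surjective_of_injective hinj ⟨_, hr⟩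
  have he : ((a : H) * g) * s * ((a : H) * g)⁻¹ = ((a : H) * g) * r * ((a : H) * g)⁻¹ :=
    congrArg Subtype.val hs
  rw [← mul_left_cancel (mul_right_cancel he)]
  exact s.2

theorem exists_centralized_hyperplane {A R : Subgroup H} (hA : IsPGroup p A)
    (hR : (Nat.card R).Coprime p) (hAR : A ≤ normalizer (R : Set H))
    (hel : ∀ a ∈ A, ∀ b ∈ A, ⁅a, b⁆ ∈ centralizer (R : Set H))
    (hpow : ∀ a ∈ A, a ^ p ∈ centralizer (R : Set H)) (hne : ¬ A ≤ centralizer (R : Set H)) :
    ∃ R₁ ≤ R, A ≤ normalizer (R₁ : Set H) ∧ ¬ A ≤ centralizer (R₁ : Set H) ∧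
      (A ⊓ centralizer (R₁ : Set H)).relIndex A = p := by
  obtain ⟨R₁, ⟨hR₁, hAR₁, hne₁⟩, hmax⟩ : ∃ R₁ : Subgroup H,
      (R₁ ≤ R ∧ A ≤ normalizer (R₁ : Set H) ∧ ¬ A ≤ centralizer (R₁ : Set H)) ∧
      ∀ R₂ : Subgroup H, (R₂ ≤ R ∧ A ≤ normalizer (R₂ : Set H) ∧ ¬ A ≤ centralizer (R₂ : Set H)) →
        ¬ A ⊓ centralizer (R₁ : Set H) < A ⊓ centralizer (R₂ : Set H) := by
    obtain ⟨R₁, h1, h2⟩ := (InvImage.wf (fun S : Subgroup H => A ⊓ centralizer (S : Set H))
      (wellFounded_gt (α := Subgroup H))).has_min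
      {S | S ≤ R ∧ A ≤ normalizer (S : Set H) ∧ ¬ A ≤ centralizer (S : Set H)}
      ⟨R, le_rfl, hAR, hne⟩
    exact ⟨R₁, h1, h2⟩
  refine ⟨R₁, hR₁, hAR₁, hne₁, ?_⟩
  set B := A ⊓ centralizer (R₁ : Set H) with hB
  by_contra hidx
  have hCR : centralizer (R : Set H) ≤ centralizer (R₁ : Set H) := centralizer_le hR₁
  let S := R₁ ⊔ A
  have hBS : B ≤ S := inf_le_left.trans le_sup_right
  have hBA : A ≤ normalizer (B : Set H) := by
    rw [Subgroup.le_normalizer_iff_commutator_le_left, commutator_le]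
    intro b hb a ha
    refine ⟨?_, hCR (hel b hb.1 a ha)⟩
    exact A.mul_mem (A.mul_mem (A.mul_mem hb.1 ha) (A.inv_mem hb.1)) (A.inv_mem ha)
  have hSB : S ≤ normalizer (B : Set H) :=
    sup_le ((le_centralizer_iff.1 inf_le_right).trans (centralizer_le_normalizer _)) hBA
  haveI hBn : (B.subgroupOf S).Normal :=
    (normal_subgroupOf_iff_le_normalizer hBS).2 hSB
  let f := QuotientGroup.mk' (B.subgroupOf S)
  let A' := (A.subgroupOf S).map f
  let G' := (R₁.subgroupOf S).map f
  let W := ((R₁ ⊓ centralizer (A : Set H)).subgroupOf S).map f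
  have hf : ∀ x : S, f x = 1 ↔ (x : H) ∈ B := fun x => QuotientGroup.eq_one_iff x
  have hAS : A ≤ S := le_sup_right
  have hRS : R₁ ≤ S := le_sup_left
  haveI hA'c : IsMulCommutative A' := by
    constructor
    constructor
    rintro ⟨_, x, hx, rfl⟩ ⟨_, y, hy, rfl⟩
    apply Subtype.ext
    show f x * f y = f y * f x
    rw [← commutatorElement_eq_one_iff_mul_comm, ← map_commutatorElement, hf]
    refine ⟨?_, hCR (hel _ hx _ hy)⟩
    exact A.mul_mem (A.mul_mem (A.mul_mem hx hy) (A.inv_mem hx)) (A.inv_mem hy)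
  have hA'e : ∀ x ∈ A', x ^ p = 1 := by
    rintro _ ⟨x, hx, rfl⟩
    rw [← map_pow, hf]
    exact ⟨Subgroup.pow_mem A hx p, hCR (hpow _ hx)⟩
  have hA'card : Nat.card A' = B.relIndex A := by
    rw [← relIndex_ker, QuotientGroup.ker_mk', relIndex_subgroupOf hAS]
  have hA'nc : ¬ IsCyclic A' := by
    intro hc
    obtain ⟨⟨g, hg⟩, hgen⟩ := hc.exists_generator
    have h1 : Nat.card A' ∣ p := by
      rw [← orderOf_eq_card_of_forall_mem_zpowers hgen]
      exact orderOf_dvd_of_pow_eq_one (Subtype.ext (hA'e g hg))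
    rw [hA'card] at h1
    rcases (Nat.dvd_prime hp.out).1 h1 with h | h
    · exact hne₁ fun a ha => (relIndex_eq_one.1 h ha).2
    · exact hidx h
  have hG'n : A' ≤ normalizer (G' : Set (S ⧸ B.subgroupOf S)) := by
    refine le_trans (map_mono (f := f) ?_) (le_normalizer_map f)
    intro x hx
    rw [mem_normalizer_iff]
    intro y
    exact mem_normalizer_iff.1 (hAR₁ hx) (y : H)
  have hR₁cop : (Nat.card R₁).Coprime p := Nat.Coprime.coprime_dvd_left (card_dvd_of_le hR₁) hR
  obtain ⟨k, hk⟩ := hA.exists_card_eq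
  have hcop : (Nat.card A').Coprime (Nat.card G') := by
    refine Nat.Coprime.coprime_dvd_left (card_map_dvd (A.subgroupOf S) f)
      (Nat.Coprime.coprime_dvd_right (card_map_dvd (R₁.subgroupOf S) f) ?_)
    rw [Nat.card_congr (subgroupOfEquivOfLe hAS).toEquiv,
      Nat.card_congr (subgroupOfEquivOfLe hRS).toEquiv, hk]
    exact (hR₁cop.pow_right k).symm
  have hBR : ∀ x, x ∈ B → x ∈ R₁ → x = 1 := fun x hxB hxR =>
    orderOf_eq_one_iff.1 (Nat.eq_one_of_dvd_coprimes ((hR₁cop.pow_right k))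
      (R₁.orderOf_dvd_natCard hxR) (hk ▸ A.orderOf_dvd_natCard hxB.1))
  have hle : G' ≤ W := by
    refine Coprime.le_of_forall_inf_centralizer_le hA'nc hG'n hcop ?_
    rintro _ ⟨a, ha, rfl⟩ hane _ ⟨⟨r, hr, rfl⟩, hcomm⟩
    refine ⟨r, ⟨hr, ?_⟩, rfl⟩
    have hc : f ⁅a, r⁆ = 1 := by
      rw [map_commutatorElement, commutatorElement_eq_one_iff_mul_comm]
      exact mem_centralizer_singleton_iff.1 hcomm |>.symm
    rw [hf] at hc
    have hin : ⁅(a : H), (r : H)⁆ ∈ R₁ :=
      mul_mem ((mem_normalizer_iff.1 (hAR₁ ha) (r : H)).1 hr) (inv_mem hr)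
    have h1 : ⁅(a : H), (r : H)⁆ = 1 := hBR _ hc hin
    -- `r` is fixed by `a`
    have haB : (a : H) ∉ B := fun h => hane ((hf a).2 h)
    let B₂ := A ⊓ centralizer ((R₁ ⊓ centralizer ({(a : H)} : Set H) : Subgroup H) : Set H)
    have hlt : B < B₂ := by
      refine lt_of_le_of_ne (inf_le_inf_left _ (centralizer_le inf_le_left)) fun e => haB ?_
      rw [e]
      exact ⟨ha, fun x hx => mem_centralizer_singleton_iff.1 hx.2⟩
    by_contra hrc
    refine hmax (R₁ ⊓ centralizer ({(a : H)} : Set H)) ⟨inf_le_left.trans hR₁, ?_, ?_⟩ hlt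
    · intro b hb
      rw [mem_normalizer_iff]
      have key : ∀ b ∈ A, ∀ x ∈ R₁ ⊓ centralizer ({(a : H)} : Set H),
          b * x * b⁻¹ ∈ R₁ ⊓ centralizer ({(a : H)} : Set H) := by
        intro b hb x hx
        refine ⟨(mem_normalizer_iff.1 (hAR₁ hb) x).1 hx.1, mem_centralizer_singleton_iff.2 ?_⟩
        have hxa : x * (a : H) = (a : H) * x := mem_centralizer_singleton_iff.1 hx.2
        have hcx := hCR (hel b⁻¹ (inv_mem hb) (a : H) ha) x hx.1
        rw [commutatorElement_def, inv_inv] at hcx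
        calc b * x * b⁻¹ * a = b * (x * (b⁻¹ * a * b * (a : H)⁻¹)) * a * b⁻¹ := by group
          _ = b * ((b⁻¹ * a * b * (a : H)⁻¹) * x) * a * b⁻¹ := by rw [hcx]
          _ = a * b * ((a : H)⁻¹ * (x * a)) * b⁻¹ := by group
          _ = a * b * ((a : H)⁻¹ * ((a : H) * x)) * b⁻¹ := by rw [hxa]
          _ = a * (b * x * b⁻¹) := by group
      intro x
      refine ⟨key b hb x, fun h => ?_⟩
      simpa [mul_assoc] using key b⁻¹ (inv_mem hb) _ h
    · intro hall
      apply hrc
      intro c hcA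
      refine (hall hcA (r : H) ⟨hr, mem_centralizer_singleton_iff.2 ?_⟩).symm
      exact (commutatorElement_eq_one_iff_mul_comm.1 h1).symm
  refine hne₁ fun a ha r hr => ?_
  obtain ⟨w, ⟨hw, hwA⟩, hwr⟩ := hle (mem_map_of_mem f (show (⟨r, hRS hr⟩ : S) ∈ R₁.subgroupOf S from hr))
  have h2 : ((⟨r, hRS hr⟩ : S)⁻¹ * w) = 1 := by
    refine Subtype.ext (hBR _ ((hf _).1 (by rw [map_mul, map_inv, hwr, inv_mul_cancel])) ?_)
    exact mul_mem (inv_mem hr) hw
  have h3 : r = (w : H) := congrArg Subtype.val (inv_mul_eq_one.1 h2)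
  rw [h3]
  exact (hwA a ha).symm

/-- The core of the argument. -/
theorem core (hps : Cfsg.IsPSolvable p H) (V Z : Subgroup H) [V.Normal] (Q : Sylow p H)
    (hVQ : V ≤ Q) (hVab : IsMulCommutative V) (hcent : centralizer (V : Set H) ≤ V)
    (hcore : Cfsg.pCore p (H ⧸ V) = ⊥) (hZV : Z ≤ V)
    (hcomm : ⁅(Q : Subgroup H), (Q : Subgroup H)⁆ = Z)
    (hZc : (Q : Subgroup H) ≤ centralizer (Z : Set H)) (hZne : Z ≠ ⊥)
    (hpow : ∀ x ∈ (Q : Subgroup H), x ^ p ∈ Z)
    (h4 : ∀ Z₀ < Z, ∀ x ∈ (Q : Subgroup H), (∀ y ∈ (Q : Subgroup H), ⁅x, y⁆ ∈ Z₀) → x ∈ Z)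
    (hne : ¬ (Q : Subgroup H) ≤ V) :
    Z.relIndex V = p ∧ Z.relIndex (Q : Subgroup H) = p ^ 2 ∧
      ∃ y : H, ∃ z ∈ Z, y * z * y⁻¹ ∉ Z := by
  have hpp := hp.out
  obtain ⟨m, hm⟩ := (Q.2.to_le hVQ).exists_card_eq
  let L := (Cfsg.pPrimeCore p (H ⧸ V)).comap (QuotientGroup.mk' V)
  have hVL : V ≤ L := fun v hv => by
    show QuotientGroup.mk' V v ∈ Cfsg.pPrimeCore p (H ⧸ V)
    rw [QuotientGroup.mk'_apply, (QuotientGroup.eq_one_iff v).2 hv]
    exact one_mem _
  have hLind : (V.subgroupOf L).index = Nat.card (Cfsg.pPrimeCore p (H ⧸ V)) := by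
    show V.relIndex L = _
    have h : L.map (QuotientGroup.mk' V) = Cfsg.pPrimeCore p (H ⧸ V) :=
      map_comap_eq_self_of_surjective (QuotientGroup.mk'_surjective V) _
    conv_rhs => rw [← h]
    rw [← relIndex_ker, QuotientGroup.ker_mk']
  have hcop : (Nat.card (V.subgroupOf L)).Coprime (V.subgroupOf L).index := by
    rw [hLind, Nat.card_congr (subgroupOfEquivOfLe hVL).toEquiv, hm]
    exact ((CfsgLib.PLocal.coprime_card_pPrimeCore p (H ⧸ V)).pow_right m).symm
  obtain ⟨R', hR'⟩ := exists_right_complement'_of_coprime hcop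
  let R := R'.map L.subtype
  have hRcard : Nat.card R = Nat.card (Cfsg.pPrimeCore p (H ⧸ V)) := by
    rw [card_map_of_injective L.subtype_injective, ← hR'.symm.index_eq_card, hLind]
  have hRp : (Nat.card R).Coprime p := hRcard ▸ CfsgLib.PLocal.coprime_card_pPrimeCore p (H ⧸ V)
  have hRL : R ≤ L := map_subtype_le _
  have hd : Disjoint V R := by
    rw [disjoint_def]
    rintro x hxV ⟨y, hy, rfl⟩
    exact congrArg Subtype.val (disjoint_def.1 hR'.disjoint
      (show y ∈ V.subgroupOf L from hxV) hy)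
  have hsup : V ⊔ R = L := by
    refine le_antisymm (sup_le hVL hRL) fun x hx => ?_
    obtain ⟨⟨⟨v, hv⟩, ⟨r, hr⟩⟩, hvr⟩ := hR'.2 ⟨x, hx⟩
    have h1 : (v : H) * (r : H) = x := congrArg Subtype.val hvr
    rw [← h1]
    exact mul_mem (mem_sup_left hv) (mem_sup_right ⟨r, hr, rfl⟩)
  haveI : L.Normal := inferInstanceAs ((Cfsg.pPrimeCore p (H ⧸ V)).comap (QuotientGroup.mk' V)).Normal
  let A : Subgroup H := (Q : Subgroup H) ⊓ normalizer (R : Set H)
  have hAQ : A ≤ Q := inf_le_left
  have hAN : A ≤ normalizer (R : Set H) := inf_le_right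
  have hsplit : ∀ x ∈ (Q : Subgroup H), ∃ v ∈ V, ∃ a ∈ A, x = v * a := by
    intro x hx
    obtain ⟨v, hv, hvx⟩ := exists_normalizer_complement V L R hVab hVL hRL hd hsup
      (by rw [hm]; exact (hRp.pow_right m).symm) x
    exact ⟨v⁻¹, inv_mem hv, v * x, ⟨mul_mem (hVQ hv) hx, hvx⟩, by group⟩
  have hZA : ∀ z ∈ Z, ∀ a ∈ (Q : Subgroup H), z * a = a * z := fun z hz a ha => hZc ha z hz
  have hVA : ∀ x ∈ V, x ∈ normalizer (R : Set H) → x ∈ centralizer (R : Set H) := by
    intro x hx hxN r hr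
    have h1 : ⁅x, r⁆ ∈ V := commutator_le_left V ⊤ (commutator_mem_commutator hx (mem_top r))
    have h2 : ⁅x, r⁆ ∈ R := mul_mem ((mem_normalizer_iff.1 hxN r).1 hr) (inv_mem hr)
    exact (commutatorElement_eq_one_iff_mul_comm.1 (disjoint_def.1 hd h1 h2)).symm
  have hne' : ¬ A ≤ centralizer (R : Set H) := by
    intro hAC
    refine hne fun x hx => ?_
    obtain ⟨v, hv, a, ha, rfl⟩ := hsplit x hx
    refine mul_mem hv ?_
    have hC := Cfsg.Agent.S3754.centralizer_pPrimeCore_le
      (CfsgLib.PLocal.isPSolvable_quotient hps V) hcore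
    have h1 : (QuotientGroup.mk' V a) ∈ centralizer (Cfsg.pPrimeCore p (H ⧸ V) : Set (H ⧸ V)) := by
      intro y hy
      obtain ⟨y, rfl⟩ := QuotientGroup.mk'_surjective V y
      obtain ⟨w, hw, r, hr, rfl⟩ := mem_sup_of_normal_left.1 (hsup.ge (show y ∈ L from hy))
      rw [map_mul, show QuotientGroup.mk' V w = 1 from (QuotientGroup.eq_one_iff w).2 hw, one_mul,
        ← map_mul, ← map_mul, hAC ha r hr]
    have h2 := hC h1
    obtain ⟨k, hk⟩ := (Q.2.to_subgroup ⊤) ⟨⟨a, hAQ ha⟩, mem_top _⟩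
    have hk' : a ^ p ^ k = 1 := congrArg (fun z => ((z.1 : (Q : Subgroup H)) : H)) hk
    rw [← QuotientGroup.eq_one_iff, ← orderOf_eq_one_iff]
    refine Nat.eq_one_of_dvd_coprimes
      ((CfsgLib.PLocal.coprime_card_pPrimeCore p (H ⧸ V)).pow_right k)
      (Subgroup.orderOf_dvd_natCard _ h2) ?_
    exact (orderOf_map_dvd (QuotientGroup.mk' V) a).trans (orderOf_dvd_of_pow_eq_one hk')
  have hcommV : ∀ a ∈ (Q : Subgroup H), ∀ b ∈ (Q : Subgroup H), ⁅a, b⁆ ∈ Z := fun a ha b hb =>
    hcomm ▸ commutator_mem_commutator ha hb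
  obtain ⟨R₁, hR₁, hAR₁, hne₁, hidx⟩ := exists_centralized_hyperplane (Q.2.to_le hAQ) hRp hAN
    (fun a ha b hb => hVA _ (hZV (hcommV _ (hAQ ha) _ (hAQ hb)))
      (mul_mem (mul_mem (mul_mem (hAN ha) (hAN hb)) (inv_mem (hAN ha))) (inv_mem (hAN hb))))
    (fun a ha => hVA _ (hZV (hpow a (hAQ ha))) (Subgroup.pow_mem _ (hAN ha) p)) hne'
  set R₂ := ⁅R₁, A⁆ with hR₂def
  obtain ⟨k, hk⟩ := (Q.2.to_le hAQ).exists_card_eq
  have hcop₁ : (Nat.card A).Coprime (Nat.card R₁) := by
    rw [hk]
    exact ((hRp.coprime_dvd_left (card_dvd_of_le hR₁)).pow_right k).symm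
  have hR₂R₁ : R₂ ≤ R₁ := Coprime.commutator_le_of_le_normalizer hAR₁
  have hR₂A : ⁅R₂, A⁆ = R₂ := Coprime.commutator_commutator_eq hAR₁ hcop₁
  have hR₂ne : R₂ ≠ ⊥ := fun e => hne₁ (commutator_eq_bot_iff_le_centralizer.1
    (by rwa [commutator_comm]))
  have hAR₂ : A ≤ normalizer (R₂ : Set H) := Subgroup.normalizer_commutator_ge_right R₁ A
  have hR₂V : (Nat.card R₂).Coprime (Nat.card V) := by
    rw [hm]
    exact (hRp.coprime_dvd_left (card_dvd_of_le (hR₂R₁.trans hR₁))).pow_right m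
  have hfix : ∀ U : Subgroup H, U ≤ Z → R₂ ≤ normalizer (U : Set H) →
      R₂ ≤ centralizer (U : Set H) := by
    intro U hU hRU
    rw [← hR₂A, ← commutator_eq_bot_iff_le_centralizer]
    refine commutator_commutator_eq_bot_of_rotate ?_ ?_
    · rw [show ⁅A, U⁆ = ⊥ from commutator_eq_bot_iff_le_centralizer.2
        ((hAQ.trans hZc).trans (centralizer_le hU))]
      exact commutator_bot_left _
    · rw [commutator_eq_bot_iff_le_centralizer]
      exact ((Coprime.commutator_le_of_le_normalizer hRU).trans hU).trans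
        (le_centralizer_iff.1 (hAQ.trans hZc))
  haveI := hVab
  have hVn : R₂ ≤ normalizer (V : Set H) := le_normalizer_of_normal
  set U := ⁅V, R₂⁆ with hUdef
  set C := V ⊓ centralizer (R₂ : Set H) with hCdef
  have hCU : C ⊓ U = ⊥ := Coprime.inf_centralizer_inf_commutator_eq_bot hVn hR₂V
  have hsupCU : C ⊔ U = V := Coprime.inf_centralizer_sup_commutator_eq hVn hR₂V
  have hUV : U ≤ V := Coprime.commutator_le_of_le_normalizer hVn
  have hVfix : ∀ v ∈ V, ∀ w ∈ V, v * w * v⁻¹ = w := fun v hv w hw => by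
    rw [show v * w = w * v from congrArg Subtype.val (hVab.is_comm.comm ⟨v, hv⟩ ⟨w, hw⟩),
      mul_inv_cancel_right]
  have hQn : ∀ W : Subgroup H, W ≤ V → (∀ a ∈ A, ∀ w ∈ W, a * w * a⁻¹ ∈ W) →
      ∀ x ∈ (Q : Subgroup H), ∀ w ∈ W, x * w * x⁻¹ ∈ W := by
    intro W hW hWA x hx w hw
    obtain ⟨v, hv, a, ha, rfl⟩ := hsplit x hx
    rw [show v * a * w * (v * a)⁻¹ = v * (a * w * a⁻¹) * v⁻¹ by group,
      hVfix v hv _ (hW (hWA a ha w hw))]
    exact hWA a ha w hw
  have hCA : ∀ a ∈ A, ∀ w ∈ C, a * w * a⁻¹ ∈ C := by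
    intro a ha w hw
    refine ⟨(inferInstance : V.Normal).conj_mem w hw.1 a, fun r hr => ?_⟩
    have h1 : a⁻¹ * r * a ∈ R₂ := by
      have := (mem_normalizer_iff.1 (hAR₂ (inv_mem ha)) r).1 hr
      simpa using this
    calc r * (a * w * a⁻¹) = a * ((a⁻¹ * r * a) * w) * a⁻¹ := by group
      _ = a * (w * (a⁻¹ * r * a)) * a⁻¹ := by rw [hw.2 _ h1]
      _ = a * w * a⁻¹ * r := by group
  have hCbot : C = ⊥ := by
    by_contra hC
    haveI : Group.IsNilpotent (Q : Subgroup H) := Q.2.isNilpotent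
    have hCQn := hQn C inf_le_left hCA
    haveI : (C.subgroupOf (Q : Subgroup H)).Normal := ⟨fun w hw x => hCQn x x.2 w hw⟩
    have hCne : C.subgroupOf (Q : Subgroup H) ≠ ⊥ := fun e => hC (by
      rw [eq_bot_iff]
      intro w hw
      exact congrArg Subtype.val ((Subgroup.eq_bot_iff_forall _).1 e ⟨w, hVQ hw.1⟩ hw))
    have h1 := CfsgLib.Solvable.inf_center_ne_bot hCne
    obtain ⟨⟨c, hcQ⟩, ⟨hcC, hcc⟩, hc1⟩ : ∃ c : (Q : Subgroup H),
        (c ∈ C.subgroupOf (Q : Subgroup H) ⊓ center (Q : Subgroup H)) ∧ c ≠ 1 := by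
      by_contra! h
      exact h1 ((Subgroup.eq_bot_iff_forall _).2 h)
    have hcZ : c ∈ Z := h4 ⊥ (bot_lt_iff_ne_bot.2 hZne) c hcQ fun y hy => by
      rw [mem_bot, commutatorElement_eq_one_iff_mul_comm]
      exact congrArg Subtype.val (mem_center_iff.1 hcc ⟨y, hy⟩).symm
    have hlt : U ⊓ Z < Z := lt_of_le_of_ne inf_le_right fun e => hc1 (Subtype.ext (by
      have : c ∈ C ⊓ U := ⟨hcC, (e.ge hcZ).1⟩
      rwa [hCU, mem_bot] at this))
    have hUA : A ≤ normalizer (U : Set H) := by
      intro a ha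
      rw [mem_normalizer_iff_map_conj_eq, hUdef, map_commutator,
        mem_normalizer_iff_map_conj_eq.1 ((le_normalizer_of_normal : A ≤ normalizer (V : Set H)) ha),
        mem_normalizer_iff_map_conj_eq.1 (hAR₂ ha)]
    have hUQn := hQn U hUV fun a ha w hw => (mem_normalizer_iff.1 (hUA ha) w).1 hw
    have hUZ : U ≤ Z := fun u hu => h4 _ hlt u (hVQ (hUV hu)) fun y hy => by
      refine ⟨?_, hcommV u (hVQ (hUV hu)) y hy⟩
      rw [commutatorElement_def, mul_assoc, mul_assoc]
      exact mul_mem hu (by simpa [mul_assoc] using hUQn y hy u⁻¹ (inv_mem hu))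
    have hRU := hfix U hUZ (Subgroup.normalizer_commutator_ge_right V R₂)
    have hRV : R₂ ≤ centralizer (V : Set H) := by
      rw [le_centralizer_iff, ← hsupCU]
      exact sup_le inf_le_right (le_centralizer_iff.1 hRU)
    refine hR₂ne (eq_bot_iff.2 fun r hr => ?_)
    exact mem_bot.2 (disjoint_def.1 hd (hcent (hRV hr)) (hR₁ (hR₂R₁ hr)))
  -- the centralizer of `R₁` in `A` lies in `V`
  set B := A ⊓ centralizer (R₁ : Set H) with hB
  have hBV : B ≤ V := by
    refine le_trans ?_ hcent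
    rw [← commutator_eq_bot_iff_le_centralizer, commutator_comm, eq_bot_iff, ← hCbot]
    have hW : ⁅V, B⁆ ≤ Z := (commutator_mono hVQ (inf_le_left.trans hAQ)).trans hcomm.le
    have hRW : R₂ ≤ normalizer ((⁅V, B⁆ : Subgroup H) : Set H) := by
      intro r hr
      rw [mem_normalizer_iff_map_conj_eq, map_commutator,
        mem_normalizer_iff_map_conj_eq.1 (hVn hr)]
      congr 1
      ext b
      have hcent : ∀ x ∈ B, r * x * r⁻¹ = x := fun x hx => by
        rw [hx.2 r (hR₂R₁ hr), mul_inv_cancel_right]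
      constructor
      · rintro ⟨x, hx, rfl⟩
        show r * x * r⁻¹ ∈ B
        rwa [hcent x hx]
      · exact fun hb => ⟨b, hb, hcent b hb⟩
    refine le_inf (Coprime.commutator_le_of_le_normalizer le_normalizer_of_normal) ?_
    exact le_centralizer_iff.1 (hfix _ hW hRW)
  obtain ⟨a₀, ha₀, ha₀V⟩ : ∃ a ∈ A, a ∉ V := by
    by_contra! h
    exact hne fun x hx => by
      obtain ⟨v, hv, a, ha, rfl⟩ := hsplit x hx
      exact mul_mem hv (h a ha)
  have hA : ∀ x ∈ A, x ∈ B ⊔ zpowers a₀ := by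
    intro x hx
    have hlt : B < B ⊔ zpowers a₀ := lt_of_le_of_ne le_sup_left fun e =>
      ha₀V (hBV (e ▸ mem_sup_right (mem_zpowers a₀)))
    have hle : B ⊔ zpowers a₀ ≤ A := sup_le inf_le_left (zpowers_le.2 ha₀)
    have h := relIndex_mul_relIndex B (B ⊔ zpowers a₀) A le_sup_left hle
    rw [hidx] at h
    rcases (Nat.dvd_prime hpp).1 (Dvd.intro_left _ h) with h' | h'
    · exact relIndex_eq_one.1 h' hx
    · rw [h'] at h
      have h2 : B.relIndex (B ⊔ zpowers a₀) = 1 :=
        Nat.eq_of_mul_eq_mul_right hpp.pos (h.trans (one_mul p).symm)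
      exact absurd (relIndex_eq_one.1 h2) (fun e => hlt.not_ge e)
  have hgen : V ⊔ zpowers a₀ = (Q : Subgroup H) := by
    refine le_antisymm (sup_le hVQ (zpowers_le.2 (hAQ ha₀))) fun x hx => ?_
    obtain ⟨v, hv, a, ha, rfl⟩ := hsplit x hx
    exact mul_mem (mem_sup_left hv) (sup_le_sup_right hBV _ (hA a ha))
  have ha₀Q := hAQ ha₀
  -- a hyperplane of `Z`
  haveI : Nontrivial Z := (nontrivial_iff_ne_bot Z).2 hZne
  obtain ⟨Z₀', hZ₀'⟩ : ∃ M : Subgroup Z, IsCoatom M :=
    (eq_top_or_exists_le_coatom (⊥ : Subgroup Z)).elim (fun h => absurd h bot_ne_top)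
      fun ⟨M, hM, _⟩ => ⟨M, hM⟩
  haveI := CfsgLib.Solvable.normal_of_coatom (Q.2.to_le (hZV.trans hVQ)) hZ₀'
  have hZ₀i : Z₀'.index = p := CfsgLib.Solvable.index_coatom (Q.2.to_le (hZV.trans hVQ)) hZ₀'
  set Z₀ := Z₀'.map Z.subtype with hZ₀def
  have hZ₀lt : Z₀ < Z := lt_of_le_of_ne (map_subtype_le _) fun e => hZ₀'.1 (by
    refine map_injective Z.subtype_injective ?_
    rw [← hZ₀def, e, ← MonoidHom.range_eq_map, range_subtype])
  let θ : V →* Z ⧸ Z₀' :=
    MonoidHom.mk' (fun v => QuotientGroup.mk ⟨⁅(v : H), a₀⁆, hcommV _ (hVQ v.2) _ ha₀Q⟩) fun v w => by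
      rw [← QuotientGroup.mk_mul]
      refine congrArg _ (Subtype.ext ?_)
      show ⁅(v : H) * w, a₀⁆ = ⁅(v : H), a₀⁆ * ⁅(w : H), a₀⁆
      rw [commutatorElement_mul_left_eq_conj_mul,
        ← hZA _ (hcommV _ (hVQ w.2) _ ha₀Q) v (hVQ v.2), mul_inv_cancel_right,
        hZA _ (hcommV _ (hVQ w.2) _ ha₀Q) _ (hVQ (hZV (hcommV _ (hVQ v.2) _ ha₀Q)))]
  have hker : θ.ker = Z.subgroupOf V := by
    ext v
    rw [MonoidHom.mem_ker]
    show (QuotientGroup.mk _ : Z ⧸ Z₀') = 1 ↔ _
    rw [QuotientGroup.eq_one_iff]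
    constructor
    · intro h
      refine h4 Z₀ hZ₀lt v (hVQ v.2) fun y hy => ?_
      have hc0 : ⁅(v : H), a₀⁆ ∈ Z₀ := ⟨_, h, rfl⟩
      rw [← hgen] at hy
      obtain ⟨w, hw, t, ht, rfl⟩ := mem_sup_of_normal_left.1 hy
      obtain ⟨i, rfl⟩ := ht
      show ⁅(v : H), w * a₀ ^ i⁆ ∈ Z₀
      rw [commutatorElement_mul_right_eq_mul_conj,
        commutatorElement_eq_one_iff_mul_comm.2 (congrArg Subtype.val
          (hVab.is_comm.comm v ⟨w, hw⟩)), one_mul,
        ← hZA _ (hcommV _ (hVQ v.2) _ (zpow_mem ha₀Q i)) w (hVQ hw), mul_inv_cancel_right]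
      have hzp : ∀ i : ℤ, ⁅(v : H), a₀ ^ i⁆ ∈ Z₀ := by
        intro i
        induction i with
        | zero => simp
        | succ i ih =>
          rw [zpow_add_one, commutatorElement_mul_right_eq_mul_conj,
            mul_assoc ⁅(v : H), a₀ ^ (i : ℤ)⁆,
            ← hZA _ (hcommV _ (hVQ v.2) _ ha₀Q) _ (zpow_mem ha₀Q _), ← mul_assoc,
            mul_inv_cancel_right]
          exact mul_mem ih hc0
        | pred i ih =>
          have h1 : ⁅(v : H), a₀ ^ (-(i : ℤ) - 1) * a₀⁆ = ⁅(v : H), a₀ ^ (-(i : ℤ) - 1)⁆ * ⁅(v : H), a₀⁆ := by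
            rw [commutatorElement_mul_right_eq_mul_conj,
              mul_assoc ⁅(v : H), a₀ ^ (-(i : ℤ) - 1)⁆,
              ← hZA _ (hcommV _ (hVQ v.2) _ ha₀Q) _ (zpow_mem ha₀Q _), ← mul_assoc,
              mul_inv_cancel_right]
          rw [← zpow_add_one, sub_add_cancel] at h1
          rw [eq_mul_inv_of_mul_eq h1.symm]
          exact mul_mem ih (inv_mem hc0)
      exact hzp i
    · intro h
      rw [show (⟨⁅(v : H), a₀⁆, hcommV _ (hVQ v.2) _ ha₀Q⟩ : Z) = 1 from Subtype.ext
        (commutatorElement_eq_one_iff_mul_comm.2 (hZA _ h _ ha₀Q))]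
      exact one_mem _
  have hrel : Z.relIndex V = p := by
    have h1 : Z.relIndex V ∣ p := by
      show (Z.subgroupOf V).index ∣ p
      rw [← hker, index_ker, ← hZ₀i, index_eq_card]
      exact card_subgroup_dvd_card _
    refine ((Nat.dvd_prime hpp).1 h1).resolve_left fun h => ha₀V (hcent fun v hv => ?_)
    exact hZA v (relIndex_eq_one.1 h hv) a₀ ha₀Q
  have hVQi : V.relIndex (Q : Subgroup H) = p := by
    have h1 : V.relIndex (Q : Subgroup H) ∣ p := by
      rw [← hgen, sup_comm, relIndex_sup_right]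
      have h2 : ∀ x ∈ zpowers a₀, x ^ p ∈ V := fun x hx =>
        hZV (hpow x (zpowers_le.2 ha₀Q hx))
      show (V.subgroupOf (zpowers a₀)).index ∣ p
      rw [index_eq_card]
      have hgen2 : ∀ x : zpowers a₀ ⧸ V.subgroupOf (zpowers a₀),
          x ∈ zpowers (QuotientGroup.mk (⟨a₀, mem_zpowers a₀⟩ : zpowers a₀)) := by
        intro x
        induction x using QuotientGroup.induction_on with
        | H y =>
          obtain ⟨y, i, rfl⟩ := y
          exact ⟨i, by
            show (QuotientGroup.mk (⟨a₀, mem_zpowers a₀⟩ : zpowers a₀) : _ ⧸ _) ^ i = _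
            rw [← QuotientGroup.mk_zpow]
            rfl⟩
      rw [← orderOf_eq_card_of_forall_mem_zpowers hgen2]
      refine orderOf_dvd_of_pow_eq_one ?_
      rw [← QuotientGroup.mk_pow, QuotientGroup.eq_one_iff]
      exact h2 a₀ (mem_zpowers a₀)
    refine ((Nat.dvd_prime hpp).1 h1).resolve_left fun h => ha₀V (relIndex_eq_one.1 h ha₀Q)
  refine ⟨hrel, ?_, ?_⟩
  · rw [← relIndex_mul_relIndex Z V (Q : Subgroup H) hZV hVQ, hrel, hVQi, pow_two]
  · by_contra! hall
    have hRZ : R₂ ≤ normalizer (Z : Set H) := by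
      intro r _
      rw [mem_normalizer_iff]
      exact fun z => ⟨hall r z, fun h => by simpa [mul_assoc] using hall r⁻¹ _ h⟩
    have hle : Z ≤ C := le_inf hZV (le_centralizer_iff.1 (hfix Z le_rfl hRZ))
    exact hZne (le_bot_iff.1 (hCbot ▸ hle))

end Core

section Frattini

variable {G : Type*} [Group G] [Finite G] {p : ℕ} [hp : Fact p.Prime]

/-- Elements centralizing `V` modulo `Φ(V)` lie in `V`, for self-centralizing `V = O_p(G)`. -/
theorem le_of_commutator_le_frattini (V : Subgroup G) [V.Normal] (hVp : IsPGroup p V)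
    (hcore : Cfsg.pCore p G ≤ V) (hcent : centralizer (V : Set G) ≤ V) (C : Subgroup G) [C.Normal]
    (hC : ⁅V, C⁆ ≤ (frattini V).map V.subtype) : C ≤ V := by
  have hCp : IsPGroup p C := by
    intro x
    obtain ⟨a, m, hm, hxam⟩ :=
      Nat.exists_eq_pow_mul_and_not_dvd (orderOf_pos x).ne' p hp.out.ne_one
    refine ⟨a, ?_⟩
    set y : G := ((x ^ p ^ a : C) : G) with hy
    have hord : orderOf y ∣ m := by
      rw [hy, Subgroup.orderOf_coe]
      exact orderOf_dvd_of_pow_eq_one (by rw [← pow_mul, ← hxam, pow_orderOf_eq_one])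
    have hcopp : (orderOf y).Coprime p :=
      Nat.Coprime.coprime_dvd_left hord ((hp.out.coprime_iff_not_dvd.2 hm).symm)
    obtain ⟨k, hk⟩ := (hVp.to_subgroup (frattini V)).exists_card_eq
    have h1 : zpowers y ≤ centralizer (V : Set G) := by
      refine Coprime.le_centralizer_of_commutator_le_frattini le_normalizer_of_normal ?_ ?_
      · rw [Nat.card_zpowers, hk]
        exact hcopp.pow_right k
      · exact (commutator_mono le_rfl (zpowers_le.2 (SetLike.coe_mem _))).trans hC
    have hyV : y ∈ V := hcent (h1 (mem_zpowers y))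
    obtain ⟨j, hj⟩ := hVp ⟨y, hyV⟩
    have hj' : y ^ p ^ j = 1 := congrArg Subtype.val hj
    have hy1 : y = 1 := orderOf_eq_one_iff.1
      (Nat.eq_one_of_dvd_coprimes (hcopp.pow_right j) dvd_rfl (orderOf_dvd_of_pow_eq_one hj'))
    exact Subtype.ext hy1
  exact (CfsgLib.PLocal.le_pCore hCp).trans hcore

end Frattini

section Transvections

variable {H : Type*} [Group H] {p : ℕ} [hp : Fact p.Prime]

private theorem pw_add {z : H} (hz : z ^ p = 1) (i j : ZMod p) :
    z ^ (i + j).val = z ^ i.val * z ^ j.val := by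
  rw [← pow_add, ZMod.val_add]
  exact (pow_eq_pow_mod _ hz).symm

private theorem pw_mul {z : H} (hz : z ^ p = 1) (i j : ZMod p) :
    z ^ (i * j).val = (z ^ i.val) ^ j.val := by
  rw [← pow_mul, ZMod.val_mul]
  exact (pow_eq_pow_mod _ hz).symm

/-- `h` acts on the pair `(z, z')` by the matrix `(A B; C D)`. -/
private def Acts (z z' h : H) (A B C D : ZMod p) : Prop :=
  h * z * h⁻¹ = z ^ A.val * z' ^ C.val ∧ h * z' * h⁻¹ = z ^ B.val * z' ^ D.val

private theorem acts_mul {z z' g h : H} {A B C D A' B' C' D' : ZMod p} (hz : z ^ p = 1)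
    (hz' : z' ^ p = 1) (hc : Commute z z') (hg : Acts z z' g A B C D)
    (hh : Acts z z' h A' B' C' D') :
    Acts z z' (g * h) (A * A' + B * C') (A * B' + B * D') (C * A' + D * C') (C * B' + D * D') := by
  have key : ∀ i j : ZMod p, g * (z ^ i.val * z' ^ j.val) * g⁻¹
      = z ^ (A * i + B * j).val * z' ^ (C * i + D * j).val := by
    intro i j
    rw [show g * (z ^ i.val * z' ^ j.val) * g⁻¹ = g * z ^ i.val * g⁻¹ * (g * z' ^ j.val * g⁻¹) by
      group, ← conj_pow, ← conj_pow, hg.1, hg.2, (hc.pow_pow _ _).mul_pow, (hc.pow_pow _ _).mul_pow,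
      pw_add hz, pw_add hz', pw_mul hz, pw_mul hz, pw_mul hz', pw_mul hz']
    have h1 : Commute ((z' ^ C.val) ^ i.val) ((z ^ B.val) ^ j.val) :=
      ((hc.symm.pow_pow _ _).pow_pow _ _)
    calc (z ^ A.val) ^ i.val * (z' ^ C.val) ^ i.val * ((z ^ B.val) ^ j.val * (z' ^ D.val) ^ j.val)
        = (z ^ A.val) ^ i.val * ((z' ^ C.val) ^ i.val * (z ^ B.val) ^ j.val) *
            (z' ^ D.val) ^ j.val := by group
      _ = _ := by rw [h1.eq]; group
  constructor
  · rw [show g * h * z * (g * h)⁻¹ = g * (h * z * h⁻¹) * g⁻¹ by group, hh.1, key]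
  · rw [show g * h * z' * (g * h)⁻¹ = g * (h * z' * h⁻¹) * g⁻¹ by group, hh.2, key]

private theorem acts_one (z z' : H) : Acts z z' 1 (1 : ZMod p) 0 0 1 := by
  haveI : Fact (1 < p) := ⟨hp.out.one_lt⟩
  constructor <;> simp [ZMod.val_one]

private theorem acts_pow_upper {z z' a : H} {k : ZMod p} (hz : z ^ p = 1) (hz' : z' ^ p = 1)
    (hc : Commute z z') (ha : Acts z z' a 1 k 0 1) (n : ℕ) :
    Acts z z' (a ^ n) 1 ((n : ZMod p) * k) 0 1 := by
  induction n with
  | zero => simpa using acts_one z z'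
  | succ n ih =>
    have := acts_mul hz hz' hc ih ha
    rw [pow_succ]
    convert this using 1 <;> push_cast <;> ring

private theorem acts_pow_lower {z z' a : H} {k : ZMod p} (hz : z ^ p = 1) (hz' : z' ^ p = 1)
    (hc : Commute z z') (ha : Acts z z' a 1 0 k 1) (n : ℕ) :
    Acts z z' (a ^ n) 1 0 ((n : ZMod p) * k) 1 := by
  induction n with
  | zero => simpa using acts_one z z'
  | succ n ih =>
    have := acts_mul hz hz' hc ih ha
    rw [pow_succ]
    convert this using 1 <;> push_cast <;> ring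

/-- For `p ≥ 5` a transvection is a commutator in the group it generates with an opposite one,
modulo the kernel of the action. -/
private theorem mem_commutator_of_transvections (h5 : 5 ≤ p) (V : Subgroup H) [V.Normal]
    {z z' : H} (hz : z ^ p = 1) (hz' : z' ^ p = 1) (hc : Commute z z')
    (hker : ∀ g : H, g * z * g⁻¹ = z → g * z' * g⁻¹ = z' → g ∈ V)
    {a u : H} (hap : a ^ p ∈ V) {k l : ZMod p} (hk : k ≠ 0) (hl : l ≠ 0)
    (ha : Acts z z' a 1 k 0 1) (hu : Acts z z' u 1 0 l 1) :
    QuotientGroup.mk' V a ∈ ⁅closure {QuotientGroup.mk' V a, QuotientGroup.mk' V u},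
      closure {QuotientGroup.mk' V a, QuotientGroup.mk' V u}⁆ := by
  have h2 : (2 : ZMod p) ≠ 0 := by
    intro e
    have : ((2 : ℕ) : ZMod p) = 0 := by exact_mod_cast e
    rw [ZMod.natCast_eq_zero_iff] at this
    have := Nat.le_of_dvd two_pos this
    omega
  let α := ((2 : ZMod p) / k).val
  let β := (-(1 / 2 : ZMod p) / l).val
  let γ := ((-1 : ZMod p) / k).val
  let δ := ((1 : ZMod p) / l).val
  have hα : (α : ZMod p) * k = 2 := by simp [α]; field_simp
  have hβ : (β : ZMod p) * l = -(1 / 2) := by simp [β]; field_simp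
  have hγ : (γ : ZMod p) * k = -1 := by simp [γ]; field_simp
  have hδ : (δ : ZMod p) * l = 1 := by simp [δ]; field_simp
  have hA : ∀ n : ℕ, Acts z z' (a ^ n) 1 ((n : ZMod p) * k) 0 1 := acts_pow_upper hz hz' hc ha
  have hU : ∀ n : ℕ, Acts z z' (u ^ n) 1 0 ((n : ZMod p) * l) 1 := acts_pow_lower hz hz' hc hu
  set w := a ^ α * u ^ β * a ^ α * (a ^ γ * u ^ δ * a ^ γ) with hw
  have hwact : Acts z z' w (2 : ZMod p) 0 0 (1 / 2) := by
    have := acts_mul hz hz' hc (acts_mul hz hz' hc (acts_mul hz hz' hc (hA α) (hU β)) (hA α))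
      (acts_mul hz hz' hc (acts_mul hz hz' hc (hA γ) (hU δ)) (hA γ))
    rw [hα, hβ, hγ, hδ] at this
    convert this using 1 <;> field_simp <;> ring
  have hwa : Acts z z' (w * a) 2 (2 * k) 0 (1 / 2) := by
    convert acts_mul hz hz' hc hwact ha using 1 <;> ring
  have ha4w : Acts z z' (a ^ 4 * w) 2 (2 * k) 0 (1 / 2) := by
    convert acts_mul hz hz' hc (hA 4) hwact using 1 <;> push_cast <;> field_simp <;> ring
  set f := QuotientGroup.mk' V
  have hmem : (a ^ 4 * w)⁻¹ * (w * a) ∈ V := by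
    have aux : ∀ x : H, (w * a) * x * (w * a)⁻¹ = (a ^ 4 * w) * x * (a ^ 4 * w)⁻¹ →
        (a ^ 4 * w)⁻¹ * (w * a) * x * ((a ^ 4 * w)⁻¹ * (w * a))⁻¹ = x := by
      intro x hx
      calc (a ^ 4 * w)⁻¹ * (w * a) * x * ((a ^ 4 * w)⁻¹ * (w * a))⁻¹
          = (a ^ 4 * w)⁻¹ * ((w * a) * x * (w * a)⁻¹) * (a ^ 4 * w) := by group
        _ = x := by rw [hx]; group
    exact hker _ (aux z (hwa.1.trans ha4w.1.symm)) (aux z' (hwa.2.trans ha4w.2.symm))
  have heq : f w * f a = f a ^ 4 * f w := by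
    rw [← map_mul, ← map_pow, ← map_mul]
    exact (QuotientGroup.eq.2 hmem).symm
  have hfw : f w ∈ closure {f a, f u} := by
    simp only [hw, map_mul, map_pow]
    exact mul_mem (mul_mem (mul_mem (pow_mem (Subgroup.subset_closure (by simp)) _)
      (pow_mem (Subgroup.subset_closure (by simp)) _)) (pow_mem (Subgroup.subset_closure (by simp)) _))
      (mul_mem (mul_mem (pow_mem (Subgroup.subset_closure (by simp)) _)
      (pow_mem (Subgroup.subset_closure (by simp)) _)) (pow_mem (Subgroup.subset_closure (by simp)) _))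
  have h3 : f a ^ 3 ∈ ⁅closure {f a, f u}, closure {f a, f u}⁆ := by
    have h := commutator_mem_commutator hfw (Subgroup.subset_closure (by simp) : f a ∈ closure {f a, f u})
    rwa [commutatorElement_def, heq, mul_inv_cancel_right,
      show f a ^ 4 * (f a)⁻¹ = f a ^ 3 by group] at h
  have hfp : f a ^ p = 1 := by rw [← map_pow]; exact (QuotientGroup.eq_one_iff _).2 hap
  have hco : Nat.Coprime 3 p := (Nat.coprime_primes Nat.prime_three hp.out).2 (by omega)
  obtain ⟨i, j, hij⟩ := Int.isCoprime_iff_gcd_eq_one.2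
    (show Int.gcd (3 : ℤ) (p : ℤ) = 1 from hco)
  have e1 : (f a ^ 3) ^ i * (f a ^ p) ^ j = f a := by
    rw [← zpow_natCast, ← zpow_natCast (f a) p, ← zpow_mul, ← zpow_mul, ← zpow_add]
    conv_rhs => rw [← zpow_one (f a)]
    congr 1
    push_cast
    linarith
  have key : (f a ^ 3) ^ i * (f a ^ p) ^ j ∈ ⁅closure {f a, f u}, closure {f a, f u}⁆ := by
    rw [hfp, one_zpow, mul_one]
    exact zpow_mem h3 i
  rwa [e1] at key

end Transvections

section Main

variable {p : ℕ} [hp : Fact p.Prime]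

/-- A perfect `p`-solvable group generated by `p`-elements is trivial. -/
theorem subsingleton_of_perfect {K : Type*} [Group K] [Finite K] (hps : Cfsg.IsPSolvable p K)
    (hperf : commutator K = ⊤) (S : Set K) (hS : closure S = ⊤) (hSp : ∀ x ∈ S, x ^ p = 1) :
    Subsingleton K := by
  by_contra hns
  rw [not_subsingleton_iff_nontrivial] at hns
  obtain ⟨N, ⟨hNn, hNne⟩, hNmax⟩ := (wellFounded_gt (α := Subgroup K)).has_min
    {N : Subgroup K | N.Normal ∧ N ≠ ⊤} ⟨⊥, inferInstance, bot_ne_top⟩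
  haveI := hNn
  haveI : Nontrivial (K ⧸ N) := QuotientGroup.nontrivial_iff.mpr hNne
  have hsimple : ∀ M : Subgroup (K ⧸ N), M.Normal → M ≠ ⊥ → M = ⊤ := by
    intro M hM hMne
    by_contra hMt
    refine hNmax (M.comap (QuotientGroup.mk' N)) ⟨hM.comap _, fun e => hMt ?_⟩ ?_
    · rw [← map_comap_eq_self_of_surjective (QuotientGroup.mk'_surjective N) M, e,
        map_top_of_surjective _ (QuotientGroup.mk'_surjective N)]
    · refine lt_of_le_of_ne (fun x hx => ?_) fun e => hMne ?_
      · show QuotientGroup.mk' N x ∈ M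
        rw [QuotientGroup.mk'_apply, (QuotientGroup.eq_one_iff x).2 hx]
        exact one_mem _
      · rw [← map_comap_eq_self_of_surjective (QuotientGroup.mk'_surjective N) M, ← e,
          QuotientGroup.map_mk'_self]
  rcases CfsgLib.PLocal.pCore_ne_bot_or_of_isPSolvable
    (CfsgLib.PLocal.isPSolvable_quotient hps N) with h | h
  · have htop := hsimple _ (CfsgLib.Solvable.pCore_normal p) h
    have hpg : IsPGroup p (K ⧸ N) :=
      (htop ▸ CfsgLib.PLocal.isPGroup_pCore p (K ⧸ N) : IsPGroup p (⊤ : Subgroup (K ⧸ N))).of_equiv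
        Subgroup.topEquiv
    haveI := hpg.isNilpotent
    have h1 : commutator (K ⧸ N) = ⊤ := by
      rw [commutator_def, ← map_top_of_surjective _ (QuotientGroup.mk'_surjective N),
        ← map_commutator, ← commutator_def, hperf]
    exact (Group.IsSolvable.commutator_lt_top_of_nontrivial (K ⧸ N)).ne h1
  · have htop := hsimple _ inferInstance h
    have hcop := CfsgLib.PLocal.coprime_card_pPrimeCore p (K ⧸ N)
    rw [htop, card_top] at hcop
    refine hNne (eq_top_iff.2 ?_)
    rw [← hS, closure_le]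
    intro x hx
    rw [SetLike.mem_coe, ← QuotientGroup.eq_one_iff, ← orderOf_eq_one_iff]
    refine Nat.eq_one_of_dvd_coprimes hcop (orderOf_dvd_natCard _) ?_
    exact orderOf_dvd_of_pow_eq_one (by rw [← QuotientGroup.mk_pow, hSp x hx]; rfl)

/-- A `p`-solvable group with trivial `p'`-core and admissible Sylow subgroup has it normal. -/
theorem sylow_le_pCore {G : Type*} [Group G] [Finite G] (hps : Cfsg.IsPSolvable p G)
    (hO : Cfsg.pPrimeCore p G = ⊥) (Q : Sylow p G) (D : Data p (Q : Subgroup G)) :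
    (Q : Subgroup G) ≤ Cfsg.pCore p G := by
  set V := Cfsg.pCore p G with hVdef
  haveI : V.Normal := CfsgLib.Solvable.pCore_normal p
  have hcent : centralizer (V : Set G) ≤ V := CfsgLib.PLocal.centralizer_pCore_le hps hO
  have hVQ : V ≤ Q := CfsgLib.PLocal.pCore_le_sylow Q
  set Z := (commutator (Q : Subgroup G)).map (Q : Subgroup G).subtype with hZdef
  have hcomm : ⁅(Q : Subgroup G), (Q : Subgroup G)⁆ = Z := (map_subtype_commutator _).symm
  have hZQ : Z ≤ Q := map_subtype_le _
  have hZmem : ∀ x : (Q : Subgroup G), x ∈ commutator (Q : Subgroup G) ↔ (x : G) ∈ Z := fun x =>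
    ⟨fun h => ⟨x, h, rfl⟩, fun ⟨y, hy, e⟩ => by rwa [← Subtype.ext e (a1 := y)]⟩
  have hZc : (Q : Subgroup G) ≤ centralizer (Z : Set G) := by
    rintro x hx _ ⟨z, hz, rfl⟩
    exact congrArg Subtype.val (mem_center_iff.1 (D.central hz) ⟨x, hx⟩).symm
  have hZV : Z ≤ V := fun z hz => hcent fun v hv => (hZc (hVQ hv) z hz).symm
  by_contra hne
  have hZne : Z ≠ ⊥ := by
    intro e
    refine hne fun x hx => hcent fun v hv => ?_
    rw [← commutatorElement_eq_one_iff_mul_comm, ← mem_bot, ← e, ← hcomm]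
    exact commutator_mem_commutator (hVQ hv) hx
  have hpow : ∀ x ∈ (Q : Subgroup G), x ^ p ∈ Z := fun x hx =>
    (hZmem (⟨x, hx⟩ ^ p)).1 (pow_mem_commutator D Q.2 _)
  have h4 : ∀ Z₀ < Z, ∀ x ∈ (Q : Subgroup G),
      (∀ y ∈ (Q : Subgroup G), ⁅x, y⁆ ∈ Z₀) → x ∈ Z := by
    intro Z₀ hlt x hx h
    refine (hZmem ⟨x, hx⟩).1 (mem_commutator_of_bracket_le D
      (Z₀ := Z₀.subgroupOf (Q : Subgroup G)) (fun y hy => (hZmem y).2 (hlt.le hy)) (fun e => ?_)
      (fun y => h y y.2))
    refine hlt.ne (le_antisymm hlt.le ?_)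
    rintro _ ⟨y, hy, rfl⟩
    exact (e.ge hy : y ∈ Z₀.subgroupOf _)
  -- the Frattini subgroup of `V`
  set Φ := (frattini V).map V.subtype with hΦdef
  haveI : Φ.Normal := CfsgLib.PLocal.normal_map_subtype V (frattini V)
  have hVp : IsPGroup p V := Q.2.to_le hVQ
  have hΦZ : Φ ≤ Z := by
    have h : frattini V ≤ Z.subgroupOf V := by
      refine CfsgLib.Solvable.frattini_le_of_elementary (p := p) ?_ fun v => hpow v (hVQ v.2)
      rw [commutator_def, commutator_le]
      intro a _ b _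
      exact hcomm.le (commutator_mem_commutator (hVQ a.2) (hVQ b.2))
    rintro _ ⟨y, hy, rfl⟩
    exact h hy
  have hΦV : Φ ≤ V := map_subtype_le _
  have hin : ∀ C : Subgroup G, C.Normal → ⁅V, C⁆ ≤ Φ → C ≤ V := fun C hC h =>
    haveI := hC
    le_of_commutator_le_frattini V hVp le_rfl hcent C h
  have hΦne : Φ ≠ Z := by
    intro e
    let C : Subgroup G :=
      (centralizer ((V.map (QuotientGroup.mk' Φ) : Subgroup (G ⧸ Φ)) : Set (G ⧸ Φ))).comap
        (QuotientGroup.mk' Φ)
    haveI : (V.map (QuotientGroup.mk' Φ)).Normal :=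
      Subgroup.Normal.map inferInstance _ (QuotientGroup.mk'_surjective Φ)
    haveI : C.Normal := Subgroup.Normal.comap inferInstance _
    have hC : C ≤ V := hin C inferInstance (by
      rw [commutator_le]
      intro v hv c hc
      rw [← QuotientGroup.eq_one_iff (N := Φ), ← QuotientGroup.mk'_apply, map_commutatorElement,
        commutatorElement_eq_one_iff_mul_comm]
      exact hc _ (mem_map_of_mem _ hv))
    refine hne fun x hx => hC ?_
    rintro _ ⟨v, hv, rfl⟩
    rw [← commutatorElement_eq_one_iff_mul_comm, ← map_commutatorElement, QuotientGroup.mk'_apply,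
      QuotientGroup.eq_one_iff, e, ← hcomm]
    exact commutator_mem_commutator (hVQ hv) hx
  have hidx : Z.relIndex (Q : Subgroup G) = p ^ 2 := by
    set f := QuotientGroup.mk' Φ with hfdef
    have hfs : Function.Surjective f := QuotientGroup.mk'_surjective Φ
    have hfker : f.ker = Φ := QuotientGroup.ker_mk' Φ
    haveI : (V.map f).Normal := Subgroup.Normal.map inferInstance f hfs
    have hVab : IsMulCommutative (V.map f) := by
      constructor
      constructor
      rintro ⟨_, a, ha, rfl⟩ ⟨_, b, hb, rfl⟩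
      apply Subtype.ext
      show f a * f b = f b * f a
      rw [← commutatorElement_eq_one_iff_mul_comm, ← map_commutatorElement]
      refine (QuotientGroup.eq_one_iff _).2 ⟨⁅(⟨a, ha⟩ : V), ⟨b, hb⟩⁆, ?_, rfl⟩
      exact CfsgLib.Solvable.commutator_le_frattini hVp
        (commutator_mem_commutator (mem_top _) (mem_top _))
    have hmapcomap : ∀ A : Subgroup G, Φ ≤ A → (A.map f).comap f = A := fun A hA => by
      rw [comap_map_eq, hfker, sup_of_le_left hA]
    refine (?_ : _ ∧ _ ∧ _ → Z.relIndex (Q : Subgroup G) = p ^ 2) (core (p := p)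
      (CfsgLib.PLocal.isPSolvable_quotient hps Φ) (V.map f) (Z.map f) (Q.mapSurjective hfs)
      (map_mono hVQ) hVab ?_ ?_ (map_mono hZV) ?_ ?_ ?_ ?_ ?_ ?_)
    · rintro ⟨-, hres, -⟩
      rw [Sylow.coe_mapSurjective] at hres
      rw [← hmapcomap Z hΦZ, relIndex_comap]
      exact hres
    · intro c hc
      obtain ⟨c, rfl⟩ := hfs c
      haveI : ((centralizer (V.map f : Set (G ⧸ Φ))).comap f).Normal :=
        Subgroup.Normal.comap inferInstance f
      refine mem_map_of_mem f (hin ((centralizer (V.map f : Set (G ⧸ Φ))).comap f) inferInstance ?_ hc)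
      rw [commutator_le]
      intro v hv c hc
      rw [← QuotientGroup.eq_one_iff (N := Φ), ← QuotientGroup.mk'_apply, ← hfdef,
        map_commutatorElement, commutatorElement_eq_one_iff_mul_comm]
      exact hc _ (mem_map_of_mem _ hv)
    · rw [eq_bot_iff]
      intro x hx
      obtain ⟨y, rfl⟩ := QuotientGroup.mk'_surjective (V.map f) x
      obtain ⟨y, rfl⟩ := hfs y
      let g := (QuotientGroup.mk' (V.map f)).comp f
      haveI : ((Cfsg.pCore p ((G ⧸ Φ) ⧸ V.map f)).comap g).Normal :=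
        (CfsgLib.Solvable.pCore_normal p).comap g
      have hgk : g.ker = V := by
        rw [← MonoidHom.comap_ker, QuotientGroup.ker_mk', hmapcomap V hΦV]
      have hle : (Cfsg.pCore p ((G ⧸ Φ) ⧸ V.map f)).comap g ≤ V :=
        CfsgLib.PLocal.le_pCore ((CfsgLib.PLocal.isPGroup_pCore p _).comap_of_ker_isPGroup g
          (hgk.symm ▸ hVp))
      rw [mem_bot, QuotientGroup.mk'_apply, QuotientGroup.eq_one_iff]
      exact mem_map_of_mem f (hle hx)
    · rw [Sylow.coe_mapSurjective, ← map_commutator, hcomm]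
    · rw [Sylow.coe_mapSurjective]
      rintro _ ⟨x, hx, rfl⟩ _ ⟨z, hz, rfl⟩
      rw [← map_mul, ← map_mul, hZc hx z hz]
    · rw [Ne, Subgroup.map_eq_bot_iff, hfker]
      exact fun h => hΦne (le_antisymm hΦZ h)
    · rw [Sylow.coe_mapSurjective]
      rintro _ ⟨x, hx, rfl⟩
      rw [← map_pow]
      exact mem_map_of_mem f (hpow x hx)
    · rw [Sylow.coe_mapSurjective]
      rintro Z₀ hlt _ ⟨x, hx, rfl⟩ h
      refine mem_map_of_mem f (h4 (Z₀.comap f) ?_ x hx fun y hy => ?_)
      · have h1 := (comap_lt_comap_of_surjective hfs).2 hlt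
        rwa [hmapcomap Z hΦZ] at h1
      · rw [mem_comap, map_commutatorElement]
        exact h _ (mem_map_of_mem f hy)
    · rw [Sylow.coe_mapSurjective]
      intro h
      have h1 := comap_mono (f := f) h
      rw [hmapcomap _ (hΦV.trans hVQ), hmapcomap V hΦV] at h1
      exact hne h1
  have hZi : (commutator (Q : Subgroup G)).index = p ^ 2 := by
    rw [← hidx]
    show _ = (Z.subgroupOf (Q : Subgroup G)).index
    congr 1
    ext x
    exact hZmem x
  have hZp : Nat.card Z ≤ p := by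
    rw [hZdef, card_map_of_injective (Subgroup.subtype_injective _)]
    exact card_commutator_le D Q.2 hZi
  have hΦbot : Φ = ⊥ := by
    refine card_eq_one.1 ?_
    obtain ⟨i, hi⟩ := (hVp.to_le hΦV).exists_card_eq
    obtain ⟨j, hj⟩ := (hVp.to_le hZV).exists_card_eq
    have h1 : Nat.card Φ < Nat.card Z :=
      Set.Finite.card_lt_card (Set.toFinite _) (lt_of_le_of_ne hΦZ hΦne : Φ < Z)
    rw [hj] at hZp h1
    rw [hi] at h1 ⊢
    have hj1 : j ≤ 1 := (Nat.pow_le_pow_iff_right hp.out.one_lt).1 (hZp.trans_eq (pow_one p).symm)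
    have := (Nat.pow_lt_pow_iff_right hp.out.one_lt).1 h1
    rw [show i = 0 by omega, pow_zero]
  have hfr : frattini V = ⊥ := by
    rwa [hΦdef, map_eq_bot_iff_of_injective _ V.subtype_injective] at hΦbot
  have hVab : IsMulCommutative V := ⟨⟨fun a b => commutatorElement_eq_one_iff_mul_comm.1 (by
    rw [← mem_bot, ← hfr]
    exact CfsgLib.Solvable.commutator_le_frattini hVp
      (commutator_mem_commutator (mem_top a) (mem_top b)))⟩⟩
  have hVpow : ∀ v ∈ V, v ^ p = 1 := fun v hv => by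
    have h := CfsgLib.Solvable.pow_mem_frattini hVp (⟨v, hv⟩ : V)
    rw [hfr, mem_bot] at h
    exact congrArg Subtype.val h
  obtain ⟨hVZ, -, y, z₀, hz₀, hz₀y⟩ := core hps V Z Q hVQ hVab hcent
    (CfsgLib.PLocal.pCore_quotient_pCore_eq_bot p G) hZV hcomm hZc hZne hpow h4 hne
  -- orders
  have hZcard : Nat.card Z = p := by
    refine le_antisymm hZp ?_
    obtain ⟨j, hj⟩ := (hVp.to_le hZV).exists_card_eq
    rw [hj]
    rcases Nat.eq_zero_or_pos j with rfl | hj0
    · exact absurd (card_eq_one.1 (hj.trans (pow_zero p))) hZne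
    · exact Nat.le_self_pow hj0.ne' p
  have hQcard : Nat.card (Q : Subgroup G) = p ^ 3 := by
    have h := card_mul_index (Z.subgroupOf (Q : Subgroup G))
    rw [Nat.card_congr (subgroupOfEquivOfLe hZQ).toEquiv, hZcard,
      show (Z.subgroupOf (Q : Subgroup G)).index = p ^ 2 from hidx] at h
    rw [← h]; ring
  have hVcard : Nat.card V = p ^ 2 := by
    have h := card_mul_index (Z.subgroupOf V)
    rw [Nat.card_congr (subgroupOfEquivOfLe hZV).toEquiv, hZcard,
      show (Z.subgroupOf V).index = p from hVZ] at h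
    rw [← h]; ring
  have hVcomm : ∀ v ∈ V, ∀ w ∈ V, Commute v w := fun v hv w hw =>
    congrArg Subtype.val (hVab.is_comm.comm ⟨v, hv⟩ ⟨w, hw⟩)
  by_cases h5 : 5 ≤ p
  · obtain ⟨a, haQ, haV⟩ := SetLike.not_le_iff_exists.1 hne
    set z' := y * z₀ * y⁻¹ with hz'def
    have hz'V : z' ∈ V := (inferInstance : V.Normal).conj_mem _ (hZV hz₀) y
    have hz0 : z₀ ≠ 1 := fun e => hz₀y (by rw [hz'def, e]; simp)
    have hz'0 : z' ≠ 1 := fun e => hz₀y (e ▸ one_mem _)
    have hgenZ : zpowers z₀ = Z := by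
      refine eq_of_le_of_card_ge (zpowers_le.2 hz₀) ?_
      rw [hZcard, Nat.card_zpowers, orderOf_eq_prime (hVpow _ (hZV hz₀)) hz0]
    have hVgen : V ≤ zpowers z₀ ⊔ zpowers z' := by
      rw [hgenZ]
      intro v hv
      have h : Z.relIndex V = Z.relIndex (Z ⊔ zpowers z') * (Z ⊔ zpowers z').relIndex V :=
        (relIndex_mul_relIndex _ _ _ le_sup_left (sup_le hZV (zpowers_le.2 hz'V))).symm
      rw [hVZ] at h
      rcases (Nat.dvd_prime hp.out).1 (Dvd.intro_left _ h.symm) with h' | h'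
      · exact relIndex_eq_one.1 h' hv
      · rw [h'] at h
        have h2 : Z.relIndex (Z ⊔ zpowers z') = 1 :=
          Nat.eq_of_mul_eq_mul_right hp.out.pos (h.symm.trans (one_mul p).symm)
        exact absurd (relIndex_eq_one.1 h2 (mem_sup_right (mem_zpowers z'))) hz₀y
    have hker : ∀ g : G, g * z₀ * g⁻¹ = z₀ → g * z' * g⁻¹ = z' → g ∈ V := by
      intro g h1 h2
      refine hcent ?_
      have h3 : zpowers z₀ ⊔ zpowers z' ≤ centralizer ({g} : Set G) :=
        sup_le (zpowers_le.2 (mem_centralizer_singleton_iff.2 (mul_inv_eq_iff_eq_mul.1 h1).symm))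
          (zpowers_le.2 (mem_centralizer_singleton_iff.2 (mul_inv_eq_iff_eq_mul.1 h2).symm))
      exact fun v hv => (mem_centralizer_singleton_iff.1 (h3 (hVgen hv)))
    have hc : Commute z₀ z' := hVcomm _ (hZV hz₀) _ hz'V
    have hzp := hVpow _ (hZV hz₀)
    have hz'p := hVpow _ hz'V
    haveI : Fact (1 < p) := ⟨hp.out.one_lt⟩
    have hpowmem : ∀ w x : G, w ^ p = 1 → x ∈ zpowers w → ∃ k : ZMod p, x = w ^ k.val := by
      intro w x hw hx
      obtain ⟨i, rfl⟩ := hx
      refine ⟨(i : ZMod p), ?_⟩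
      show w ^ i = _
      rw [← zpow_natCast, ZMod.val_intCast]
      exact zpow_eq_zpow_emod' i hw
    -- the transvection `a`
    have ha1 : a * z₀ * a⁻¹ = z₀ := by rw [← hZc haQ z₀ hz₀, mul_inv_cancel_right]
    have ha2 : ⁅a, z'⁆ ∈ zpowers z₀ := by
      rw [hgenZ, ← hcomm]
      exact commutator_mem_commutator haQ (hVQ hz'V)
    obtain ⟨k, hk⟩ := hpowmem _ _ hzp ha2
    have hk0 : k ≠ 0 := by
      intro e
      rw [e, ZMod.val_zero, pow_zero, commutatorElement_eq_one_iff_mul_comm] at hk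
      exact haV (hker a ha1 (mul_inv_eq_iff_eq_mul.2 hk))
    have hact : Acts z₀ z' a (1 : ZMod p) k 0 1 := by
      constructor
      · simp [ha1, ZMod.val_one]
      · rw [← hk, ZMod.val_one, pow_one, commutatorElement_def]; group
    set u := y * a * y⁻¹ with hudef
    have huV : u ∉ V := fun h => haV (by
      have := (inferInstance : V.Normal).conj_mem u h y⁻¹
      simpa [hudef, mul_assoc] using this)
    have hu1 : u * z' * u⁻¹ = z' := by
      rw [hudef, hz'def, show y * a * y⁻¹ * (y * z₀ * y⁻¹) * (y * a * y⁻¹)⁻¹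
        = y * (a * z₀ * a⁻¹) * y⁻¹ by group, ha1]
    have hu2 : ⁅u, z₀⁆ ∈ zpowers z' := by
      have h1 : ⁅a, y⁻¹ * z₀ * y⁆ ∈ zpowers z₀ := by
        rw [hgenZ, ← hcomm]
        exact commutator_mem_commutator haQ
          (hVQ (by simpa using (inferInstance : V.Normal).conj_mem _ (hZV hz₀) y⁻¹))
      obtain ⟨i, hi⟩ := h1
      refine ⟨i, ?_⟩
      show z' ^ i = _
      rw [hz'def, conj_zpow, show z₀ ^ i = ⁅a, y⁻¹ * z₀ * y⁆ from hi, commutatorElement_def,
        commutatorElement_def, hudef]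
      group
    obtain ⟨l, hl⟩ := hpowmem _ _ hz'p hu2
    have hl0 : l ≠ 0 := by
      intro e
      rw [e, ZMod.val_zero, pow_zero, commutatorElement_eq_one_iff_mul_comm] at hl
      exact huV (hker u (mul_inv_eq_iff_eq_mul.2 hl) hu1)
    have huact : Acts z₀ z' u (1 : ZMod p) 0 l 1 := by
      constructor
      · rw [ZMod.val_one, pow_one, (hc.pow_right l.val).eq, ← hl, commutatorElement_def]; group
      · simp [hu1, ZMod.val_one]
    have hap : a ^ p ∈ V := hZV (hpow a haQ)
    have hup : u ^ p ∈ V := by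
      rw [hudef, conj_pow]
      exact (inferInstance : V.Normal).conj_mem _ hap y
    set f := QuotientGroup.mk' V
    set K := closure {f a, f u}
    have hA : f a ∈ ⁅K, K⁆ :=
      mem_commutator_of_transvections h5 V hzp hz'p hc hker hap hk0 hl0 hact huact
    have hU : f u ∈ ⁅K, K⁆ := by
      have hswap : ∀ {g : G} {A B C D : ZMod p}, Acts z₀ z' g A B C D → Acts z' z₀ g D C B A :=
        fun h => ⟨h.2.trans (hc.pow_pow _ _).eq, h.1.trans (hc.pow_pow _ _).eq⟩
      have := mem_commutator_of_transvections h5 V hz'p hzp hc.symm (fun g h1 h2 => hker g h2 h1)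
        hup hl0 hk0 (hswap huact) (hswap hact)
      rwa [Set.pair_comm] at this
    have hKeq : ⁅K, K⁆ = K := by
      refine le_antisymm ?_ ?_
      · rw [commutator_le]
        intro x hx w hw
        exact mul_mem (mul_mem (mul_mem hx hw) (inv_mem hx)) (inv_mem hw)
      · rw [closure_le]
        rintro x (rfl | rfl)
        exacts [hA, hU]
    have hperf : commutator K = ⊤ :=
      map_injective K.subtype_injective (by
        rw [map_subtype_commutator, hKeq, ← MonoidHom.range_eq_map, range_subtype])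
    have hsub := subsingleton_of_perfect (p := p)
      (CfsgLib.PLocal.isPSolvable_subgroup (CfsgLib.PLocal.isPSolvable_quotient hps V) K) hperf
      ((Subtype.val : K → G ⧸ V) ⁻¹' {f a, f u}) closure_closure_coe_preimage (fun x hx => by
        apply Subtype.ext
        rcases hx with h | h
        · show (x : G ⧸ V) ^ p = 1
          rw [h, ← map_pow]; exact (QuotientGroup.eq_one_iff _).2 hap
        · show (x : G ⧸ V) ^ p = 1
          rw [Set.mem_singleton_iff.1 h, ← map_pow]; exact (QuotientGroup.eq_one_iff _).2 hup)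
    refine haV ((QuotientGroup.eq_one_iff a).1 ?_)
    exact congrArg Subtype.val (Subsingleton.elim (⟨f a, Subgroup.subset_closure (by simp)⟩ : K) 1)
  -- `p = 2` or `p = 3`
  have hp23 : p = 2 ∨ p = 3 := by
    have h2 := hp.out.two_le
    by_contra hcon
    obtain rfl : p = 4 := by omega
    exact absurd hp.out (by norm_num)
  classical
  set W := V.subgroupOf (Q : Subgroup G) with hWdef
  set Cm := commutator (Q : Subgroup G) with hCm
  letI := Fintype.ofFinite (Subgroup (Q : Subgroup G))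
  have hCcard : Nat.card Cm = p := by
    rw [← card_map_of_injective (Subgroup.subtype_injective (Q : Subgroup G)), ← hZdef, hZcard]
  let 𝓢 : Finset (Subgroup (Q : Subgroup G)) :=
    Finset.univ.filter fun S => Cm ≤ S ∧ Nat.card S = p ^ 2
  have hCW : Cm ≤ W := fun x hx => hZV ((hZmem x).1 hx)
  have hWS : W ∈ 𝓢 := by
    simp only [𝓢, Finset.mem_filter, Finset.mem_univ, true_and]
    exact ⟨hCW, (Nat.card_congr (subgroupOfEquivOfLe hVQ).toEquiv).trans hVcard⟩
  let step : Subgroup (Q : Subgroup G) → Subgroup (Q : Subgroup G) := fun S =>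
    S.map D.β.toMonoidHom
  have hstep : ∀ S ∈ 𝓢, step S ∈ 𝓢 := by
    intro S hS
    simp only [𝓢, Finset.mem_filter, Finset.mem_univ, true_and] at hS ⊢
    exact ⟨fun x hx => ⟨x, hS.1 hx, D.commutator_fixed x hx⟩,
      (card_map_of_injective D.β.injective).trans hS.2⟩
  have hSne : ∀ S ∈ 𝓢, step S ≠ S := by
    intro S hS e
    simp only [𝓢, Finset.mem_filter, Finset.mem_univ, true_and] at hS
    have hSt : S ≠ ⊤ := by
      intro e'
      rw [e', card_top, hQcard] at hS
      have := Nat.pow_right_injective hp.out.two_le hS.2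
      omega
    have hle := D.irr S hSt fun x hx => e.le ⟨x, hx, rfl⟩
    have h1 := Nat.le_of_dvd Nat.card_pos (card_dvd_of_le hle)
    rw [hS.2, hCcard] at h1
    have := hp.out.two_le
    nlinarith
  have hinv : D.q ≠ 2 := by
    intro hq2
    refine hSne W hWS (eq_of_le_of_card_ge ?_ ?_)
    · rintro _ ⟨x, hx, rfl⟩
      have hb2 : D.β (D.β x) = x := by
        have h := DFunLike.congr_fun (D.invol hq2) x
        rwa [pow_two, MulAut.mul_apply, MulAut.one_apply] at h
      set w := x * D.β x with hwdef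
      set c := w⁻¹ * D.β w with hcdef
      have hc : c ∈ Cm := by
        rw [hCm, hcdef, hwdef, map_mul, hb2, show (x * D.β x)⁻¹ * (D.β x * x)
          = ⁅(D.β x)⁻¹, x⁻¹⁆ by rw [commutatorElement_def]; group]
        exact commutator_mem_commutator (mem_top _) (mem_top _)
      have hw2 : D.β (D.β w) = w := by rw [hwdef, map_mul, map_mul, hb2]
      have hw3 : D.β w = w * c := by rw [hcdef, mul_inv_cancel_left]
      have hc2 : c * c = 1 := by
        rw [hw3, map_mul, D.commutator_fixed c hc, hw3, mul_assoc] at hw2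
        exact mul_eq_left.1 hw2
      have hcp : c ^ p = 1 := by
        have := orderOf_dvd_natCard (⟨c, hc⟩ : Cm)
        rw [hCcard, Subgroup.orderOf_mk] at this
        exact orderOf_dvd_iff_pow_eq_one.1 this
      have hp3 : p = 3 := hp23.resolve_left fun e => D.q_ne (by omega)
      replace hcp : c ^ 3 = 1 := by simpa only [hp3] using hcp
      rw [pow_succ, pow_two, hc2, one_mul] at hcp
      rw [hcp, mul_one] at hw3
      have hwC : w ∈ Cm := D.fixed_mem w hw3
      show D.β x ∈ W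
      rw [show D.β x = x⁻¹ * w by rw [hwdef, inv_mul_cancel_left]]
      exact mul_mem (inv_mem hx) (hCW hwC)
    · exact (card_map_of_injective D.β.injective).ge
  have hint : ∀ S ∈ 𝓢, ∀ T ∈ 𝓢, S ≠ T → S ⊓ T = Cm := by
    intro S hS T hT hST
    simp only [𝓢, Finset.mem_filter, Finset.mem_univ, true_and] at hS hT
    refine (eq_of_le_of_card_ge (le_inf hS.1 hT.1) ?_).symm
    rw [hCcard]
    obtain ⟨i, hi2, hi⟩ := (Nat.dvd_prime_pow hp.out).1 (hS.2 ▸ card_dvd_of_le (inf_le_left : S ⊓ T ≤ S))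
    rcases Nat.lt_or_ge i 2 with h | h
    · rw [hi]
      calc p ^ i ≤ p ^ 1 := Nat.pow_le_pow_right hp.out.pos (by omega)
        _ = p := pow_one p
    · obtain rfl : i = 2 := by omega
      have h1 : S ⊓ T = S := eq_of_le_of_card_ge inf_le_left (by rw [hS.2, hi])
      have h2 : S ⊓ T = T := eq_of_le_of_card_ge inf_le_right (by rw [hT.2, hi])
      exact absurd (h1.symm.trans h2) hST
  letI := Fintype.ofFinite (Q : Subgroup G)
  let out : Subgroup (Q : Subgroup G) → Finset (Q : Subgroup G) := fun S =>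
    Finset.univ.filter fun x => x ∈ S ∧ x ∉ Cm
  have hcardmem : ∀ S : Subgroup (Q : Subgroup G),
      (Finset.univ.filter fun x => x ∈ S).card = Nat.card S := fun S => by
    rw [Nat.card_eq_fintype_card, Fintype.card_subtype]
  have hout : ∀ S ∈ 𝓢, (out S).card + p = p ^ 2 := by
    intro S hS
    simp only [𝓢, Finset.mem_filter, Finset.mem_univ, true_and] at hS
    have h := Finset.card_filter_add_card_filter_not (s := Finset.univ.filter fun x => x ∈ S)
      (fun x => x ∈ Cm)
    rw [hcardmem, hS.2, Finset.filter_filter, Finset.filter_filter] at h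
    rw [show (Finset.univ.filter fun x => x ∈ S ∧ x ∈ Cm) = Finset.univ.filter fun x => x ∈ Cm
      from Finset.filter_congr fun x _ => ⟨And.right, fun h => ⟨hS.1 h, h⟩⟩, hcardmem, hCcard] at h
    show (Finset.univ.filter fun x => x ∈ S ∧ x ∉ Cm).card + p = _
    omega
  have hdisj : (𝓢 : Set (Subgroup (Q : Subgroup G))).PairwiseDisjoint out := by
    intro S hS T hT hST
    rw [Function.onFun, Finset.disjoint_left]
    intro x hx hx'
    simp only [out, Finset.mem_filter, Finset.mem_univ, true_and] at hx hx'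
    exact hx.2 (hint S hS T hT hST ▸ ⟨hx.1, hx'.1⟩)
  have hbound : 𝓢.card * (p ^ 2 - p) + p ≤ p ^ 3 := by
    have h1 : (𝓢.biUnion out).card + p ≤ p ^ 3 := by
      rw [← hQcard, Nat.card_eq_fintype_card, ← Finset.card_univ]
      refine le_trans (le_of_eq (congrArg _ (hCcard.symm.trans (hcardmem Cm).symm))) ?_
      rw [← Finset.card_union_of_disjoint (Finset.disjoint_left.2 fun x hx hx' => by
        simp only [out, Finset.mem_biUnion, Finset.mem_filter, Finset.mem_univ, true_and] at hx hx'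
        obtain ⟨S, -, -, h⟩ := hx
        exact h hx')]
      exact Finset.card_le_card (Finset.subset_univ _)
    rw [Finset.card_biUnion hdisj, Finset.sum_congr rfl (fun S hS => show (out S).card = p ^ 2 - p by
      have := hout S hS; omega), Finset.sum_const, smul_eq_mul] at h1
    exact h1
  -- the orbit of `W`
  obtain ⟨k, hk⟩ := D.ord
  have hper : Function.IsPeriodicPt step (D.q ^ k) W := by
    have hit : ∀ n, step^[n] W = W.map (D.β ^ n).toMonoidHom := by
      intro n
      induction n with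
      | zero => rw [Function.iterate_zero_apply, pow_zero]; exact (map_id W).symm
      | succ n ih =>
        rw [Function.iterate_succ_apply', ih]
        show (W.map _).map _ = _
        rw [map_map, pow_succ']
        rfl
    show step^[D.q ^ k] W = W
    rw [hit, hk]
    exact map_id W
  have hfixW : ¬ Function.IsFixedPt step W := hSne W hWS
  have hmp : 1 < Function.minimalPeriod step W := by
    rcases Nat.lt_or_ge 1 (Function.minimalPeriod step W) with h | h
    · exact h
    · exfalso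
      have hpos := hper.minimalPeriod_pos (pow_pos D.q_prime.pos k)
      exact hfixW (Function.minimalPeriod_eq_one_iff_isFixedPt.1 (by omega))
  obtain ⟨e, -, he⟩ := (Nat.dvd_prime_pow D.q_prime).1 hper.minimalPeriod_dvd
  have hqle : D.q ≤ Function.minimalPeriod step W := by
    rw [he]
    refine Nat.le_self_pow (fun e0 => ?_) _
    rw [he, e0, pow_zero] at hmp
    omega
  set orbit := (Finset.range (Function.minimalPeriod step W)).image (fun n => step^[n] W)
  have horbcard : orbit.card = Function.minimalPeriod step W := by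
    rw [Finset.card_image_of_injOn, Finset.card_range]
    intro i hi j hj h
    simp only [Finset.coe_range, Set.mem_Iio] at hi hj
    exact (Function.iterate_eq_iterate_iff_of_lt_minimalPeriod hi hj).1 h
  have horbsub : orbit ⊆ 𝓢 := by
    intro S hS
    obtain ⟨n, -, rfl⟩ := Finset.mem_image.1 hS
    clear hS
    induction n with
    | zero => exact hWS
    | succ n ih =>
      rw [Function.iterate_succ_apply']
      exact hstep _ ih
  have hle := Finset.card_le_card horbsub
  rw [horbcard] at hle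
  have hq2 := D.q_prime.two_le
  rcases hp23 with rfl | rfl
  · have hS3 : 𝓢.card ≤ 3 := by norm_num at hbound; omega
    have horb : orbit = 𝓢 := Finset.eq_of_subset_of_card_le horbsub (by rw [horbcard]; omega)
    refine hZne ?_
    have hexp : ∀ x : (Q : Subgroup G), x ^ 2 = 1 := by
      intro x
      by_cases hx : x ∈ Cm
      · exact Subtype.ext (hVpow _ (hZV ((hZmem x).1 hx)))
      have hS : Cm ⊔ zpowers x ∈ 𝓢 := by
        simp only [𝓢, Finset.mem_filter, Finset.mem_univ, true_and]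
        refine ⟨le_sup_left, ?_⟩
        haveI : Cm.Normal := inferInstanceAs (commutator (Q : Subgroup G)).Normal
        have hlt : Cm < Cm ⊔ zpowers x :=
          lt_of_le_of_ne le_sup_left fun e => hx (e ▸ mem_sup_right (mem_zpowers x))
        have h := card_mul_index (Cm.subgroupOf (Cm ⊔ zpowers x))
        rw [Nat.card_congr (subgroupOfEquivOfLe le_sup_left).toEquiv, hCcard] at h
        have h2 : Cm.relIndex (Cm ⊔ zpowers x) ∣ 2 := by
          rw [sup_comm, relIndex_sup_right]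
          show (Cm.subgroupOf (zpowers x)).index ∣ 2
          rw [index_eq_card]
          have hgen2 : ∀ z : zpowers x ⧸ Cm.subgroupOf (zpowers x),
              z ∈ zpowers (QuotientGroup.mk (⟨x, mem_zpowers x⟩ : zpowers x)) := by
            intro z
            induction z using QuotientGroup.induction_on with
            | H y =>
              obtain ⟨y, i, rfl⟩ := y
              exact ⟨i, by
                show (QuotientGroup.mk (⟨x, mem_zpowers x⟩ : zpowers x) : _ ⧸ _) ^ i = _
                rw [← QuotientGroup.mk_zpow]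
                rfl⟩
          rw [← orderOf_eq_card_of_forall_mem_zpowers hgen2]
          refine orderOf_dvd_of_pow_eq_one ?_
          rw [← QuotientGroup.mk_pow, QuotientGroup.eq_one_iff]
          exact pow_mem_commutator D Q.2 x
        have h3 : Cm.relIndex (Cm ⊔ zpowers x) ≠ 1 := fun e => hlt.not_ge (relIndex_eq_one.1 e)
        rcases (Nat.dvd_prime Nat.prime_two).1 h2 with h4 | h4
        · exact absurd h4 h3
        · rw [← h, show (Cm.subgroupOf (Cm ⊔ zpowers x)).index = 2 from h4]; rfl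
      rw [← horb] at hS
      obtain ⟨n, -, hn⟩ := Finset.mem_image.1 hS
      have hxmem : x ∈ step^[n] W := hn ▸ mem_sup_right (mem_zpowers x)
      suffices ∀ n, ∀ x ∈ step^[n] W, x ^ 2 = 1 from this n x hxmem
      intro n
      induction n with
      | zero => exact fun x hx => Subtype.ext (hVpow _ hx)
      | succ n ih =>
        intro x hx
        rw [Function.iterate_succ_apply'] at hx
        obtain ⟨w, hw, rfl⟩ := hx
        rw [← map_pow, ih w hw, map_one]
    rw [← hcomm, eq_bot_iff, commutator_le]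
    intro a ha b hb
    rw [mem_bot, commutatorElement_eq_one_iff_mul_comm]
    have hi : ∀ g : (Q : Subgroup G), g = g⁻¹ := fun g =>
      eq_inv_of_mul_eq_one_left (by rw [← pow_two]; exact hexp g)
    refine congrArg Subtype.val (show (⟨a, ha⟩ : (Q : Subgroup G)) * ⟨b, hb⟩ = ⟨b, hb⟩ * ⟨a, ha⟩ from ?_)
    rw [hi (⟨a, ha⟩ * ⟨b, hb⟩), mul_inv_rev, ← hi, ← hi]
  · have hS4 : 𝓢.card ≤ 4 := by norm_num at hbound; omega
    have hq3 : D.q ≠ 3 := D.q_ne
    have hq4 : D.q ≠ 4 := fun e => absurd (e ▸ D.q_prime) (by norm_num)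
    omega

end Main

end CfsgLib.FGS74.Admissible
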