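import Mathlib
import Cfsg.Prelude.Def_Transfer

/-!
# Characteristic subgroups under isomorphisms and surjections, and lifting elements of `q`-power order
-/

set_option autoImplicit false

namespace CfsgLib.FGS74.CharLift

open Subgroup

/-- The image of a characteristic subgroup under an isomorphism is characteristic. -/
theorem characteristic_map_equiv {G H : Type*} [Group G] [Group H] (e : G ≃* H) {W : Subgroup G}
    (hW : W.Characteristic) : (W.map e.toMonoidHom).Characteristic := by
  rw [characteristic_iff_map_le] at hW ⊢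
  rintro φ _ ⟨_, ⟨w, hw, rfl⟩, rfl⟩
  refine ⟨e.symm (φ (e w)), ?_, by simp⟩
  exact hW ((e.trans φ).trans e.symm) (mem_map_of_mem _ hw)

/-- The preimage of a characteristic subgroup under a surjection with characteristic kernel is
characteristic. -/
theorem characteristic_comap {G H : Type*} [Group G] [Group H] [Finite H] (π : G →* H)
    (hπ : Function.Surjective π) (hker : π.ker.Characteristic) {W : Subgroup H}
    (hW : W.Characteristic) : (W.comap π).Characteristic := by
  rw [characteristic_iff_map_le] at hker hW ⊢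
  rintro φ _ ⟨w, hw, rfl⟩
  have hle : π.ker ≤ (π.comp φ.toMonoidHom).ker := fun z hz =>
    hker φ (mem_map_of_mem _ hz)
  let ψ : H →* H := π.liftOfSurjective hπ ⟨π.comp φ.toMonoidHom, hle⟩
  have hψ : ∀ x, ψ (π x) = π (φ x) := fun x => MonoidHom.liftOfRightInverse_comp_apply _ _ _ _ x
  have hsurj : Function.Surjective ψ := by
    intro y
    obtain ⟨x, rfl⟩ := hπ y
    obtain ⟨z, rfl⟩ := φ.surjective x
    exact ⟨π z, hψ z⟩
  let ψe : H ≃* H := MulEquiv.ofBijective ψ ⟨Finite.injective_iff_surjective.2 hsurj, hsurj⟩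
  have h := hW ψe (mem_map_of_mem _ hw)
  show π (φ w) ∈ W
  rw [← hψ w]
  exact h

/-- The normalizer of a subgroup normalizes its characteristic subgroups. -/
theorem normalizer_le_of_characteristic {G : Type*} [Group G] [Finite G] {T : Subgroup G}
    {W : Subgroup T} (hW : W.Characteristic) :
    normalizer (T : Set G) ≤ normalizer (W.map T.subtype : Set G) := by
  rw [characteristic_iff_map_le] at hW
  intro g hg
  refine mem_normalizer_fintype (S := (W.map T.subtype : Set G)) fun w hw => ?_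
  obtain ⟨v, hv, rfl⟩ := hw
  exact ⟨_, hW (T.normalizerMonoidHom ⟨g, hg⟩) (mem_map_of_mem _ hv), rfl⟩

/-- An element whose image has `q`-power order has a power of `q`-power order with the same
image. -/
theorem exists_qpow_lift {G H : Type*} [Group G] [Group H] [Finite G] {q : ℕ} [hq : Fact q.Prime]
    (f : G →* H) (x : G) (h : ∃ k, orderOf (f x) = q ^ k) :
    ∃ y ∈ zpowers x, f y = f x ∧ ∃ j, orderOf y = q ^ j := by
  obtain ⟨k, hk⟩ := h
  obtain ⟨a, m, hm, hxam⟩ :=
    Nat.exists_eq_pow_mul_and_not_dvd (orderOf_pos x).ne' q hq.out.ne_one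
  obtain ⟨u, v, huv⟩ : IsCoprime (m : ℤ) ((q ^ k : ℕ) : ℤ) :=
    (((hq.out.coprime_iff_not_dvd).2 hm).symm.pow_right k).isCoprime
  refine ⟨x ^ (u * m), zpow_mem (mem_zpowers x) _, ?_, ?_⟩
  · have h1 : f x ^ ((q ^ k : ℕ) : ℤ) = 1 := by rw [zpow_natCast, ← hk, pow_orderOf_eq_one]
    rw [map_zpow]
    calc f x ^ (u * m) = f x ^ (u * m) * (f x ^ ((q ^ k : ℕ) : ℤ)) ^ v := by rw [h1, one_zpow, mul_one]
      _ = f x ^ (u * m + v * ((q ^ k : ℕ) : ℤ)) := by rw [zpow_add, mul_comm v, zpow_mul _ _ v]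
      _ = f x := by rw [huv, zpow_one]
  · have h2 : (x ^ (u * m)) ^ q ^ a = 1 := by
      rw [← zpow_natCast, ← zpow_mul, show u * (m : ℤ) * ((q ^ a : ℕ) : ℤ)
        = ((orderOf x : ℕ) : ℤ) * u by rw [hxam]; push_cast; ring, zpow_mul, zpow_natCast,
        pow_orderOf_eq_one, one_zpow]
    obtain ⟨j, -, hj⟩ := (Nat.dvd_prime_pow hq.out).1 (orderOf_dvd_of_pow_eq_one h2)
    exact ⟨j, hj⟩

end CfsgLib.FGS74.CharLift
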