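import Mathlib
import Cfsg.Agent.FgsSix.UnipotentDerived

/-!
# Modules of Frobenius groups without kernel-fixed points are free over the complement

Elementary proof: over a field with enough roots of unity the idempotents of the characters of an
abelian section of the kernel are permuted freely by the complement; the resulting dimension
formula `|H| * dim C_W(H) = dim W` descends to every field and, applied to `Hom(V, S)`, gives
freeness by a minimality argument.
-/

set_option autoImplicit false

open scoped TensorProduct commutatorElement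
open Module

namespace CfsgLib.FGS74.FrobFree

universe u v w

section Basic

variable {k : Type u} [Field k] {A : Type w} [Group A] {W : Type v} [AddCommGroup W] [Module k W]
variable (ρ : Representation k A W)

/-- The fixed points of a subgroup. -/
def fixedSub (N : Subgroup A) : Submodule k W where
  carrier := {x | ∀ a ∈ N, ρ a x = x}
  zero_mem' := fun _ _ => map_zero _
  add_mem' := fun hx hy a ha => by rw [map_add, hx a ha, hy a ha]
  smul_mem' := fun r x hx a ha => by rw [map_smul, hx a ha]

theorem mem_fixedSub {N : Subgroup A} {x : W} :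
    x ∈ fixedSub ρ N ↔ ∀ a ∈ N, ρ a x = x := Iff.rfl

theorem rho_inv_apply_self (a : A) (x : W) : ρ a⁻¹ (ρ a x) = x := by
  rw [← Module.End.mul_apply, ← map_mul, inv_mul_cancel, map_one, Module.End.one_apply]

theorem fixedSub_invariant (N : Subgroup A) [hN : N.Normal] (b : A) {x : W}
    (hx : x ∈ fixedSub ρ N) : ρ b x ∈ fixedSub ρ N := by
  intro a ha
  have h1 : b⁻¹ * a * b ∈ N := by simpa using hN.conj_mem a ha b⁻¹
  calc ρ a (ρ b x) = ρ b (ρ (b⁻¹ * a * b) x) := by
        rw [← Module.End.mul_apply, ← Module.End.mul_apply, ← map_mul, ← map_mul]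
        congr 2
        group
    _ = ρ b x := by rw [hx _ h1]

/-- The representation on an invariant subspace. -/
def subRep (U : Submodule k W) (hU : ∀ a, ∀ x ∈ U, ρ a x ∈ U) : Representation k A U where
  toFun a := (ρ a).restrict (hU a)
  map_one' := LinearMap.ext fun x => Subtype.ext (by simp)
  map_mul' a b := LinearMap.ext fun x => Subtype.ext (by simp)

@[simp]
theorem subRep_apply (U : Submodule k W) (hU : ∀ a, ∀ x ∈ U, ρ a x ∈ U) (a : A) (x : U) :
    (subRep ρ U hU a x : W) = ρ a x := rfl

theorem fixedSub_subRep (U : Submodule k W) (hU : ∀ a, ∀ x ∈ U, ρ a x ∈ U) (N : Subgroup A) :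
    (fixedSub (subRep ρ U hU) N).map U.subtype = U ⊓ fixedSub ρ N := by
  ext x
  simp only [Submodule.mem_map, Submodule.subtype_apply, Submodule.mem_inf, mem_fixedSub]
  constructor
  · rintro ⟨y, hy, rfl⟩
    exact ⟨y.2, fun a ha => congrArg Subtype.val (hy a ha)⟩
  · rintro ⟨hx, h⟩
    exact ⟨⟨x, hx⟩, fun a ha => Subtype.ext (h a ha), rfl⟩

variable [Finite A]

/-- The averaging operator of a subgroup. -/
noncomputable def avg (N : Subgroup A) : Module.End k W :=
  letI := Fintype.ofFinite N
  (Nat.card N : k)⁻¹ • ∑ a : N, ρ a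

theorem rho_mul_avg {N : Subgroup A} {a : A} (ha : a ∈ N) : ρ a * avg ρ N = avg ρ N := by
  letI := Fintype.ofFinite N
  simp only [avg, mul_smul_comm, Finset.mul_sum, ← map_mul]
  congr 1
  exact Fintype.sum_equiv (Equiv.mulLeft (⟨a, ha⟩ : N)) _ _ (fun _ => rfl)

theorem avg_mul_rho {N : Subgroup A} {a : A} (ha : a ∈ N) : avg ρ N * ρ a = avg ρ N := by
  letI := Fintype.ofFinite N
  simp only [avg, smul_mul_assoc, Finset.sum_mul, ← map_mul]
  congr 1
  exact Fintype.sum_equiv (Equiv.mulRight (⟨a, ha⟩ : N)) _ _ (fun _ => rfl)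

theorem avg_apply_mem {N : Subgroup A} (x : W) : avg ρ N x ∈ fixedSub ρ N := fun a ha => by
  rw [← Module.End.mul_apply, rho_mul_avg ρ ha]

theorem avg_apply_of_mem {N : Subgroup A} (hN : (Nat.card N : k) ≠ 0) {x : W}
    (hx : x ∈ fixedSub ρ N) : avg ρ N x = x := by
  letI := Fintype.ofFinite N
  simp only [avg, LinearMap.smul_apply, LinearMap.coe_sum, Finset.sum_apply]
  rw [Finset.sum_congr rfl (fun (a : N) _ => hx a a.2), Finset.sum_const, Finset.card_univ,
    ← Nat.cast_smul_eq_nsmul k, ← Nat.card_eq_fintype_card, smul_smul, inv_mul_cancel₀ hN,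
    one_smul]

theorem avg_eq_zero {N : Subgroup A} (h : fixedSub ρ N = ⊥) : avg ρ N = 0 :=
  LinearMap.ext fun x => (Submodule.mem_bot k).1 (h ▸ avg_apply_mem ρ x)

theorem fixedSub_eq_bot {N : Subgroup A} (hN : (Nat.card N : k) ≠ 0) (h : avg ρ N = 0) :
    fixedSub ρ N = ⊥ := by
  rw [Submodule.eq_bot_iff]
  intro x hx
  rw [← avg_apply_of_mem ρ hN hx, h, LinearMap.zero_apply]

theorem rho_avg_comm (N : Subgroup A) [N.Normal] (b : A) :
    ρ b * avg ρ N = avg ρ N * ρ b := by
  letI := Fintype.ofFinite N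
  simp only [avg, mul_smul_comm, smul_mul_assoc, Finset.mul_sum, Finset.sum_mul, ← map_mul]
  congr 1
  refine Fintype.sum_equiv (MulAut.conjNormal b).toEquiv _ _ (fun a => ?_)
  show ρ (b * (a : A)) = ρ ((MulAut.conjNormal b a : N) * b)
  rw [MulAut.conjNormal_apply, inv_mul_cancel_right]

theorem isCompl_fixedSub_ker_avg {N : Subgroup A} (hN : (Nat.card N : k) ≠ 0) :
    IsCompl (fixedSub ρ N) (LinearMap.ker (avg ρ N)) := by
  constructor
  · rw [Submodule.disjoint_def]
    intro x hx hk
    rw [← avg_apply_of_mem ρ hN hx, LinearMap.mem_ker.1 hk]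
  · rw [codisjoint_iff, eq_top_iff]
    intro x _
    refine Submodule.mem_sup.2 ⟨avg ρ N x, avg_apply_mem ρ x, x - avg ρ N x, ?_, by abel⟩
    rw [LinearMap.mem_ker, map_sub, avg_apply_of_mem ρ hN (avg_apply_mem ρ x), sub_self]

/-- An operator that is idempotent, orthogonal to its nontrivial translates, whose translates sum
to one makes the module free over the subgroup. -/
theorem card_mul_finrank_of_certificate [FiniteDimensional k W] (H : Subgroup A) [Fintype H]
    (P : Module.End k W) (hPP : P * P = P) (hPh : ∀ h : H, h ≠ 1 → P * ρ h * P = 0)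
    (hsum : ∑ h : H, ρ h * P * ρ (h : A)⁻¹ = 1) :
    Nat.card H * finrank k (fixedSub ρ H) = finrank k W := by
  classical
  let R : Submodule k W := LinearMap.range P
  have hfixP : ∀ x ∈ R, P x = x := by
    rintro _ ⟨y, rfl⟩
    rw [← Module.End.mul_apply, hPP]
  have hsum' : ∀ x : W, ∑ h : H, ρ h (P (ρ (h : A)⁻¹ x)) = x := fun x => by
    conv_rhs => rw [← Module.End.one_apply (R := k) x, ← hsum]
    simp only [LinearMap.coe_sum, Finset.sum_apply, Module.End.mul_apply]
  have hkey : ∀ (g h : H) (x : W), x ∈ R →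
      P (ρ (g : A)⁻¹ (ρ h x)) = if g = h then x else 0 := by
    intro g h x hx
    have he : ρ (g : A)⁻¹ (ρ h x) = ρ ((g⁻¹ * h : H) : A) x := by
      rw [← Module.End.mul_apply, ← map_mul]
      rfl
    rw [he]
    split_ifs with hgh
    · subst hgh
      rw [inv_mul_cancel, OneMemClass.coe_one, map_one, Module.End.one_apply, hfixP x hx]
    · have h1 : g⁻¹ * h ≠ 1 := fun e => hgh (inv_mul_eq_one.1 e)
      obtain ⟨y, rfl⟩ := hx
      rw [← Module.End.mul_apply, ← Module.End.mul_apply, hPh _ h1, LinearMap.zero_apply]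
  let Φ : (H → R) ≃ₗ[k] W :=
    { toFun := fun f => ∑ h : H, ρ h (f h : W)
      invFun := fun x h => ⟨P (ρ (h : A)⁻¹ x), LinearMap.mem_range_self P _⟩
      map_add' := fun f g => by simp [Finset.sum_add_distrib]
      map_smul' := fun c f => by simp [Finset.smul_sum]
      left_inv := fun f => by
        funext g
        apply Subtype.ext
        show P (ρ (g : A)⁻¹ (∑ h : H, ρ h (f h : W))) = f g
        rw [map_sum, map_sum, Finset.sum_congr rfl (fun h _ => hkey g h _ (f h).2)]
        simp
      right_inv := fun x => hsum' x }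
  let Ψ : R ≃ₗ[k] fixedSub ρ H :=
    { toFun := fun x => ⟨∑ h : H, ρ h (x : W), fun a ha => by
        rw [map_sum]
        refine Fintype.sum_equiv (Equiv.mulLeft (⟨a, ha⟩ : H)) _ _ (fun h => ?_)
        rw [← Module.End.mul_apply, ← map_mul]
        rfl⟩
      invFun := fun x => ⟨P x, LinearMap.mem_range_self P _⟩
      map_add' := fun f g => Subtype.ext (by simp [Finset.sum_add_distrib])
      map_smul' := fun c f => Subtype.ext (by simp [Finset.smul_sum])
      left_inv := fun x => by
        apply Subtype.ext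
        show P (∑ h : H, ρ h (x : W)) = x
        have := fun h : H => hkey 1 h x x.2
        simp only [OneMemClass.coe_one, inv_one, map_one, Module.End.one_apply] at this
        rw [map_sum, Finset.sum_congr rfl (fun h _ => this h)]
        simp
      right_inv := fun x => by
        apply Subtype.ext
        show ∑ h : H, ρ h (P x) = x
        conv_rhs => rw [← hsum' x]
        refine Finset.sum_congr rfl (fun h _ => ?_)
        rw [x.2 _ (H.inv_mem h.2)] }
  rw [← Φ.finrank_eq, ← Ψ.finrank_eq, Module.finrank_pi_fintype]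
  simp

theorem finrank_fixedSub_eq_add [FiniteDimensional k W] {U U' : Submodule k W}
    (h : IsCompl U U') (hU : ∀ a, ∀ x ∈ U, ρ a x ∈ U) (hU' : ∀ a, ∀ x ∈ U', ρ a x ∈ U')
    (H : Subgroup A) :
    finrank k (fixedSub ρ H) =
      finrank k (fixedSub (subRep ρ U hU) H) + finrank k (fixedSub (subRep ρ U' hU') H) := by
  rw [← Submodule.finrank_map_subtype_eq U, ← Submodule.finrank_map_subtype_eq U',
    fixedSub_subRep, fixedSub_subRep]
  have hsup : (U ⊓ fixedSub ρ H) ⊔ (U' ⊓ fixedSub ρ H) = fixedSub ρ H := by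
    refine le_antisymm (sup_le inf_le_right inf_le_right) fun x hx => ?_
    obtain ⟨a, ha, b, hb, hab⟩ := Submodule.mem_sup.1 (h.sup_eq_top ▸ Submodule.mem_top (x := x))
    have key : ∀ g ∈ H, ρ g a = a ∧ ρ g b = b := by
      intro g hg
      have h1 : ρ g a + ρ g b = a + b := by rw [← map_add, hab, hx g hg]
      have h2 : ρ g a - a = b - ρ g b := by linear_combination (norm := module) h1
      have h3 : ρ g a - a = 0 :=
        Submodule.disjoint_def.1 h.disjoint _ (U.sub_mem (hU g a ha) ha)
          (h2 ▸ U'.sub_mem hb (hU' g b hb))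
      have h4 : ρ g a = a := sub_eq_zero.1 h3
      exact ⟨h4, by rw [h4] at h1; exact add_left_cancel h1⟩
    exact Submodule.mem_sup.2
      ⟨a, ⟨ha, fun g hg => (key g hg).1⟩, b, ⟨hb, fun g hg => (key g hg).2⟩, hab⟩
  have h1 := Submodule.finrank_sup_add_finrank_inf_eq (U ⊓ fixedSub ρ H) (U' ⊓ fixedSub ρ H)
  have h2 : (U ⊓ fixedSub ρ H) ⊓ (U' ⊓ fixedSub ρ H) = ⊥ :=
    (h.disjoint.mono inf_le_left inf_le_left).eq_bot
  rw [hsup, h2, finrank_bot, add_zero] at h1
  exact h1

end Basic

section Certificate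

variable {K : Type u} [Field K] {A : Type w} [Group A] [Finite A] {W : Type v} [AddCommGroup W]
  [Module K W] (ρ : Representation K A W)

/-- An abelian kernel section produces a certificate of freeness. -/
theorem exists_certificate (N H : Subgroup A) [Fintype H] [hN : N.Normal]
    (hfpf : ∀ h ∈ H, h ≠ 1 → ∀ x ∈ N, h * x = x * h → x = 1)
    [HasEnoughRootsOfUnity K (Monoid.exponent (Abelianization N))]
    (hcard : (Nat.card N : K) ≠ 0) (hcomm : ∀ a ∈ ⁅N, N⁆, ρ a = 1) (hfix : fixedSub ρ N = ⊥) :
    ∃ P : Module.End K W, P * P = P ∧ (∀ h : H, h ≠ 1 → P * ρ h * P = 0) ∧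
      ∑ h : H, ρ h * P * ρ (h : A)⁻¹ = 1 := by
  classical
  letI := Fintype.ofFinite N
  haveI : Finite (Abelianization N →* Kˣ) :=
    Finite.of_equiv _
      (CommGroup.monoidHom_mulEquiv_of_hasEnoughRootsOfUnity (Abelianization N) K).some.toEquiv.symm
  haveI : Finite (N →* Kˣ) := Finite.of_equiv _ (Abelianization.lift (G := N) (A := Kˣ)).symm
  letI := Fintype.ofFinite (N →* Kˣ)
  let e : (N →* Kˣ) → Module.End K W := fun χ =>
    (Nat.card N : K)⁻¹ • ∑ x : N, ((χ x⁻¹ : Kˣ) : K) • ρ (x : A)
  have he_left : ∀ (χ : N →* Kˣ) (y : N), ρ (y : A) * e χ = ((χ y : Kˣ) : K) • e χ := by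
    intro χ y
    simp only [e, mul_smul_comm, Finset.mul_sum, smul_comm ((χ y : Kˣ) : K), Finset.smul_sum,
      ← map_mul]
    refine Fintype.sum_equiv (Equiv.mulLeft y) _ _ (fun x => ?_)
    simp only [Equiv.coe_mulLeft, mul_inv_rev, map_mul, Units.val_mul, Subgroup.coe_mul,
      smul_smul]
    congr 1
    rw [map_inv χ y, mul_assoc]
    congr 1
    rw [← Units.val_mul, mul_comm ((χ y)⁻¹), mul_inv_cancel, Units.val_one, mul_one]
  have he_mul : ∀ χ ψ : N →* Kˣ, e χ * e ψ = if χ = ψ then e ψ else 0 := by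
    intro χ ψ
    have h1 : e χ * e ψ
        = ((Nat.card N : K)⁻¹ * ∑ x : N, (((χ⁻¹ * ψ) x : Kˣ) : K)) • e ψ := by
      conv_lhs => rw [show e χ = (Nat.card N : K)⁻¹ • ∑ x : N, ((χ x⁻¹ : Kˣ) : K) • ρ (x : A)
        from rfl]
      rw [smul_mul_assoc, Finset.sum_mul, mul_smul, Finset.sum_smul]
      refine congrArg _ (Finset.sum_congr rfl fun x _ => ?_)
      rw [smul_mul_assoc, he_left, smul_smul]
      simp [MonoidHom.inv_apply]
    rw [h1]
    split_ifs with h
    · subst h
      simp [Nat.card_eq_fintype_card] at hcard ⊢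
      simp [hcard]
    · have hne : χ⁻¹ * ψ ≠ 1 := fun e' => h (inv_mul_eq_one.1 e')
      have h2 : (Units.coeHom K).comp (χ⁻¹ * ψ) ≠ 1 := fun e' => hne (by
        ext x
        exact congrArg (fun f : N →* K => f x) e')
      have h3 := sum_hom_units_eq_zero ((Units.coeHom K).comp (χ⁻¹ * ψ)) h2
      simp only [MonoidHom.comp_apply, Units.coeHom_apply] at h3
      rw [h3, mul_zero, zero_smul]
  have he_one : e 1 = 0 := by
    have : e 1 = avg ρ N := by
      simp only [e, avg, MonoidHom.one_apply, Units.val_one, one_smul]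
    rw [this, avg_eq_zero ρ hfix]
  have he_sum : ∑ χ : N →* Kˣ, e χ = 1 := by
    have hdual : ∀ x : N, (∑ χ : N →* Kˣ, ((χ x⁻¹ : Kˣ) : K))
        = if x ∈ commutator N then ((Nat.card (N →* Kˣ) : K)) else 0 := by
      intro x
      split_ifs with hx
      · rw [Finset.sum_congr rfl (fun χ _ => by
          rw [show χ x⁻¹ = 1 from Abelianization.commutator_subset_ker χ (inv_mem hx),
            Units.val_one])]
        simp [Nat.card_eq_fintype_card]
      · have hx' : Abelianization.of x⁻¹ ≠ 1 := by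
          intro e'
          rw [map_inv, inv_eq_one] at e'
          exact hx ((QuotientGroup.eq_one_iff x).1 e')
        obtain ⟨φ, hφ⟩ :=
          CommGroup.exists_apply_ne_one_of_hasEnoughRootsOfUnity (Abelianization N) K hx'
        have h1 : ∑ χ : N →* Kˣ, (((φ.comp Abelianization.of * χ) x⁻¹ : Kˣ) : K)
            = ∑ χ : N →* Kˣ, ((χ x⁻¹ : Kˣ) : K) :=
          Fintype.sum_equiv (Equiv.mulLeft (φ.comp Abelianization.of)) _ _ (fun _ => rfl)
        simp only [MonoidHom.mul_apply, MonoidHom.comp_apply, Units.val_mul,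
          ← Finset.mul_sum] at h1
        by_contra hne
        refine hφ (Units.ext ?_)
        exact mul_right_cancel₀ hne (h1.trans (one_mul _).symm)
    simp only [e, ← Finset.smul_sum]
    rw [Finset.sum_comm]
    simp only [← Finset.sum_smul, hdual, ite_smul, zero_smul]
    rw [← Finset.sum_filter]
    have hρ1 : ∀ x ∈ Finset.univ.filter (fun x : N => x ∈ commutator N),
        (Nat.card (N →* Kˣ) : K) • ρ (x : A) = (Nat.card (N →* Kˣ) : K) • (1 : Module.End K W) := by
      intro x hx
      rw [hcomm]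
      rw [← Subgroup.map_subtype_commutator]
      exact ⟨x, (Finset.mem_filter.1 hx).2, rfl⟩
    rw [Finset.sum_congr rfl hρ1, Finset.sum_const, ← Nat.cast_smul_eq_nsmul K, smul_smul,
      smul_smul]
    have hc : Nat.card (N →* Kˣ) = Nat.card (Abelianization N) :=
      (Nat.card_congr (Abelianization.lift (G := N) (A := Kˣ))).trans
        (CommGroup.card_monoidHom_of_hasEnoughRootsOfUnity (Abelianization N) K)
    have hf : (Finset.univ.filter (fun x : N => x ∈ commutator N)).card
        = Nat.card (commutator N) := by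
      rw [Nat.card_eq_fintype_card, Fintype.card_subtype]
    rw [hc, hf, mul_assoc, ← Nat.cast_mul,
      show Nat.card (commutator N) * Nat.card (Abelianization N) = Nat.card N from
        (commutator N).card_mul_index, inv_mul_cancel₀ hcard, one_smul]
  -- the action of the complement on characters
  let act : H → (N →* Kˣ) → (N →* Kˣ) := fun h χ =>
    χ.comp (MulAut.conjNormal (h : A)⁻¹ : N ≃* N).toMonoidHom
  have hact_one : ∀ h : H, act h 1 = 1 := fun h => MonoidHom.ext fun x => rfl
  have hact_free : ∀ h : H, h ≠ 1 → ∀ χ, act h χ = χ → χ = 1 := by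
    intro h h1 χ hχ
    let φ : N → N := fun x => x⁻¹ * (MulAut.conjNormal (h : A)⁻¹ x)
    have hinj : Function.Injective φ := by
      intro x y hxy
      have hxy' : (x : A)⁻¹ * ((h : A)⁻¹ * x * h) = (y : A)⁻¹ * ((h : A)⁻¹ * y * h) := by
        have := congrArg Subtype.val hxy
        simpa [φ, MulAut.conjNormal_apply] using this
      have hz : (h : A) * ((y : A) * (x : A)⁻¹) = ((y : A) * (x : A)⁻¹) * h := by
        calc (h : A) * ((y : A) * (x : A)⁻¹)
            = (h : A) * y * ((x : A)⁻¹ * ((h : A)⁻¹ * x * h)) * ((h : A)⁻¹ * (x : A)⁻¹ * h) := by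
              group
          _ = (h : A) * y * ((y : A)⁻¹ * ((h : A)⁻¹ * y * h)) * ((h : A)⁻¹ * (x : A)⁻¹ * h) := by
              rw [hxy']
          _ = ((y : A) * (x : A)⁻¹) * h := by group
      have := hfpf h h.2 (fun e' => h1 (Subtype.ext e')) _ (N.mul_mem y.2 (N.inv_mem x.2)) hz
      exact Subtype.ext (mul_inv_eq_one.1 this).symm
    have hsurj := Finite.surjective_of_injective hinj
    refine MonoidHom.ext fun y => ?_
    obtain ⟨x, rfl⟩ := hsurj y
    have h2 : χ (MulAut.conjNormal (h : A)⁻¹ x) = χ x := DFunLike.congr_fun hχ x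
    show χ (x⁻¹ * MulAut.conjNormal (h : A)⁻¹ x) = 1
    rw [map_mul, h2, map_inv, inv_mul_cancel]
  have hact_conj : ∀ (h : H) (χ : N →* Kˣ), ρ h * e χ * ρ (h : A)⁻¹ = e (act h χ) := by
    intro h χ
    simp only [e, mul_smul_comm, smul_mul_assoc, Finset.mul_sum, Finset.sum_mul, ← map_mul]
    congr 1
    refine Fintype.sum_equiv (MulAut.conjNormal (h : A) : N ≃* N).toEquiv _ _ (fun x => ?_)
    have hval : ((MulAut.conjNormal (h : A) x : N) : A) = (h : A) * x * (h : A)⁻¹ :=
      MulAut.conjNormal_apply _ _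
    congr 1
    · congr 1
      show χ x⁻¹ = χ (MulAut.conjNormal (h : A)⁻¹ (MulAut.conjNormal (h : A) x)⁻¹)
      congr 1
      rw [← map_inv (MulAut.conjNormal (h : A)) x]
      apply Subtype.ext
      simp [MulAut.conjNormal_apply, mul_assoc]
  let X := {χ : N →* Kˣ // χ ≠ 1}
  letI : MulAction H X :=
    { smul := fun h χ => ⟨act h χ.1, fun e' => χ.2 (by
        have h1 : act h⁻¹ (act h χ.1) = χ.1 := by
          refine MonoidHom.ext fun x => congrArg χ.1 (Subtype.ext ?_)
          simp [MulAut.conjNormal_apply, mul_assoc]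
        rw [e', hact_one] at h1
        exact h1.symm)⟩
      one_smul := fun χ => Subtype.ext (MonoidHom.ext fun x => congrArg χ.1 (Subtype.ext (by
        simp [MulAut.conjNormal_apply])))
      mul_smul := fun g h χ => Subtype.ext (MonoidHom.ext fun x => congrArg χ.1 (Subtype.ext (by
        simp [MulAut.conjNormal_apply, mul_assoc]))) }
  have hsmul : ∀ (h : H) (χ : X), (h • χ).1 = act h χ.1 := fun _ _ => rfl
  letI := Fintype.ofFinite (MulAction.orbitRel.Quotient H X)
  let f : MulAction.orbitRel.Quotient H X × H → X := fun p => p.2 • p.1.out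
  have hf : Function.Bijective f := by
    constructor
    · rintro ⟨q, h⟩ ⟨q', h'⟩ he
      simp only [f] at he
      have hq : q = q' := by
        rw [← Quotient.out_eq q, ← Quotient.out_eq q']
        refine Quotient.sound (MulAction.orbitRel_apply.2 ⟨h⁻¹ * h', ?_⟩)
        show (h⁻¹ * h') • q'.out = q.out
        rw [mul_smul, ← he, inv_smul_smul]
      subst hq
      refine Prod.ext rfl ?_
      by_contra hne
      have h1 : (h'⁻¹ * h) • q.out = q.out := by rw [mul_smul, he, inv_smul_smul]
      exact q.out.2 (hact_free (h'⁻¹ * h) (fun e' => hne (inv_mul_eq_one.1 e').symm) _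
        (congrArg Subtype.val h1))
    · intro χ
      have hr : MulAction.orbitRel H X (Quotient.mk (MulAction.orbitRel H X) χ).out χ :=
        Quotient.mk_out (s := MulAction.orbitRel H X) χ
      obtain ⟨h, hh⟩ := MulAction.orbitRel_apply.1 hr
      refine ⟨(Quotient.mk'' χ, h⁻¹), ?_⟩
      show h⁻¹ • (Quotient.mk'' χ : MulAction.orbitRel.Quotient H X).out = χ
      rw [inv_smul_eq_iff]
      exact hh.symm
  refine ⟨∑ q : MulAction.orbitRel.Quotient H X, e q.out.1, ?_, fun h h1 => ?_, ?_⟩
  · rw [Finset.sum_mul_sum]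
    refine Finset.sum_congr rfl fun q _ => ?_
    rw [Finset.sum_eq_single q (fun q' _ hne => ?_) (by simp), he_mul, if_pos rfl]
    rw [he_mul, if_neg]
    intro e'
    apply hne
    have := @hf.1 (q', (1 : H)) (q, 1) (by simp only [f, one_smul]; exact Subtype.ext e'.symm)
    exact (Prod.mk.inj this).1
  · have : ∀ Q : Module.End K W, Q * ρ h = Q * ρ h * ρ (h : A)⁻¹ * ρ h := fun Q => by
      rw [mul_assoc (Q * ρ h), ← map_mul, inv_mul_cancel, map_one, mul_one]
    set P : Module.End K W := ∑ q : MulAction.orbitRel.Quotient H X, e q.out.1 with hP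
    have hz : P * (ρ h * P * ρ (h : A)⁻¹) = 0 := by
      simp only [hP, Finset.mul_sum, Finset.sum_mul, hact_conj]
      refine Finset.sum_eq_zero fun q _ => Finset.sum_eq_zero fun q' _ => ?_
      rw [he_mul, if_neg]
      intro e'
      have := @hf.1 (q', (1 : H)) (q, h) ?_
      · exact h1 (Prod.mk.inj this).2.symm
      · simp only [f, one_smul]
        exact Subtype.ext e'
    calc P * ρ h * P = P * (ρ h * P * ρ (h : A)⁻¹) * ρ h := by
          simp only [mul_assoc]
          rw [← map_mul, inv_mul_cancel, map_one, mul_one]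
      _ = 0 := by rw [hz, zero_mul]
  · simp only [Finset.mul_sum, Finset.sum_mul, hact_conj]
    rw [Finset.sum_comm, ← Fintype.sum_prod_type']
    rw [show (∑ p : MulAction.orbitRel.Quotient H X × H, e (act p.2 p.1.out.1))
      = ∑ χ : X, e χ.1 from Fintype.sum_bijective f hf _ _ (fun _ => rfl)]
    rw [← he_sum, ← Finset.sum_subtype (Finset.univ.erase (1 : N →* Kˣ)) (by simp) e]
    exact Finset.sum_erase _ he_one

end Certificate

section Descent

variable {k : Type u} [Field k] {A : Type w} [Group A] [Finite A] {W : Type v} [AddCommGroup W]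
  [Module k W] [FiniteDimensional k W] (ρ : Representation k A W)

theorem card_mul_finrank_fixed_abelian (N H : Subgroup A) [N.Normal]
    (hfpf : ∀ h ∈ H, h ≠ 1 → ∀ x ∈ N, h * x = x * h → x = 1)
    (hcard : (Nat.card N : k) ≠ 0) (hcomm : ∀ a ∈ ⁅N, N⁆, ρ a = 1) (hfix : fixedSub ρ N = ⊥) :
    Nat.card H * finrank k (fixedSub ρ H) = finrank k W := by
  classical
  letI := Fintype.ofFinite H
  letI := Fintype.ofFinite N
  let K := AlgebraicClosure k
  let ρ' : Representation K A (K ⊗[k] W) :=
    { toFun := fun a => (ρ a).baseChange K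
      map_one' := by
        rw [map_one, Module.End.one_eq_id, LinearMap.baseChange_id]; rfl
      map_mul' := fun a b => by
        rw [map_mul, Module.End.mul_eq_comp, LinearMap.baseChange_comp]; rfl }
  have hcard' : (Nat.card N : K) ≠ 0 := by
    rw [← map_natCast (algebraMap k K)]
    exact (map_ne_zero _).2 hcard
  haveI : NeZero ((Monoid.exponent (Abelianization N) : ℕ) : K) := ⟨fun e' => hcard' (by
    obtain ⟨c, hc⟩ : Monoid.exponent (Abelianization N) ∣ Nat.card N :=
      Group.exponent_dvd_nat_card.trans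
        (Subgroup.card_quotient_dvd_card (commutator N))
    rw [hc, Nat.cast_mul, e', zero_mul])⟩
  have hfix' : fixedSub ρ' N = ⊥ := by
    refine fixedSub_eq_bot ρ' hcard' ?_
    have h2 : ∑ a : N, ρ (a : A) = 0 := by
      have h3 : avg ρ N = 0 := avg_eq_zero ρ hfix
      simp only [avg, smul_eq_zero, inv_eq_zero, hcard, false_or] at h3
      exact h3
    have h4 : ∑ a : N, ρ' (a : A) = 0 := by
      show ∑ a : N, (ρ (a : A)).baseChange K = 0
      rw [show ∑ a : N, (ρ (a : A)).baseChange K = (∑ a : N, ρ (a : A)).baseChange K from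
        (map_sum (LinearMap.baseChangeHom k K W W) _ _).symm, h2, LinearMap.baseChange_zero]
    simp only [avg, h4, smul_zero]
  have hcomm' : ∀ a ∈ ⁅N, N⁆, ρ' a = 1 := fun a ha => by
    show (ρ a).baseChange K = 1
    rw [hcomm a ha, Module.End.one_eq_id, LinearMap.baseChange_id]; rfl
  obtain ⟨P, hPP, hPh, hsum⟩ := exists_certificate ρ' N H hfpf hcard' hcomm' hfix'
  have h1 := card_mul_finrank_of_certificate ρ' H P hPP hPh hsum
  rw [Module.finrank_baseChange] at h1
  rw [← h1]
  congr 1
  let Φ : W →ₗ[k] (H → W) := LinearMap.pi fun h => ρ (h : A) - 1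
  have hΦ : LinearMap.ker Φ = fixedSub ρ H := by
    ext x
    simp only [LinearMap.mem_ker, mem_fixedSub]
    constructor
    · intro hx a ha
      exact sub_eq_zero.1 (congrFun hx ⟨a, ha⟩)
    · intro hx
      funext h
      exact sub_eq_zero.2 (hx h h.2)
  have hΦ' : LinearMap.ker (Φ.baseChange K) = fixedSub ρ' H := by
    ext x
    have key : ∀ (y : K ⊗[k] W) (h : H),
        TensorProduct.piRight k K K (fun _ : H => W) (Φ.baseChange K y) h
          = ρ' (h : A) y - y := by
      intro y h
      induction y using TensorProduct.induction_on with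
      | zero => simp
      | tmul c z => simp [Φ, ρ', TensorProduct.tmul_sub]
      | add y z hy hz =>
        simp only [map_add, Pi.add_apply, hy, hz]
        abel
    simp only [LinearMap.mem_ker, mem_fixedSub]
    constructor
    · intro hx a ha
      have := key x ⟨a, ha⟩
      rw [hx, map_zero] at this
      exact sub_eq_zero.1 this.symm
    · intro hx
      apply (TensorProduct.piRight k K K (fun _ : H => W)).injective
      rw [map_zero]
      funext h
      rw [key, hx h h.2, sub_self]
      rfl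
  have hex : LinearMap.ker (Φ.baseChange K)
      = LinearMap.range ((LinearMap.ker Φ).subtype.baseChange K) :=
    LinearMap.exact_iff.1 (Module.Flat.lTensor_exact K Φ.exact_subtype_ker_map)
  have hinj : Function.Injective ((LinearMap.ker Φ).subtype.baseChange K) :=
    Module.Flat.lTensor_preserves_injective_linearMap _ (LinearMap.ker Φ).subtype_injective
  rw [← hΦ, ← hΦ', hex, LinearMap.finrank_range_of_inj hinj, Module.finrank_baseChange]

end Descent

section Induction

variable {k : Type u} [Field k] {A : Type w} [Group A] [Finite A]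

/-- Dimension formula for modules without fixed points of a solvable kernel. -/
theorem card_mul_finrank_fixed (H : Subgroup A) (N : Subgroup A) [N.Normal] [Group.IsSolvable N]
    (hfpf : ∀ h ∈ H, h ≠ 1 → ∀ x ∈ N, h * x = x * h → x = 1) (hcard : (Nat.card N : k) ≠ 0)
    {W : Type v} [AddCommGroup W] [Module k W] [FiniteDimensional k W] (ρ : Representation k A W)
    (hfix : fixedSub ρ N = ⊥) : Nat.card H * finrank k (fixedSub ρ H) = finrank k W := by
  induction hn : Nat.card N using Nat.strong_induction_on generalizing N W with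
  | _ n ih =>
    subst hn
    by_cases hN : N = ⊥
    · subst hN
      have htop : fixedSub ρ (⊥ : Subgroup A) = ⊤ := by
        rw [eq_top_iff]
        intro x _ a ha
        rw [Subgroup.mem_bot.1 ha, map_one, Module.End.one_apply]
      haveI : Subsingleton W := by
        rw [← not_nontrivial_iff_subsingleton]
        intro hW
        exact bot_ne_top (hfix.symm.trans htop)
      simp [Module.finrank_zero_of_subsingleton]
    haveI : Nontrivial N := (Subgroup.nontrivial_iff_ne_bot N).2 hN
    have hlt : ⁅N, N⁆ < N := by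
      refine lt_of_le_of_ne (Subgroup.commutator_le_right N N) fun e' => ?_
      refine (Group.IsSolvable.commutator_lt_top_of_nontrivial N).ne ?_
      apply Subgroup.map_injective N.subtype_injective
      rw [Subgroup.map_subtype_commutator, ← MonoidHom.range_eq_map, Subgroup.range_subtype, e']
    set D : Subgroup A := ⁅N, N⁆ with hD
    have hDcard : (Nat.card D : k) ≠ 0 := fun e' => hcard (by
      obtain ⟨c, hc⟩ := Subgroup.card_dvd_of_le hlt.le
      rw [hc, Nat.cast_mul, e', zero_mul])
    have hc := isCompl_fixedSub_ker_avg ρ hDcard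
    have hU : ∀ a, ∀ x ∈ fixedSub ρ D, ρ a x ∈ fixedSub ρ D := fun a x hx =>
      fixedSub_invariant ρ D a hx
    have hU' : ∀ a, ∀ x ∈ LinearMap.ker (avg ρ D), ρ a x ∈ LinearMap.ker (avg ρ D) := by
      intro a x hx
      rw [LinearMap.mem_ker, ← Module.End.mul_apply, ← rho_avg_comm, Module.End.mul_apply,
        LinearMap.mem_ker.1 hx, map_zero]
    rw [finrank_fixedSub_eq_add ρ hc hU hU' H, mul_add, ← Submodule.finrank_add_eq_of_isCompl hc]
    congr 1
    · refine card_mul_finrank_fixed_abelian _ N H hfpf hcard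
        (fun a ha => LinearMap.ext fun x => Subtype.ext (x.2 a ha)) ?_
      rw [Submodule.eq_bot_iff]
      intro x hx
      exact Subtype.ext ((Submodule.mem_bot k).1 (hfix ▸ fun a ha => congrArg Subtype.val (hx a ha)))
    · haveI : Group.IsSolvable D :=
        Group.isSolvable_of_isSolvable_injective (Subgroup.inclusion_injective hlt.le)
      refine ih (Nat.card D) ?_ D (fun h hh h1 x hx => hfpf h hh h1 x (hlt.le hx)) hDcard _ ?_ rfl
      · exact Set.Finite.card_lt_card (Set.toFinite _) hlt
      · rw [Submodule.eq_bot_iff]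
        intro x hx
        apply Subtype.ext
        have h1 := avg_apply_of_mem ρ hDcard (x := (x : W))
          (fun a ha => congrArg Subtype.val (hx a ha))
        rw [← h1, LinearMap.mem_ker.1 x.2]
        rfl

end Induction

section Generation

variable {k : Type u} [Field k] {G : Type w} [Group G] {V : Type v} [AddCommGroup V] [Module k V]
  [FiniteDimensional k V] (ρ : Representation k G V)

/-- The invariant subspace generated by a family of vectors. -/
def gen {n : ℕ} (v : Fin n → V) : Submodule k V :=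
  Submodule.span k (Set.range fun p : G × Fin n => ρ p.1 (v p.2))

theorem gen_invariant {n : ℕ} (v : Fin n → V) (g : G) {x : V} (hx : x ∈ gen ρ v) :
    ρ g x ∈ gen ρ v := by
  induction hx using Submodule.span_induction with
  | mem x hx =>
    obtain ⟨⟨h, i⟩, rfl⟩ := hx
    exact Submodule.subset_span ⟨(g * h, i), by simp⟩
  | zero => simp
  | add x y _ _ hx hy => rw [map_add]; exact Submodule.add_mem _ hx hy
  | smul c x _ hx => rw [map_smul]; exact Submodule.smul_mem _ c hx

theorem self_mem_gen {n : ℕ} (v : Fin n → V) (i : Fin n) : v i ∈ gen ρ v :=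
  Submodule.subset_span ⟨(1, i), by simp⟩

/-- The counting step of the generation argument. -/
theorem finrank_invariants_ne {n : ℕ} {S : Type v} [AddCommGroup S] [Module k S]
    [FiniteDimensional k S] (σ : Representation k G S) (K : Submodule k V)
    (hKinv : ∀ g, ∀ x ∈ K, ρ g x ∈ K) (v : Fin n → V) (hv : gen ρ v ⊔ K = ⊤)
    (φ : ∀ v' : Fin n → V, gen ρ v' ⊔ K = ⊤ → (V →ₗ[k] S))
    (hmem : ∀ v' hv', φ v' hv' ∈ (Representation.linHom ρ σ).invariants)
    (hzero : ∀ v' hv' i, φ v' hv' (v' i) = 0)
    (hagree : ∀ v' hv', ∀ x ∈ K, φ v' hv' x = φ v hv x)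
    (hsurj : ∀ s : S, ∃ x ∈ K, φ v hv x = s) (hne : ∃ x ∈ K, φ v hv x ≠ 0)
    (hd : finrank k (Representation.linHom ρ σ).invariants = n * finrank k S) : False := by
  let M : Submodule k (Representation.linHom ρ σ).invariants :=
    { carrier := {f | ∀ x ∈ K, (f.1 : V →ₗ[k] S) x = 0}
      zero_mem' := fun x _ => rfl
      add_mem' := fun {f g} hf hg x hx => by simp [hf x hx, hg x hx]
      smul_mem' := fun c f hf x hx => by simp [hf x hx] }
  have hM : M ≠ ⊤ := by
    intro e'
    obtain ⟨x, hx, hx0⟩ := hne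
    have h1 : (⟨φ v hv, hmem v hv⟩ : (Representation.linHom ρ σ).invariants) ∈ M :=
      e' ▸ Submodule.mem_top
    exact hx0 (h1 x hx)
  let T : M →ₗ[k] (Fin n → S) :=
    { toFun := fun f i => (f.1.1 : V →ₗ[k] S) (v i)
      map_add' := fun f g => rfl
      map_smul' := fun c f => rfl }
  have hT : Function.Surjective T := by
    intro s
    choose w hwK hws using fun i => hsurj (s i)
    let v' : Fin n → V := fun i => v i + w i
    have hv' : gen ρ v' ⊔ K = ⊤ := by
      rw [eq_top_iff, ← hv]
      refine sup_le ?_ le_sup_right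
      rw [gen, Submodule.span_le]
      rintro _ ⟨⟨g, i⟩, rfl⟩
      refine Submodule.mem_sup.2 ⟨ρ g (v' i), Submodule.subset_span ⟨(g, i), rfl⟩,
        -ρ g (w i), K.neg_mem (hKinv g _ (hwK i)), ?_⟩
      simp [v']
    refine ⟨⟨⟨φ v hv - φ v' hv', Submodule.sub_mem _ (hmem v hv) (hmem v' hv')⟩, ?_⟩, ?_⟩
    · intro x hx
      show φ v hv x - φ v' hv' x = 0
      rw [hagree v' hv' x hx, sub_self]
    · funext i
      show φ v hv (v i) - φ v' hv' (v i) = s i
      have h1 := hzero v' hv' i
      rw [show v' i = v i + w i from rfl, map_add, hagree v' hv' _ (hwK i), hws i] at h1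
      rw [hzero v hv i, zero_sub, eq_neg_of_add_eq_zero_left h1, neg_neg]
  have h1 := LinearMap.finrank_le_finrank_of_surjective hT
  have h2 : finrank k M < finrank k (Representation.linHom ρ σ).invariants :=
    Submodule.finrank_lt hM
  rw [Module.finrank_pi_fintype] at h1
  simp at h1
  omega

/-- If every space of intertwining maps into a module `S` has dimension `n * dim S` then `n`
elements generate. -/
theorem exists_generators (n : ℕ)
    (hdim : ∀ (S : Type v) [AddCommGroup S] [Module k S] [FiniteDimensional k S]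
      (σ : Representation k G S),
      finrank k (Representation.linHom ρ σ).invariants = n * finrank k S) :
    ∃ v : Fin n → V, gen ρ v = ⊤ := by
  classical
  let P : Submodule k V → Prop := fun K =>
    (∀ g, ∀ x ∈ K, ρ g x ∈ K) ∧ ∃ v : Fin n → V, gen ρ v ⊔ K = ⊤
  obtain ⟨K, ⟨hKinv, v, hv⟩, hKmin⟩ := (wellFounded_lt (α := Submodule k V)).has_min {K | P K}
    ⟨⊤, fun _ _ _ => Submodule.mem_top, 0, by simp⟩
  rcases eq_or_ne K ⊥ with hK | hK
  · exact ⟨v, by rwa [hK, sup_bot_eq] at hv⟩
  exfalso
  obtain ⟨K0, ⟨hK0inv, hK0lt⟩, hK0max⟩ := (wellFounded_gt (α := Submodule k V)).has_min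
    {L | (∀ g, ∀ x ∈ L, ρ g x ∈ L) ∧ L < K}
    ⟨⊥, fun g x hx => by rw [(Submodule.mem_bot k).1 hx, map_zero]; exact Submodule.zero_mem _,
      bot_lt_iff_ne_bot.2 hK⟩
  -- every choice of generators gives a complement of `K` modulo `K0`
  have hdich : ∀ v' : Fin n → V, gen ρ v' ⊔ K = ⊤ → (gen ρ v' ⊔ K0) ⊓ K = K0 := by
    intro v' hv'
    by_contra hne
    have hinv : ∀ g, ∀ x ∈ (gen ρ v' ⊔ K0) ⊓ K, ρ g x ∈ (gen ρ v' ⊔ K0) ⊓ K := by
      rintro g x ⟨hx, hxK⟩
      refine ⟨?_, hKinv g x hxK⟩
      obtain ⟨a, ha, b, hb, rfl⟩ := Submodule.mem_sup.1 hx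
      rw [map_add]
      exact Submodule.add_mem_sup (gen_invariant ρ v' g ha) (hK0inv g b hb)
    have hle : K0 ≤ (gen ρ v' ⊔ K0) ⊓ K := le_inf le_sup_right hK0lt.le
    rcases lt_or_eq_of_le (inf_le_right : (gen ρ v' ⊔ K0) ⊓ K ≤ K) with hlt | heq
    · exact hK0max _ ⟨hinv, hlt⟩ (lt_of_le_of_ne hle (Ne.symm hne))
    · have hKle : K ≤ gen ρ v' ⊔ K0 := inf_eq_right.1 heq
      have : gen ρ v' ⊔ K0 = ⊤ := eq_top_iff.2 (hv' ▸ sup_le le_sup_left hKle)
      exact hKmin K0 ⟨hK0inv, v', this⟩ hK0lt
  -- the quotient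
  let S : Submodule k (V ⧸ K0) := K.map K0.mkQ
  have hQ : ∀ g, K0 ≤ K0.comap (ρ g) := fun g x hx => hK0inv g x hx
  let ρQ : Representation k G (V ⧸ K0) :=
    { toFun := fun g => K0.mapQ K0 (ρ g) (hQ g)
      map_one' := by
        ext x
        simp
      map_mul' := fun g h => by
        ext x
        simp }
  have hρQ : ∀ g (x : V), ρQ g (K0.mkQ x) = K0.mkQ (ρ g x) := fun g x => rfl
  have hSinv : ∀ g, ∀ x ∈ S, ρQ g x ∈ S := by
    rintro g _ ⟨x, hx, rfl⟩
    exact ⟨ρ g x, hKinv g x hx, (hρQ g x).symm⟩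
  let σ : Representation k G S := subRep ρQ S hSinv
  have hcompl : ∀ v' : Fin n → V, gen ρ v' ⊔ K = ⊤ → IsCompl S ((gen ρ v').map K0.mkQ) := by
    intro v' hv'
    constructor
    · rw [Submodule.disjoint_def]
      rintro _ ⟨a, ha, rfl⟩ ⟨b, hb, hab⟩
      have h1 : a - b ∈ K0 := by
        rw [← Submodule.Quotient.eq K0]
        exact hab.symm
      have h2 : a ∈ (gen ρ v' ⊔ K0) ⊓ K :=
        ⟨Submodule.mem_sup.2 ⟨b, hb, a - b, h1, by abel⟩, ha⟩
      rw [hdich v' hv'] at h2
      exact (Submodule.Quotient.mk_eq_zero K0).2 h2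
    · rw [codisjoint_iff, sup_comm, ← Submodule.map_sup, hv', Submodule.map_top,
        Submodule.range_mkQ]
  have hπ : ∀ (v' : Fin n → V) (hv' : gen ρ v' ⊔ K = ⊤) g (x : V ⧸ K0),
      S.projectionOnto _ (hcompl v' hv') (ρQ g x)
        = σ g (S.projectionOnto _ (hcompl v' hv') x) := by
    intro v' hv' g x
    obtain ⟨a, ha, b, hb, rfl⟩ := Submodule.mem_sup.1
      ((hcompl v' hv').sup_eq_top ▸ Submodule.mem_top (x := x))
    have hb' : ρQ g b ∈ (gen ρ v').map K0.mkQ := by
      obtain ⟨c, hc, rfl⟩ := hb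
      exact ⟨ρ g c, gen_invariant ρ v' g hc, (hρQ g c).symm⟩
    simp only [map_add, Submodule.projectionOnto_apply_of_mem_right _ hb,
      Submodule.projectionOnto_apply_of_mem_right _ hb',
      Submodule.projectionOnto_apply_of_mem_left _ ha,
      Submodule.projectionOnto_apply_of_mem_left _ (hSinv g a ha), add_zero, map_zero]
    exact Subtype.ext rfl
  let φ : ∀ v' : Fin n → V, gen ρ v' ⊔ K = ⊤ → (V →ₗ[k] S) := fun v' hv' =>
    (S.projectionOnto _ (hcompl v' hv')).comp K0.mkQ
  have hφmem : ∀ v' hv', φ v' hv' ∈ (Representation.linHom ρ σ).invariants := by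
    intro v' hv' g
    ext x
    show ((σ g (φ v' hv' (ρ g⁻¹ x)) : S) : V ⧸ K0) = φ v' hv' x
    have : σ g (φ v' hv' (ρ g⁻¹ x)) = φ v' hv' x := by
      simp only [φ, LinearMap.comp_apply]
      rw [← hπ v' hv', hρQ, ← Module.End.mul_apply, ← map_mul, mul_inv_cancel, map_one,
        Module.End.one_apply]
    rw [this]
  refine finrank_invariants_ne ρ σ K hKinv v hv φ hφmem ?_ ?_ ?_ ?_ (hdim S σ)
  · intro v' hv' i
    have hm : K0.mkQ (v' i) ∈ (gen ρ v').map K0.mkQ :=
      Submodule.mem_map_of_mem (self_mem_gen ρ v' i)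
    simp only [φ, LinearMap.comp_apply]
    exact Submodule.projectionOnto_apply_of_mem_right (hcompl v' hv') hm
  · intro v' hv' x hx
    have hm : K0.mkQ x ∈ S := Submodule.mem_map_of_mem hx
    simp only [φ, LinearMap.comp_apply]
    rw [Submodule.projectionOnto_apply_of_mem_left (hcompl v' hv') hm,
      Submodule.projectionOnto_apply_of_mem_left (hcompl v hv) hm]
  · intro s
    obtain ⟨x, hx, hxs⟩ := s.2
    exact ⟨x, hx, by
      simp only [φ, LinearMap.comp_apply, hxs]
      exact Submodule.projectionOnto_apply_left _ s⟩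
  · obtain ⟨x, hxK, hx0⟩ := SetLike.exists_of_lt hK0lt
    refine ⟨x, hxK, fun h1 => hx0 ?_⟩
    simp only [φ, LinearMap.comp_apply] at h1
    rw [Submodule.projectionOnto_apply_of_mem_left _ (Submodule.mem_map_of_mem hxK)] at h1
    exact (Submodule.Quotient.mk_eq_zero K0).1 (congrArg Subtype.val h1)

end Generation

end CfsgLib.FGS74.FrobFree
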