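import Cfsg.Agent.Solvable.Frattini
import Cfsg.Agent.ExtraspecialIso.Basic
import Cfsg.Agent.S4400
import Cfsg.Agent.S4401
import Cfsg.Agent.FGS74.SectionalTwo
import Cfsg.Prelude.Def_OddOrderLocal

/-!
# 2-groups of sectional rank at most two are metacyclic

* `exists_gen_mem_zpowers`: the case of class two with derived subgroup of order two.
* `commutator_le_zpowers`: Blackburn's lifting.
* `isMetacyclic_of_sectional`.
-/

set_option autoImplicit false

universe u

namespace CfsgLib.FGS74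

open Subgroup CfsgLib.ExtraspecialIso
open scoped commutatorElement Pointwise

variable {Q : Type*} [Group Q]

/-- A generating pair whose commutator is a central involution. -/
structure GenPair (a b c : Q) : Prop where
  pair : Pair 2 a b c
  gen : closure ({a, b} : Set Q) = ⊤

theorem GenPair.csq {a b c : Q} (h : GenPair a b c) : c * c = 1 := by
  rw [← pow_two, ← h.pair.order, pow_orderOf_eq_one]

theorem GenPair.symm {a b c : Q} (h : GenPair a b c) : GenPair b a c := by
  refine ⟨⟨?_, h.pair.central, h.pair.order⟩, by rw [Set.pair_comm]; exact h.gen⟩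
  rw [h.pair.comm, mul_assoc, h.csq, mul_one]

theorem GenPair.sq {a b c : Q} (h : GenPair a b c) (i j : ℤ) :
    (a ^ i * b ^ j) ^ 2 = a ^ (2 * i) * b ^ (2 * j) * c ^ (i * j) := by
  have hc : Commute (b ^ j) (c ^ (i * j)) := ((h.pair.commute_z b).zpow_zpow _ _)
  calc (a ^ i * b ^ j) ^ 2 = a ^ i * (b ^ j * a ^ i) * b ^ j := by rw [pow_two]; group
    _ = a ^ i * (a ^ i * b ^ j * c ^ (i * j)) * b ^ j := by rw [h.pair.swap]
    _ = a ^ i * a ^ i * b ^ j * (c ^ (i * j) * b ^ j) := by group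
    _ = a ^ (2 * i) * b ^ (2 * j) * c ^ (i * j) := by rw [← hc.eq]; group

theorem GenPair.sq_two {a b c : Q} (h : GenPair a b c) (i j : ℤ) (k : ℕ) :
    (a ^ i * b ^ j) ^ 2 ^ (k + 2) = a ^ (2 ^ (k + 2) * i : ℤ) * b ^ (2 ^ (k + 2) * j : ℤ) := by
  have hc : c ^ (2 : ℤ) = 1 := by rw [zpow_two, h.csq]
  have e : ∀ i j : ℤ, 2 ∣ i * j → (a ^ i * b ^ j) ^ 2 = a ^ (2 * i) * b ^ (2 * j) := by
    rintro i j ⟨l, hl⟩
    rw [h.sq, hl, zpow_mul c, hc, one_zpow, mul_one]
  induction k with
  | zero =>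
    show (a ^ i * b ^ j) ^ 4 = _
    have h1 : (a ^ i * b ^ j) ^ 4 = ((a ^ i * b ^ j) ^ 2) ^ 2 := by rw [← pow_mul]
    rw [h1, h.sq]
    have hcomm : Commute (a ^ (2 * i) * b ^ (2 * j)) (c ^ (i * j)) :=
      ((h.pair.commute_z _).zpow_right _)
    rw [hcomm.mul_pow, e _ _ ⟨2 * i * j, by ring⟩, ← zpow_natCast (c ^ (i * j)) 2, ← zpow_mul,
      show i * j * ((2 : ℕ) : ℤ) = 2 * (i * j) by push_cast; ring, zpow_mul c, hc, one_zpow, mul_one]
    congr 2 <;> ring
  | succ k ih =>
    rw [show k + 1 + 2 = (k + 2) + 1 by omega, pow_succ, pow_mul, ih,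
      e _ _ ⟨2 ^ (k + 1) * i * (2 ^ (k + 2) * j), by ring⟩]
    congr 2 <;> ring

/-- An odd power generates a 2-element. -/
theorem mem_zpowers_odd (hQ : IsPGroup 2 Q) (a : Q) {i : ℤ} (hi : Odd i) : a ∈ zpowers (a ^ i) := by
  obtain ⟨m, hm⟩ := hQ a
  have hcop : IsCoprime i ((2 : ℤ) ^ m) := by
    refine IsCoprime.pow_right ?_
    obtain ⟨l, rfl⟩ := hi
    exact ⟨1, -l, by ring⟩
  obtain ⟨x, y, hxy⟩ := hcop
  refine ⟨x, ?_⟩
  show (a ^ i) ^ x = a
  rw [← zpow_mul]
  conv_rhs => rw [← zpow_one a, ← hxy, zpow_add, mul_comm y ((2 : ℤ) ^ m), zpow_mul a ((2 : ℤ) ^ m),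
    show a ^ ((2 : ℤ) ^ m) = 1 by exact_mod_cast hm, one_zpow, mul_one, mul_comm]

variable [Finite Q]

/-- The relation forced by sectional rank two in the maximal subgroup `⟨a², b⟩Q'`. -/
theorem GenPair.rel {a b c : Q} (h : GenPair a b c) (hQ : IsPGroup 2 Q)
    (hr : Cfsg.SectionalPRankLE 2 2 Q) :
    ∃ e g : ℕ, (e % 2 = 1 ∨ g % 2 = 1) ∧ ∃ i j : ℤ, a ^ (2 * e) * c ^ g = a ^ (4 * i) * b ^ (2 * j) := by
  classical
  have hcent : ∀ x : Q, Commute x c := h.pair.commute_z
  have hab : Commute (a ^ 2) b := by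
    have h2 := h.pair.swap 2 1
    rw [zpow_one, show ((2 : ℤ) * 1) = 2 by norm_num, zpow_two c, h.csq, mul_one] at h2
    exact_mod_cast h2.symm
  have ha2Z : a ^ 2 ∈ center Q := by
    rw [mem_center_iff]
    intro x
    have hle : closure ({a, b} : Set Q) ≤ centralizer {a ^ 2} := (closure_le _).2 (by
      rintro w (rfl | rfl)
      · exact mem_centralizer_singleton_iff.2 ((Commute.refl w).pow_right 2).eq
      · exact mem_centralizer_singleton_iff.2 hab.symm.eq)
    exact mem_centralizer_singleton_iff.1 (hle (h.gen.ge (mem_top x)))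
  let W : Set Q := {a ^ 2, b, c}
  let A := closure W
  have hA : ∀ x ∈ A, ∀ y ∈ A, x * y = y * x := by
    intro x hx y hy
    have hle : A ≤ centralizer W := by
      refine (closure_le _).2 ?_
      rintro u (rfl | rfl | rfl) <;> rw [SetLike.mem_coe, mem_centralizer_iff] <;>
        rintro v (rfl | rfl | rfl)
      all_goals first
        | rfl
        | exact (mem_center_iff.1 ha2Z _)
        | exact (mem_center_iff.1 ha2Z _).symm
        | exact (hcent _).eq
        | exact (hcent _).eq.symm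
    have h1 : A ≤ centralizer (A : Set Q) := by
      rw [show (A : Set Q) = (closure W : Set Q) from rfl, centralizer_closure]
      exact hle
    exact (mem_centralizer_iff.1 (h1 hy) x hx)
  letI : CommGroup A := { (inferInstance : Group A) with mul_comm := fun x y => Subtype.ext (hA x x.2 y y.2) }
  have haA : a ^ 2 ∈ A := subset_closure (by simp [W])
  have hbA : b ∈ A := subset_closure (by simp [W])
  have hcA : c ∈ A := subset_closure (by simp [W])
  let A2 : Subgroup A := (powMonoidHom 2).range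
  have hsq : ∀ x : ↥A ⧸ A2, x ^ 2 = 1 := by
    intro x
    obtain ⟨x, rfl⟩ := QuotientGroup.mk'_surjective A2 x
    rw [← map_pow]
    exact (QuotientGroup.eq_one_iff _).2 ⟨x, rfl⟩
  have hb := Cfsg.Agent.S4400.card_le_of_hom hr A (QuotientGroup.mk' A2) ⊤
    (by rw [MonoidHom.range_eq_top.2 (QuotientGroup.mk'_surjective A2)])
    (fun x _ y _ => mul_comm x y) (fun x _ => hsq x)
  rw [card_top] at hb
  let ψ : Fin 2 × Fin 2 × Fin 2 → A := fun t =>
    ⟨a ^ 2, haA⟩ ^ (t.1 : ℕ) * ⟨b, hbA⟩ ^ (t.2.1 : ℕ) * ⟨c, hcA⟩ ^ (t.2.2 : ℕ)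
  obtain ⟨t, t', hne, heq⟩ : ∃ t t', t ≠ t' ∧ QuotientGroup.mk' A2 (ψ t) = QuotientGroup.mk' A2 (ψ t') := by
    by_contra hno
    push Not at hno
    have := Nat.card_le_card_of_injective (fun t => QuotientGroup.mk' A2 (ψ t))
      fun t t' e => by_contra fun hn => hno t t' hn e
    simp at this
    omega
  have hmem : QuotientGroup.mk' A2 (ψ t * ψ t') = 1 := by
    rw [map_mul, heq, ← pow_two, hsq]
  obtain ⟨⟨r, hr'⟩, hr2⟩ := (QuotientGroup.eq_one_iff _).1 hmem
  obtain ⟨⟨e1, he1⟩, ⟨f1, hf1⟩, ⟨g1, hg1⟩⟩ := t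
  obtain ⟨⟨e2, he2⟩, ⟨f2, hf2⟩, ⟨g2, hg2⟩⟩ := t'
  have hne' : (e1 + e2) % 2 = 1 ∨ (f1 + f2) % 2 = 1 ∨ (g1 + g2) % 2 = 1 := by
    simp only [ne_eq, Prod.mk.injEq, Fin.mk.injEq] at hne
    omega
  have hval : r ^ 2 = (a ^ 2) ^ (e1 + e2) * b ^ (f1 + f2) * c ^ (g1 + g2) := by
    have h1 := congrArg Subtype.val hr2
    simp only [ψ, powMonoidHom_apply, Subgroup.coe_mul, SubmonoidClass.coe_pow] at h1
    rw [h1]
    have c1 : ∀ m n : ℕ, Commute (b ^ m) ((a ^ 2) ^ n) := fun m n => (hab.symm.pow_pow m n)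
    have c2 : ∀ (x : Q) (n : ℕ), Commute x (c ^ n) := fun x n => (hcent x).pow_right n
    calc (a ^ 2) ^ e1 * b ^ f1 * c ^ g1 * ((a ^ 2) ^ e2 * b ^ f2 * c ^ g2)
        = (a ^ 2) ^ e1 * b ^ f1 * (c ^ g1 * ((a ^ 2) ^ e2 * b ^ f2)) * c ^ g2 := by group
      _ = (a ^ 2) ^ e1 * b ^ f1 * ((a ^ 2) ^ e2 * b ^ f2 * c ^ g1) * c ^ g2 := by rw [(c2 _ g1).symm.eq]
      _ = (a ^ 2) ^ e1 * (b ^ f1 * (a ^ 2) ^ e2) * b ^ f2 * (c ^ g1 * c ^ g2) := by group
      _ = (a ^ 2) ^ e1 * ((a ^ 2) ^ e2 * b ^ f1) * b ^ f2 * (c ^ g1 * c ^ g2) := by rw [(c1 f1 e2).eq]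
      _ = (a ^ 2) ^ (e1 + e2) * b ^ (f1 + f2) * c ^ (g1 + g2) := by rw [pow_add, pow_add, pow_add]; group
  have hrform : ∃ i j : ℤ, r ^ 2 = a ^ (4 * i) * b ^ (2 * j) := by
    have : ∀ x (hx : x ∈ A), ∃ i j : ℤ, ∃ k : ℤ, x = (a ^ 2) ^ i * b ^ j * c ^ k := by
      intro x hx
      induction hx using closure_induction with
      | mem x hx =>
        rcases hx with rfl | rfl | rfl
        exacts [⟨1, 0, 0, by simp⟩, ⟨0, 1, 0, by simp⟩, ⟨0, 0, 1, by simp⟩]
      | one => exact ⟨0, 0, 0, by simp⟩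
      | mul x y hx hy ihx ihy =>
        obtain ⟨i, j, k, rfl⟩ := ihx
        obtain ⟨i', j', k', rfl⟩ := ihy
        refine ⟨i + i', j + j', k + k', ?_⟩
        have c1 : Commute (b ^ j) ((a ^ 2) ^ i') := hab.symm.zpow_zpow _ _
        have c2 : Commute ((a ^ 2) ^ i' * b ^ j') (c ^ k) := (hcent _).zpow_right _
        calc (a ^ 2) ^ i * b ^ j * c ^ k * ((a ^ 2) ^ i' * b ^ j' * c ^ k')
            = (a ^ 2) ^ i * b ^ j * (c ^ k * ((a ^ 2) ^ i' * b ^ j')) * c ^ k' := by group
          _ = (a ^ 2) ^ i * (b ^ j * (a ^ 2) ^ i') * b ^ j' * (c ^ k * c ^ k') := by rw [← c2.eq]; group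
          _ = (a ^ 2) ^ (i + i') * b ^ (j + j') * c ^ (k + k') := by rw [c1.eq]; group
      | inv x hx ihx =>
        obtain ⟨i, j, k, rfl⟩ := ihx
        refine ⟨-i, -j, -k, ?_⟩
        have c1 : Commute (b ^ (-j)) ((a ^ 2) ^ (-i)) := hab.symm.zpow_zpow _ _
        have c2 : Commute ((a ^ 2) ^ (-i) * b ^ (-j)) (c ^ (-k)) := (hcent _).zpow_right _
        calc ((a ^ 2) ^ i * b ^ j * c ^ k)⁻¹ = c ^ (-k) * (b ^ (-j) * (a ^ 2) ^ (-i)) := by group
          _ = _ := by rw [c1.eq, ← c2.eq]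
    obtain ⟨i, j, k, rfl⟩ := this r hr'
    refine ⟨i, j, ?_⟩
    have c1 : Commute ((a ^ 2) ^ i * b ^ j) (c ^ k) := (hcent _).zpow_right _
    rw [c1.mul_pow, ((hab.zpow_zpow i j)).mul_pow]
    have : (c ^ k) ^ 2 = 1 := by
      rw [← zpow_natCast, ← zpow_mul, mul_comm, zpow_mul, show ((2 : ℕ) : ℤ) = 2 from rfl, zpow_two, h.csq,
        one_zpow]
    rw [this, mul_one]
    group
  obtain ⟨i, j, hij⟩ := hrform
  rw [hij] at hval
  rcases Nat.even_or_odd (f1 + f2) with ⟨l, hl⟩ | hodd
  · refine ⟨e1 + e2, g1 + g2, by omega, i, j - (l : ℤ), ?_⟩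
    have c1 : Commute (b ^ (f1 + f2)) (c ^ (g1 + g2)) := (hcent _).pow_right _
    rw [mul_assoc, c1.eq, ← mul_assoc, ← pow_mul, ← mul_inv_eq_iff_eq_mul] at hval
    rw [← hval, hl, ← zpow_natCast b (l + l)]
    push_cast
    group
  · exfalso
    have hbΦ : b ∈ frattini Q := by
      have hsqΦ : ∀ x : Q, x ^ 2 ∈ frattini Q := fun x => CfsgLib.Solvable.pow_mem_frattini hQ x
      have hcΦ : c ∈ frattini Q := CfsgLib.Solvable.commutator_le_frattini hQ (by
        have : c = ⁅b⁻¹, a⁻¹⁆⁻¹⁻¹ := by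
          rw [inv_inv, commutatorElement_def, inv_inv, inv_inv]
          have e : a * b = b * a * c := by rw [h.pair.comm, mul_assoc, h.csq, mul_one]
          rw [mul_assoc (b⁻¹ * a⁻¹), h.pair.comm]
          group
        rw [this, inv_inv, _root_.commutator_def]
        exact commutator_mem_commutator (mem_top _) (mem_top _))
      obtain ⟨l, hl⟩ := hodd
      have : b = b ^ (f1 + f2) * ((b ^ 2) ^ l)⁻¹ := by rw [hl]; group
      rw [this]
      refine mul_mem ?_ (inv_mem (pow_mem (hsqΦ b) l))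
      have hb' : b ^ (f1 + f2) = ((a ^ 2) ^ (e1 + e2))⁻¹ * (a ^ (4 * i) * b ^ (2 * j)) * (c ^ (g1 + g2))⁻¹ := by
        rw [hval]; group
      rw [hb', zpow_mul a, zpow_mul b]
      refine mul_mem (mul_mem (inv_mem (pow_mem (hsqΦ a) _)) (mul_mem ?_ ?_)) (inv_mem (pow_mem hcΦ _))
      · refine zpow_mem ?_ _
        rw [show (4 : ℤ) = ((2 * 2 : ℕ) : ℤ) by norm_num, zpow_natCast, pow_mul]
        exact pow_mem (hsqΦ a) _
      · refine zpow_mem ?_ _
        rw [show (2 : ℤ) = ((2 : ℕ) : ℤ) by norm_num, zpow_natCast]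
        exact hsqΦ b
    have htop : zpowers a = ⊤ := CfsgLib.Solvable.eq_top_of_sup_frattini (top_le_iff.1 (h.gen ▸
      (closure_le _).2 (by rintro w (rfl | rfl); exacts [mem_sup_left (mem_zpowers _), mem_sup_right hbΦ])))
    obtain ⟨l, hl⟩ := mem_zpowers_iff.1 (htop.ge (mem_top b))
    have h3 := h.pair.comm
    rw [← hl, ((Commute.refl a).zpow_left l).eq, left_eq_mul] at h3
    have := h.pair.order
    rw [h3, orderOf_one] at this
    omega

/-- The class two case: some member of a generating pair has the commutator as a power. -/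
theorem exists_gen_mem_zpowers {a b c : Q} (h : GenPair a b c) (hQ : IsPGroup 2 Q)
    (hr : Cfsg.SectionalPRankLE 2 2 Q) :
    ∃ u v : Q, closure ({u, v} : Set Q) = ⊤ ∧ c ∈ zpowers u := by
  have hc1 : c ≠ 1 := fun e => by
    have := h.pair.order
    rw [e, orderOf_one] at this
    omega
  have hcg : ∀ g : ℕ, c ^ g = if g % 2 = 1 then c else 1 := by
    intro g
    rw [← pow_mod_orderOf, h.pair.order]
    rcases Nat.mod_two_eq_zero_or_one g with hg | hg <;> simp [hg]
  -- generators
  have gen_left : ∀ i j : ℤ, Odd i → closure ({a ^ i * b ^ j, b} : Set Q) = ⊤ := by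
    intro i j hi
    refine top_le_iff.1 (h.gen ▸ (closure_le _).2 ?_)
    rintro w (rfl | rfl)
    · refine zpowers_le.2 ?_ (mem_zpowers_odd hQ w hi)
      rw [show w ^ i = w ^ i * b ^ j * (b ^ j)⁻¹ by group]
      exact mul_mem (subset_closure (by simp)) (inv_mem (zpow_mem (subset_closure (by simp)) _))
    · exact subset_closure (by simp)
  have gen_right : ∀ i j : ℤ, Odd j → closure ({a ^ i * b ^ j, a} : Set Q) = ⊤ := by
    intro i j hj
    refine top_le_iff.1 (h.gen ▸ (closure_le _).2 ?_)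
    rintro w (rfl | rfl)
    · exact subset_closure (by simp)
    · refine zpowers_le.2 ?_ (mem_zpowers_odd hQ w hj)
      rw [show w ^ j = (a ^ i)⁻¹ * (a ^ i * w ^ j) by group]
      exact mul_mem (inv_mem (zpow_mem (subset_closure (by simp)) _)) (subset_closure (by simp))
  -- the case `a² ∈ ⟨b⁴⟩`
  have L0 : ∀ a b : Q, GenPair a b c → a ^ 2 ∈ zpowers (b ^ 4) →
      ∃ u v : Q, closure ({u, v} : Set Q) = ⊤ ∧ c ∈ zpowers u := by
    intro a b h ha
    by_cases hcb : c ∈ zpowers b
    · exact ⟨b, a, by rw [Set.pair_comm]; exact h.gen, hcb⟩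
    obtain ⟨e, g, heg, i, j, hij⟩ := h.symm.rel hQ hr
    obtain ⟨l, hl⟩ := mem_zpowers_iff.1 ha
    have hrhs : b ^ (4 * i) * a ^ (2 * j) = b ^ (4 * (i + l * j)) := by
      rw [zpow_mul a, show a ^ (2 : ℤ) = a ^ 2 from zpow_natCast a 2, ← hl]
      rw [← zpow_natCast b 4, ← zpow_mul, ← zpow_mul, ← zpow_add]
      congr 1
      push_cast
      ring
    rw [hrhs, hcg] at hij
    by_cases hg : g % 2 = 1
    · refine absurd ?_ hcb
      rw [if_pos hg] at hij
      rw [eq_inv_mul_of_mul_eq hij]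
      exact mul_mem (inv_mem (pow_mem (mem_zpowers b) _)) (zpow_mem (mem_zpowers b) _)
    · rw [if_neg hg, mul_one, ← zpow_natCast] at hij
      have he : e % 2 = 1 := heg.resolve_right hg
      have hb2 : b ^ (2 : ℤ) = 1 := by
        have h1 : (b ^ (2 : ℤ)) ^ ((e : ℤ) - 2 * (i + l * j)) = 1 := by
          rw [← zpow_mul, show 2 * ((e : ℤ) - 2 * (i + l * j)) = (2 * e : ℕ) - 4 * (i + l * j) by push_cast; ring,
            zpow_sub, hij, mul_inv_cancel]
        have hodd : Odd ((e : ℤ) - 2 * (i + l * j)) := by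
          rw [Int.odd_iff]; omega
        obtain ⟨m, hm⟩ := mem_zpowers_odd hQ (b ^ (2 : ℤ)) hodd
        rw [← hm]
        show ((b ^ (2 : ℤ)) ^ _) ^ m = 1
        rw [h1, one_zpow]
      have ha2 : a ^ (2 : ℤ) = 1 := by
        rw [show a ^ (2 : ℤ) = a ^ 2 from zpow_natCast a 2, ← hl, ← zpow_natCast b 4,
          show ((4 : ℕ) : ℤ) = 2 * 2 by norm_num, zpow_mul b, hb2, one_zpow, one_zpow]
      refine ⟨a * b, b, ?_, 2, ?_⟩
      · refine top_le_iff.1 (h.gen ▸ (closure_le _).2 ?_)
        rintro w (rfl | rfl)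
        · rw [show w = w * b * b⁻¹ by group]
          exact mul_mem (subset_closure (by simp)) (inv_mem (subset_closure (by simp)))
        · exact subset_closure (by simp)
      · show (a * b) ^ (2 : ℤ) = c
        have := h.sq 1 1
        rw [zpow_one, zpow_one, mul_one, ha2, hb2, mul_one, one_mul, one_mul, zpow_one] at this
        exact (zpow_natCast _ 2).trans this
  obtain ⟨e, g, heg, i, j, hij⟩ := h.rel hQ hr
  rw [hcg] at hij
  by_cases hg : g % 2 = 1
  · rw [if_pos hg] at hij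
    obtain ⟨i, hci⟩ : ∃ i' : ℤ, c = a ^ (2 * i') * b ^ (2 * j) := by
      refine ⟨2 * i - e, ?_⟩
      rw [eq_inv_mul_of_mul_eq hij, ← zpow_natCast]
      push_cast
      group
    have main : ∀ n : ℕ, ∀ (k : ℕ) (i j : ℤ), i.natAbs + j.natAbs ≤ n →
        c = a ^ (2 ^ (k + 2) * i : ℤ) * b ^ (2 ^ (k + 2) * j : ℤ) →
        ∃ u v : Q, closure ({u, v} : Set Q) = ⊤ ∧ c ∈ zpowers u := by
      intro n
      induction n with
      | zero =>
        intro k i j hn hc
        obtain ⟨rfl, rfl⟩ : i = 0 ∧ j = 0 := by omega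
        exact absurd (by simpa using hc) hc1
      | succ n ih =>
        intro k i j hn hc
        rcases Int.even_or_odd i with ⟨i', rfl⟩ | hi
        · rcases Int.even_or_odd j with ⟨j', rfl⟩ | hj
          · by_cases h0 : i' = 0 ∧ j' = 0
            · obtain ⟨rfl, rfl⟩ := h0
              exact absurd (by simpa using hc) hc1
            · refine ih (k + 1) i' j' (by omega) ?_
              rw [hc]
              congr 2 <;> ring
          · exact ⟨_, a, gen_right _ j hj, (2 ^ (k + 2) : ℕ), by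
              show (a ^ (i' + i') * b ^ j) ^ (((2 ^ (k + 2) : ℕ)) : ℤ) = c
              rw [zpow_natCast, h.sq_two, ← hc]⟩
        · exact ⟨_, b, gen_left i j hi, (2 ^ (k + 2) : ℕ), by
            show (a ^ i * b ^ j) ^ (((2 ^ (k + 2) : ℕ)) : ℤ) = c
            rw [zpow_natCast, h.sq_two, ← hc]⟩
    have hsq := h.sq i j
    rw [← hci] at hsq
    rcases Int.even_or_odd i with ⟨i', rfl⟩ | hi
    · rcases Int.even_or_odd j with ⟨j', rfl⟩ | hj
      · exact main _ 0 i' j' le_rfl (by rw [hci]; congr 2 <;> ring)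
      · refine ⟨_, a, gen_right (i' + i') j hj, 2, ?_⟩
        show (a ^ (i' + i') * b ^ j) ^ (2 : ℤ) = c
        rw [show (2 : ℤ) = ((2 : ℕ) : ℤ) from rfl, zpow_natCast, hsq,
          show (i' + i') * j = 2 * (i' * j) by ring, zpow_mul, zpow_two c, h.csq, one_zpow, mul_one]
    · rcases Int.even_or_odd j with ⟨j', rfl⟩ | hj
      · refine ⟨_, b, gen_left i (j' + j') hi, 2, ?_⟩
        show (a ^ i * b ^ (j' + j')) ^ (2 : ℤ) = c
        rw [show (2 : ℤ) = ((2 : ℕ) : ℤ) from rfl, zpow_natCast, hsq,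
          show i * (j' + j') = 2 * (i * j') by ring, zpow_mul, zpow_two c, h.csq, one_zpow, mul_one]
      · -- both odd: `a ^ i * b ^ j` is an involution
        refine L0 (a ^ i * b ^ j) b ⟨⟨?_, h.pair.central, h.pair.order⟩, gen_left i j hi⟩ ?_
        · calc b * (a ^ i * b ^ j) = (b ^ (1 : ℤ) * a ^ i) * b ^ j := by group
            _ = a ^ i * b ^ (1 : ℤ) * c ^ (i * 1) * b ^ j := by rw [h.pair.swap]
            _ = a ^ i * b ^ (1 : ℤ) * (c ^ i * b ^ j) := by rw [mul_one]; group
            _ = a ^ i * b ^ (1 : ℤ) * (b ^ j * c ^ i) := by rw [((h.pair.commute_z b).zpow_zpow j i).eq]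
            _ = a ^ i * b ^ j * b * c := by
              obtain ⟨l, rfl⟩ := hi
              rw [zpow_add c, zpow_mul c, zpow_two c, h.csq, one_zpow]
              group
        · have hu : (a ^ i * b ^ j) ^ 2 = 1 := by
            obtain ⟨l, hl⟩ := hi.mul hj
            rw [hsq, hl, zpow_add, zpow_mul, zpow_two c, h.csq, one_zpow, zpow_one, one_mul, h.csq]
          rw [hu]
          exact one_mem _
  · rw [if_neg hg, mul_one, ← zpow_natCast] at hij
    have he : e % 2 = 1 := heg.resolve_right hg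
    obtain ⟨j', hj'⟩ : ∃ j' : ℤ, a ^ (2 : ℤ) = b ^ (2 * j') := by
      have h1 : (a ^ (2 : ℤ)) ^ ((e : ℤ) - 2 * i) = b ^ (2 * j) := by
        rw [← zpow_mul, show 2 * ((e : ℤ) - 2 * i) = -(4 * i) + (2 * e : ℕ) by push_cast; ring,
          zpow_add, hij]
        group
      obtain ⟨m, hm⟩ := mem_zpowers_odd hQ (a ^ (2 : ℤ))
        (show Odd ((e : ℤ) - 2 * i) by rw [Int.odd_iff]; omega)
      refine ⟨j * m, ?_⟩
      rw [← hm]
      show ((a ^ (2 : ℤ)) ^ _) ^ m = _
      rw [h1, ← zpow_mul]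
      ring_nf
    rcases Int.even_or_odd j' with ⟨l, rfl⟩ | hodd
    · refine L0 a b h ⟨l, ?_⟩
      show (b ^ 4) ^ l = a ^ 2
      rw [show a ^ 2 = a ^ (2 : ℤ) from (zpow_natCast a 2).symm, hj', ← zpow_natCast, ← zpow_mul]
      congr 1
      push_cast
      ring
    · refine ⟨_, b, gen_left 1 (-j') odd_one, 2, ?_⟩
      show (a ^ (1 : ℤ) * b ^ (-j')) ^ (2 : ℤ) = c
      obtain ⟨l, rfl⟩ := hodd
      rw [show (2 : ℤ) = ((2 : ℕ) : ℤ) from rfl, zpow_natCast, h.sq, mul_one, hj', one_mul, ← zpow_add]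
      push_cast
      rw [show 2 * (2 * l + 1) + 2 * -(2 * l + 1) = 0 by ring, zpow_zero, one_mul,
        show -(2 * l + 1) = 2 * (-l - 1) + 1 by ring, zpow_add c, zpow_mul c, zpow_two c, h.csq,
        one_zpow, one_mul, zpow_one]

/-- Blackburn's lifting: if `G' ≤ ⟨u⟩R`, `R = [G',G](G')²`, then `G' ≤ ⟨u⟩`. -/
theorem commutator_le_zpowers {G : Type u} [Group G] [Finite G] (hG : IsPGroup 2 G) (u : G)
    (hu : u ∉ frattini G)
    (h : commutator G ≤ zpowers u ⊔ (⁅commutator G, (⊤ : Subgroup G)⁆ ⊔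
      closure {y | ∃ x ∈ commutator G, y = x ^ 2})) :
    commutator G ≤ zpowers u := by
  classical
  have : Fact (Nat.Prime 2) := ⟨Nat.prime_two⟩
  suffices key : ∀ n : ℕ, ∀ {G : Type u} [Group G] [Finite G], Nat.card G ≤ n → IsPGroup 2 G →
      ∀ u : G, u ∉ frattini G →
      commutator G ≤ zpowers u ⊔ (⁅commutator G, (⊤ : Subgroup G)⁆ ⊔
        closure {y | ∃ x ∈ commutator G, y = x ^ 2}) →
      commutator G ≤ zpowers u from key _ le_rfl hG u hu h
  clear h hu u hG
  intro n
  induction n with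
  | zero => intro G _ _ hn; exact absurd hn (by simp [Nat.card_pos.ne'])
  | succ n ih =>
    intro G _ _ hn hG u hu h
    set S : Set G := {y | ∃ x ∈ commutator G, y = x ^ 2} with hS
    set R := ⁅commutator G, (⊤ : Subgroup G)⁆ ⊔ closure S with hR
    have hSn : (closure S).Normal := ⟨fun w hw g => by
      have hle : (closure S).map (MulAut.conj g).toMonoidHom ≤ closure S := by
        rw [MonoidHom.map_closure, closure_le]
        rintro _ ⟨y, ⟨x, hx, rfl⟩, rfl⟩
        exact subset_closure ⟨g * x * g⁻¹, (inferInstance : (commutator G).Normal).conj_mem x hx g, by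
          simp [conj_pow]⟩
      exact hle ⟨w, hw, rfl⟩⟩
    have hRn : R.Normal := by rw [hR]; infer_instance
    rcases eq_or_ne R ⊥ with hR0 | hR0
    · rwa [hR0, sup_bot_eq] at h
    obtain ⟨z, hzR, hz1, hzc⟩ := Cfsg.Agent.S4400.exists_central_mem hG R hR0
    obtain ⟨w, hwR, hw, hwc⟩ : ∃ w ∈ R, orderOf w = 2 ∧ w ∈ center G := by
      obtain ⟨k, hk⟩ := (IsPGroup.iff_orderOf (p := 2)).1 hG z
      rcases k with - | k
      · exact absurd (orderOf_eq_one_iff.1 (by simpa using hk)) hz1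
      refine ⟨z ^ 2 ^ k, pow_mem hzR _, ?_, pow_mem hzc _⟩
      rw [orderOf_pow' z (by positivity), hk, Nat.gcd_eq_right (Dvd.intro 2 (pow_succ 2 k).symm),
        pow_succ, Nat.mul_div_cancel_left _ (by positivity)]
    set Z := zpowers w with hZ
    have hZn : Z.Normal := ⟨fun x hx g => by
      obtain ⟨i, rfl⟩ := mem_zpowers_iff.1 hx
      rw [mem_center_iff.1 (zpow_mem hwc i) g, mul_inv_cancel_right]
      exact zpow_mem (mem_zpowers w) i⟩
    let π := QuotientGroup.mk' Z
    have hsurj := QuotientGroup.mk'_surjective Z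
    have hGR : R ≤ frattini G := by
      have h1 := CfsgLib.Solvable.commutator_le_frattini hG
      refine sup_le ((commutator_le_left _ _).trans h1) ((closure_le _).2 ?_)
      rintro _ ⟨x, hx, rfl⟩
      exact pow_mem (h1 hx) 2
    have hcm : (commutator G).map π = commutator (G ⧸ Z) := by
      rw [_root_.commutator_def, map_commutator, ← MonoidHom.range_eq_map,
        MonoidHom.range_eq_top.2 hsurj, ← _root_.commutator_def]
    have hlow : commutator G ≤ zpowers u ⊔ Z := by
      have hcard : Nat.card (G ⧸ Z) ≤ n := by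
        have := card_mul_index Z
        have hZc : Nat.card Z = 2 := by rw [hZ, Nat.card_zpowers, hw]
        rw [index_eq_card, hZc] at this
        have := Nat.card_pos (α := G ⧸ Z)
        omega
      have hu' : π u ∉ frattini (G ⧸ Z) := by
        intro hf
        apply hu
        rw [CfsgLib.Solvable.mem_frattini_iff] at hf ⊢
        intro M hM
        have hRM : R ≤ M := fun x hx => (CfsgLib.Solvable.mem_frattini_iff.1 (hGR hx)) M hM
        have hker : π.ker ≤ M := by
          rw [QuotientGroup.ker_mk']; exact zpowers_le.2 (hRM hwR)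
        have hco : IsCoatom (M.map π) := by
          refine ⟨fun e => hM.1 ?_, fun H hH => ?_⟩
          · rw [← comap_map_eq_self hker, e, comap_top]
          · have : M < H.comap π := by
              refine lt_of_le_of_ne ((comap_map_eq_self hker).ge.trans (comap_mono hH.le)) fun e => hH.ne ?_
              rw [e, map_comap_eq_self_of_surjective hsurj]
            rw [← map_comap_eq_self_of_surjective hsurj H, hM.2 _ this, map_top_of_surjective _ hsurj]
        have h1 : u ∈ (M.map π).comap π := hf _ hco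
        rwa [comap_map_eq_self hker] at h1
      have h' := ih hcard (hG.to_quotient Z) (π u) hu' (by
        refine le_trans (hcm ▸ map_mono h) ?_
        rw [Subgroup.map_sup, Subgroup.map_sup, MonoidHom.map_zpowers, map_commutator, hcm,
          map_top_of_surjective _ hsurj, MonoidHom.map_closure]
        refine sup_le_sup le_rfl (sup_le_sup le_rfl (closure_mono ?_))
        rintro _ ⟨y, ⟨x, hx, rfl⟩, rfl⟩
        exact ⟨π x, hcm ▸ mem_map_of_mem π hx, map_pow π x 2⟩)
      intro x hx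
      obtain ⟨i, hi⟩ := mem_zpowers_iff.1 (h' (hcm ▸ mem_map_of_mem π hx))
      rw [← map_zpow] at hi
      rw [show x = u ^ i * ((u ^ i)⁻¹ * x) by group]
      exact mul_mem (mem_sup_left (zpow_mem (mem_zpowers u) i)) (mem_sup_right (QuotientGroup.eq.1 hi))
    -- every element of `G'` is `u ^ (2l) * w ^ e`
    have hform : ∀ x ∈ commutator G, ∃ l e : ℤ, x = u ^ (2 * l) * w ^ e := by
      intro x hx
      have hx' : x ∈ (zpowers u : Set G) * (Z : Set G) := by
        rw [← mul_normal (N := Z)]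
        exact hlow hx
      obtain ⟨_, ⟨m, rfl⟩, _, ⟨e, rfl⟩, rfl⟩ := hx'
      rcases Int.even_or_odd m with ⟨l, rfl⟩ | hodd
      · exact ⟨l, e, by rw [show 2 * l = l + l by ring]⟩
      · exfalso
        apply hu
        have h1 : u ^ m ∈ frattini G := by
          have := mul_mem (CfsgLib.Solvable.commutator_le_frattini hG hx) (inv_mem (zpow_mem (hGR hwR) e))
          simpa using this
        exact zpowers_le.2 h1 (mem_zpowers_odd hG u hodd)
    have hwsq : ∀ e : ℤ, (w ^ e) ^ 2 = 1 := fun e => by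
      rw [← zpow_natCast, ← zpow_mul, mul_comm, zpow_mul, show w ^ ((2 : ℕ) : ℤ) = 1 by
        rw [zpow_natCast, ← hw, pow_orderOf_eq_one], one_zpow]
    have hwC : ∀ (x : G) (e : ℤ), Commute x (w ^ e) := fun x e => (mem_center_iff.1 (zpow_mem hwc e) x)
    have hconj : ∀ g : G, ∀ l e : ℤ, ∃ m : ℤ, ⁅u ^ (2 * l) * w ^ e, g⁆ = u ^ m := by
      intro g l e
      obtain ⟨s, f, hs⟩ := hform ⁅g, u⁆ (by
        rw [_root_.commutator_def]; exact commutator_mem_commutator (mem_top g) (mem_top u))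
      have hg : g * u * g⁻¹ = u ^ (2 * s + 1) * w ^ f := by
        calc g * u * g⁻¹ = ⁅g, u⁆ * u := by rw [commutatorElement_def]; group
          _ = u ^ (2 * s) * (w ^ f * u) := by rw [hs, mul_assoc]
          _ = u ^ (2 * s) * (u * w ^ f) := by rw [(hwC u f).eq]
          _ = _ := by rw [zpow_add_one, mul_assoc]
      refine ⟨2 * l - (2 * s + 1) * (2 * l), ?_⟩
      have hgu : g * u ^ (2 * l) * g⁻¹ = u ^ ((2 * s + 1) * (2 * l)) := by
        rw [← conj_zpow, hg, (hwC _ f).mul_zpow, ← zpow_mul, ← zpow_mul, mul_comm f (2 * l), mul_assoc 2 l f,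
          zpow_mul w 2, show w ^ (2 : ℤ) = 1 by rw [show (2 : ℤ) = ((2 : ℕ) : ℤ) from rfl, zpow_natCast, ← hw, pow_orderOf_eq_one],
          one_zpow, mul_one]
      rw [commutatorElement_def, mul_inv_rev,
        show u ^ (2 * l) * w ^ e * g * ((w ^ e)⁻¹ * (u ^ (2 * l))⁻¹) * g⁻¹
          = u ^ (2 * l) * (w ^ e * g * (w ^ e)⁻¹) * ((u ^ (2 * l))⁻¹ * g⁻¹) by group,
        ← (hwC g e).eq, mul_inv_cancel_right,
        show u ^ (2 * l) * g * ((u ^ (2 * l))⁻¹ * g⁻¹) = u ^ (2 * l) * (g * u ^ (2 * l) * g⁻¹)⁻¹ by group,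
        hgu, ← zpow_neg, ← zpow_add]
      ring_nf
    have hRu : R ≤ zpowers u := by
      refine sup_le (commutator_le.2 fun x hx g _ => ?_) ((closure_le _).2 ?_)
      · obtain ⟨l, e, rfl⟩ := hform x hx
        obtain ⟨m, hm⟩ := hconj g l e
        exact ⟨m, hm.symm⟩
      · rintro _ ⟨x, hx, rfl⟩
        obtain ⟨l, e, rfl⟩ := hform x hx
        rw [(hwC _ e).mul_pow, hwsq, mul_one]
        exact pow_mem (zpow_mem (mem_zpowers u) _) _
    exact h.trans (sup_le le_rfl hRu)

/-- **A 2-group of sectional 2-rank at most two is metacyclic.** -/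
theorem isMetacyclic_of_sectional {G : Type u} [Group G] [Finite G] (hG : IsPGroup 2 G)
    (hr : Cfsg.SectionalPRankLE 2 2 G) : Cfsg.IsMetacyclic G := by
  classical
  have : Fact (Nat.Prime 2) := ⟨Nat.prime_two⟩
  suffices key : ∃ u v : G, closure ({u, v} : Set G) = ⊤ ∧ commutator G ≤ zpowers u by
    obtain ⟨u, v, hgen, hle⟩ := key
    have hn : (zpowers u).Normal := ⟨fun x hx g => by
      have hm : ⁅g, x⁆ ∈ zpowers u := hle (by
        rw [_root_.commutator_def]; exact commutator_mem_commutator (mem_top g) (mem_top x))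
      rw [show g * x * g⁻¹ = ⁅g, x⁆ * x by rw [commutatorElement_def]; group]
      exact mul_mem hm hx⟩
    refine ⟨zpowers u, hn, inferInstance, ⟨⟨QuotientGroup.mk' _ v, fun q => ?_⟩⟩⟩
    have hsub : (⊤ : Subgroup (G ⧸ zpowers u)) ≤ zpowers (QuotientGroup.mk' (zpowers u) v) := by
      rw [← map_top_of_surjective _ (QuotientGroup.mk'_surjective (zpowers u)), ← hgen,
        MonoidHom.map_closure, closure_le]
      rintro _ ⟨x, (rfl | rfl), rfl⟩
      · rw [show QuotientGroup.mk' (zpowers x) x = 1 from (QuotientGroup.eq_one_iff x).2 (mem_zpowers x)]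
        exact one_mem _
      · exact mem_zpowers _
    exact hsub (mem_top q)
  -- two generators
  obtain ⟨a, b, hab⟩ : ∃ a b : G, closure ({a, b} : Set G) = ⊤ := by
    have hΦ := CfsgLib.Solvable.commutator_le_frattini hG
    have hc : IsMulCommutative (G ⧸ frattini G) :=
      Subgroup.Normal.quotient_commutative_iff_commutator_le.2 hΦ
    have hb := Cfsg.Agent.S4400.card_le_of_hom hr ⊤ ((QuotientGroup.mk' (frattini G)).comp (⊤ : Subgroup G).subtype) ⊤
      (by
        intro q _
        obtain ⟨x, rfl⟩ := QuotientGroup.mk'_surjective (frattini G) q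
        exact ⟨⟨x, mem_top x⟩, rfl⟩)
      (fun x _ y _ => hc.is_comm.comm x y)
      (fun x _ => by
        obtain ⟨x, rfl⟩ := QuotientGroup.mk'_surjective (frattini G) x
        rw [← map_pow]
        exact (QuotientGroup.eq_one_iff _).2 (CfsgLib.Solvable.pow_mem_frattini hG x))
    rw [card_top] at hb
    by_cases h1 : ∀ x : G, x ∈ frattini G
    · refine ⟨1, 1, CfsgLib.Solvable.eq_top_of_sup_frattini (top_le_iff.1 fun x _ => mem_sup_right (h1 x))⟩
    push Not at h1
    obtain ⟨a, ha⟩ := h1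
    by_cases h2 : ∀ x : G, x ∈ zpowers a ⊔ frattini G
    · refine ⟨a, 1, CfsgLib.Solvable.eq_top_of_sup_frattini (top_le_iff.1 fun x _ => ?_)⟩
      exact sup_le (le_sup_of_le_left (zpowers_le.2 (subset_closure (by simp)))) le_sup_right (h2 x)
    push Not at h2
    obtain ⟨b, hb'⟩ := h2
    refine ⟨a, b, CfsgLib.Solvable.eq_top_of_sup_frattini (top_le_iff.1 fun x _ => ?_)⟩
    let K := closure ({a, b} : Set G) ⊔ frattini G
    have hK1 : K.index * Nat.card (K.map (QuotientGroup.mk' (frattini G))) = Nat.card (G ⧸ frattini G) := by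
      rw [← relIndex_ker, QuotientGroup.ker_mk', mul_comm, relIndex_mul_index le_sup_right, index_eq_card]
    have h3 : 4 ≤ Nat.card (K.map (QuotientGroup.mk' (frattini G))) := by
      let f : Fin 2 × Fin 2 → K.map (QuotientGroup.mk' (frattini G)) := fun t =>
        ⟨QuotientGroup.mk' _ (a ^ (t.1 : ℕ) * b ^ (t.2 : ℕ)), mem_map_of_mem _ (mem_sup_left
          (mul_mem (pow_mem (subset_closure (by simp)) _) (pow_mem (subset_closure (by simp)) _)))⟩
      have hf : Function.Injective f := by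
        rintro ⟨⟨i, hi⟩, ⟨j, hj⟩⟩ ⟨⟨i', hi'⟩, ⟨j', hj'⟩⟩ he
        have he' : QuotientGroup.mk' (frattini G) (a ^ i * b ^ j) = QuotientGroup.mk' (frattini G) (a ^ i' * b ^ j') :=
          congrArg Subtype.val he
        have hm := QuotientGroup.eq.1 he'
        have hjj : j = j' := by
          by_contra hne
          apply hb'
          interval_cases j <;> interval_cases j'
          · omega
          · rw [pow_zero, mul_one, pow_one] at hm
            rw [show b = (a ^ i')⁻¹ * a ^ i * ((a ^ i)⁻¹ * (a ^ i' * b)) by group]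
            exact mul_mem (mem_sup_left (mul_mem (inv_mem (pow_mem (mem_zpowers a) _)) (pow_mem (mem_zpowers a) _)))
              (mem_sup_right hm)
          · rw [pow_zero, mul_one, pow_one] at hm
            rw [show b = (a ^ i)⁻¹ * a ^ i' * ((a ^ i * b)⁻¹ * a ^ i')⁻¹ by group]
            exact mul_mem (mem_sup_left (mul_mem (inv_mem (pow_mem (mem_zpowers a) _)) (pow_mem (mem_zpowers a) _)))
              (mem_sup_right (inv_mem hm))
          · omega
        subst hjj
        have hii : i = i' := by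
          have hm' : (a ^ i)⁻¹ * a ^ i' ∈ frattini G := by
            have := (inferInstance : (frattini G).Normal).conj_mem _ hm (b ^ j)
            rw [show b ^ j * ((a ^ i * b ^ j)⁻¹ * (a ^ i' * b ^ j)) * (b ^ j)⁻¹ = (a ^ i)⁻¹ * a ^ i' by group] at this
            exact this
          by_contra hne
          apply ha
          interval_cases i <;> interval_cases i'
          · omega
          · simpa using hm'
          · simpa using inv_mem hm'
          · omega
        subst hii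
        rfl
      simpa using Nat.card_le_card_of_injective f hf
    have h5 : K.index = 1 := by
      have : K.index ≠ 0 := index_ne_zero_of_finite
      by_contra hne
      have := Nat.mul_le_mul (show 2 ≤ K.index by omega) h3
      omega
    exact (index_eq_one.1 h5).ge (mem_top x)
  by_cases hcyc : zpowers a = ⊤
  · refine ⟨a, b, hab, ?_⟩
    rw [hcyc]; exact le_top
  by_cases hcyc' : zpowers b = ⊤
  · refine ⟨b, a, by rw [Set.pair_comm]; exact hab, ?_⟩
    rw [hcyc']; exact le_top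
  set S : Set G := {y | ∃ x ∈ commutator G, y = x ^ 2} with hS
  set R := ⁅commutator G, (⊤ : Subgroup G)⁆ ⊔ closure S with hR
  have hSn : (closure S).Normal := ⟨fun w hw g => by
    have hle : (closure S).map (MulAut.conj g).toMonoidHom ≤ closure S := by
      rw [MonoidHom.map_closure, closure_le]
      rintro _ ⟨y, ⟨x, hx, rfl⟩, rfl⟩
      exact subset_closure ⟨g * x * g⁻¹, (inferInstance : (commutator G).Normal).conj_mem x hx g, by
        simp [conj_pow]⟩
    exact hle ⟨w, hw, rfl⟩⟩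
  have hRn : R.Normal := by rw [hR]; infer_instance
  let π := QuotientGroup.mk' R
  have hsurj := QuotientGroup.mk'_surjective R
  have hRΦ : R ≤ frattini G := by
    have h1 := CfsgLib.Solvable.commutator_le_frattini hG
    refine sup_le ((commutator_le_left _ _).trans h1) ((closure_le _).2 ?_)
    rintro _ ⟨x, hx, rfl⟩
    exact pow_mem (h1 hx) 2
  have hmem : ∀ x y : G, ⁅x, y⁆ ∈ commutator G := fun x y => by
    rw [_root_.commutator_def]; exact commutator_mem_commutator (mem_top x) (mem_top y)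
  set c := ⁅π b⁻¹, π a⁻¹⁆ with hc
  have hcc : c ∈ center (G ⧸ R) := by
    rw [mem_center_iff]
    intro q
    obtain ⟨g, rfl⟩ := hsurj q
    rw [hc, ← map_commutatorElement, ← map_mul, ← map_mul]
    refine ((QuotientGroup.eq (s := R)).2 ?_).symm
    have : (⁅b⁻¹, a⁻¹⁆ * g)⁻¹ * (g * ⁅b⁻¹, a⁻¹⁆) = ⁅g⁻¹, (⁅b⁻¹, a⁻¹⁆)⁻¹⁆ := by
      simp [commutatorElement_def, mul_assoc]
    rw [this]
    refine mem_sup_left ?_
    rw [Subgroup.commutator_comm]
    exact commutator_mem_commutator (mem_top _) (inv_mem (hmem _ _))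
  have hgen : closure ({π a, π b} : Set (G ⧸ R)) = ⊤ := by
    rw [← map_top_of_surjective π hsurj, ← hab, MonoidHom.map_closure, Set.image_pair]
  have hcomm : commutator (G ⧸ R) ≤ zpowers c := by
    have hn : (zpowers c).Normal := ⟨fun x hx g => by
      obtain ⟨i, rfl⟩ := mem_zpowers_iff.1 hx
      rw [mem_center_iff.1 (zpow_mem hcc i) g, mul_inv_cancel_right]
      exact zpow_mem (mem_zpowers c) i⟩
    refine Subgroup.Normal.quotient_commutative_iff_commutator_le.1 ⟨⟨fun x y => ?_⟩⟩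
    let σ := QuotientGroup.mk' (zpowers c)
    have hab' : Commute (σ (π a)) (σ (π b)) := by
      have h1 : σ ⁅π b⁻¹, π a⁻¹⁆ = 1 := (QuotientGroup.eq_one_iff _).2 (mem_zpowers c)
      simp only [map_commutatorElement, map_inv] at h1
      rw [commutatorElement_eq_one_iff_commute] at h1
      exact (Commute.inv_inv_iff.1 h1).symm
    have htop : (⊤ : Subgroup ((G ⧸ R) ⧸ zpowers c)) = closure {σ (π a), σ (π b)} := by
      rw [← map_top_of_surjective σ (QuotientGroup.mk'_surjective _), ← hgen, MonoidHom.map_closure,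
        Set.image_pair]
    have hle : (⊤ : Subgroup ((G ⧸ R) ⧸ zpowers c)) ≤ center _ := by
      rw [htop, closure_le]
      rintro w hw
      rw [SetLike.mem_coe, mem_center_iff]
      intro g
      have hcl : closure {σ (π a), σ (π b)} ≤ centralizer {w} := (closure_le _).2 (by
        rintro v (rfl | rfl) <;> rcases hw with rfl | rfl <;> refine mem_centralizer_singleton_iff.2 ?_
        exacts [rfl, hab'.eq, hab'.eq.symm, rfl])
      exact mem_centralizer_singleton_iff.1 (hcl (htop.le (mem_top g)))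
    exact (mem_center_iff.1 (hle (mem_top y)) x)
  have hlift : ∀ u v : G, closure ({π u, π v} : Set (G ⧸ R)) = ⊤ → c ∈ zpowers (π u) →
      ∃ u' v' : G, closure ({u', v'} : Set G) = ⊤ ∧ commutator G ≤ zpowers u' := by
    intro u v huv hcu
    have hgen' : closure ({u, v} : Set G) = ⊤ := by
      refine CfsgLib.Solvable.eq_top_of_sup_frattini (top_le_iff.1 ?_)
      refine le_trans ?_ (sup_le_sup_left hRΦ _)
      intro x _
      have : π x ∈ (closure ({u, v} : Set G)).map π := by
        rw [MonoidHom.map_closure, Set.image_pair, huv]; exact mem_top _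
      obtain ⟨y, hy, hyx⟩ := this
      rw [show x = y * (y⁻¹ * x) by group]
      exact mul_mem (mem_sup_left hy) (mem_sup_right (QuotientGroup.eq.1 hyx))
    have hle : commutator G ≤ zpowers u ⊔ R := by
      intro x hx
      have h1 : π x ∈ commutator (G ⧸ R) := by
        have := mem_map_of_mem π hx
        rwa [_root_.commutator_def, map_commutator, map_top_of_surjective π hsurj,
          ← _root_.commutator_def] at this
      obtain ⟨i, hi⟩ := mem_zpowers_iff.1 ((zpowers_le.2 hcu) (hcomm h1))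
      rw [← map_zpow] at hi
      rw [show x = u ^ i * ((u ^ i)⁻¹ * x) by group]
      exact mul_mem (mem_sup_left (zpow_mem (mem_zpowers u) i)) (mem_sup_right (QuotientGroup.eq.1 hi))
    refine ⟨u, v, hgen', commutator_le_zpowers hG u (fun hu => ?_) hle⟩
    have hv : zpowers v = ⊤ := CfsgLib.Solvable.eq_top_of_sup_frattini (top_le_iff.1 (hgen' ▸
      (closure_le _).2 (by rintro w (rfl | rfl); exacts [mem_sup_right hu, mem_sup_left (mem_zpowers _)])))
    -- then `G` is cyclic, and so is one of `⟨a⟩`, `⟨b⟩` everything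
    have ha' : a ∈ frattini G := by
      by_contra ha'
      refine hcyc ?_
      obtain ⟨i, hi⟩ := mem_zpowers_iff.1 (hv.ge (mem_top a))
      rcases Int.even_or_odd i with ⟨l, rfl⟩ | hodd
      · refine absurd ?_ ha'
        rw [← hi, show l + l = (2 : ℕ) * l by push_cast; ring, zpow_mul, zpow_natCast]
        exact zpow_mem (CfsgLib.Solvable.pow_mem_frattini hG v) l
      · rw [← top_le_iff, ← hv, zpowers_le, ← hi]
        exact mem_zpowers_odd hG v hodd
    refine hcyc' (CfsgLib.Solvable.eq_top_of_sup_frattini (top_le_iff.1 (hab ▸ (closure_le _).2 ?_)))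
    rintro w (rfl | rfl)
    exacts [mem_sup_right ha', mem_sup_left (mem_zpowers _)]
  by_cases hc1 : c = 1
  · exact hlift a b hgen (hc1 ▸ one_mem _)
  have hc2 : c * c = 1 := by
    rw [hc, ← map_commutatorElement, ← map_mul]
    refine (QuotientGroup.eq_one_iff _).2 (mem_sup_right (subset_closure ⟨_, hmem b⁻¹ a⁻¹, ?_⟩))
    rw [pow_two]
  have hord : orderOf c = 2 := orderOf_eq_prime (by rw [pow_two, hc2]) hc1
  have hpair : GenPair (π a) (π b) c := by
    refine ⟨⟨?_, hcc, hord⟩, hgen⟩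
    rw [hc, map_inv, map_inv, commutatorElement_def]; group
  obtain ⟨u, v, huv, hcu⟩ := exists_gen_mem_zpowers hpair (hG.to_quotient R) (sectional_quotient hr R)
  obtain ⟨u, rfl⟩ := hsurj u
  obtain ⟨v, rfl⟩ := hsurj v
  exact hlift u v huv hcu

end CfsgLib.FGS74
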