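import Mathlib
import Cfsg.Prelude.Def_Transfer
import Cfsg.Agent.Solvable.Frattini

/-!
# The automorphism group of the extraspecial group of order 32 of minus type

The five cosets of noncentral involutions pairwise do not commute; `τ(x) = x` or `x u` (according to
whether `x` commutes with `u = a b`) realises every transposition of the five cosets.
-/

set_option autoImplicit false

namespace CfsgLib.FGS74.MinusThirtyTwo

open scoped commutatorElement

variable {P : Type*} [Group P] [Finite P]

/-- Central element of order two with the standard commutator and square facts. -/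
structure Frame (P : Type*) [Group P] where
  z : P
  z_ne : z ≠ 1
  z_sq : z * z = 1
  z_comm : ∀ x : P, z * x = x * z
  center : ∀ x : P, x ∈ Subgroup.center P → x = 1 ∨ x = z
  comm : ∀ x y : P, ⁅x, y⁆ = 1 ∨ ⁅x, y⁆ = z
  sq : ∀ x : P, x ^ 2 = 1 ∨ x ^ 2 = z

theorem exists_frame (hE : Cfsg.IsExtraspecial 2 P) : Nonempty (Frame P) := by
  have h2 := hE.2
  obtain ⟨a, b, hab, hu⟩ := Nat.card_eq_two_iff.1 h2
  obtain ⟨z, hz1, huniv⟩ : ∃ z : Subgroup.center P, z ≠ 1 ∧ ∀ x : Subgroup.center P, x = 1 ∨ x = z := by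
    have hall : ∀ x : Subgroup.center P, x = a ∨ x = b := fun x => by
      have : x ∈ (Set.univ : Set (Subgroup.center P)) := Set.mem_univ x
      rw [← hu] at this
      simpa using this
    rcases hall 1 with h | h
    · exact ⟨b, fun e => hab (h.symm.trans e.symm), fun x => (hall x).imp (·.trans h.symm) id⟩
    · exact ⟨a, fun e => hab (e.trans h), fun x => (hall x).symm.imp (·.trans h.symm) id⟩
  have hcent : ∀ x : P, x ∈ Subgroup.center P → x = 1 ∨ x = z := fun x hx =>
    (huniv ⟨x, hx⟩).imp (congrArg Subtype.val) (congrArg Subtype.val)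
  refine ⟨⟨z, fun e => hz1 (Subtype.ext e), ?_,
    fun x => ((Subgroup.mem_center_iff.1 z.2) x).symm, hcent, fun x y => hcent _ ?_,
    fun x => hcent _ ?_⟩⟩
  · rcases hcent _ (mul_mem z.2 z.2) with h | h
    · exact h
    · exact absurd (Subtype.ext (mul_eq_left.1 h)) hz1
  · rw [← hE.1.2.2, commutator_def]
    exact Subgroup.commutator_mem_commutator (Subgroup.mem_top _) (Subgroup.mem_top _)
  · rw [← hE.1.2.1]
    exact Solvable.pow_mem_frattini hE.1.1 x

variable (F : Frame P)

omit [Finite P] in
theorem z_mem_center : F.z ∈ Subgroup.center P :=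
  Subgroup.mem_center_iff.2 fun x => (F.z_comm x).symm

omit [Finite P] in
theorem comm_one_iff {x y : P} : ⁅x, y⁆ = 1 ↔ x * y = y * x := commutatorElement_eq_one_iff_mul_comm

omit [Finite P] in
theorem comm_mul (F : Frame P) (x a b : P) : ⁅x, a * b⁆ = ⁅x, a⁆ * ⁅x, b⁆ := by
  have hc : ∀ y : P, ⁅x, y⁆ * a = a * ⁅x, y⁆ := fun y => by
    rcases F.comm x y with h | h <;> rw [h]
    · rw [one_mul, mul_one]
    · exact F.z_comm a
  rw [commutatorElement_mul_right_eq_mul_conj, mul_assoc ⁅x, a⁆, ← hc b]
  group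

omit [Finite P] in
theorem comm_symm (F : Frame P) (x y : P) : ⁅y, x⁆ = ⁅x, y⁆ := by
  rw [← commutatorElement_inv]
  rcases F.comm x y with h | h <;> rw [h]
  · exact inv_one
  · exact inv_eq_of_mul_eq_one_left F.z_sq

omit [Finite P] in
theorem mul_comm_z (x y : P) (h : ⁅x, y⁆ = F.z) : x * y = y * x * F.z := by
  calc x * y = ⁅x, y⁆ * (y * x) := by rw [commutatorElement_def]; group
    _ = y * x * F.z := by rw [h, F.z_comm]

omit [Finite P] in
theorem mod_two_of_pow_eq (F : Frame P) {m n : ℕ} (h : F.z ^ m = F.z ^ n) : m % 2 = n % 2 := by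
  have ho : orderOf F.z = 2 := orderOf_eq_prime (by rw [pow_two]; exact F.z_sq) F.z_ne
  rw [pow_eq_pow_iff_modEq, ho] at h
  exact h

/-- Equality up to the centre. -/
def Near (x y : P) : Prop := x = y ∨ x = y * F.z

omit [Finite P] in
theorem near_symm {x y : P} (h : Near F x y) : Near F y x := by
  rcases h with h | h
  · exact Or.inl h.symm
  · refine Or.inr ?_
    rw [h, mul_assoc, F.z_sq, mul_one]

omit [Finite P] in
theorem near_trans {x y w : P} (h : Near F x y) (h' : Near F y w) : Near F x w := by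
  rcases h with h | h <;> rcases h' with h' | h' <;> subst h h'
  · exact Or.inl rfl
  · exact Or.inr rfl
  · exact Or.inr rfl
  · exact Or.inl (by rw [mul_assoc, F.z_sq, mul_one])

omit [Finite P] in
theorem near_map (φ : MulAut P) {x y : P} (h : Near F x y) : Near F (φ x) (φ y) := by
  have hz : φ F.z = F.z := by
    refine (F.center _ ?_).resolve_left (fun e => F.z_ne ((MulEquiv.map_eq_one_iff φ).1 e))
    rw [Subgroup.mem_center_iff]
    intro g
    obtain ⟨g', rfl⟩ := φ.surjective g
    rw [← map_mul, ← map_mul, F.z_comm g']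
  rcases h with h | h
  · exact Or.inl (congrArg φ h)
  · exact Or.inr (by rw [h, map_mul, hz])

omit [Finite P] in
theorem near_apply_inv (φ : MulAut P) {x y : P} (h : Near F (φ x) y) : Near F x (φ⁻¹ y) := by
  have := near_map F φ⁻¹ h
  rwa [MulAut.inv_apply, MulEquiv.symm_apply_apply] at this

omit [Finite P] in
theorem near_inv_apply (φ : MulAut P) {x y : P} (h : Near F (φ⁻¹ x) y) : Near F x (φ y) := by
  have := near_map F φ h
  rwa [MulAut.inv_apply, MulEquiv.apply_symm_apply] at this

/-- Five pairwise noncommuting involutions covering all noncentral involutions up to the centre. -/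
structure Points where
  a : Fin 5 → P
  sq : ∀ i, a i * a i = 1
  comm : ∀ i j, i ≠ j → ⁅a i, a j⁆ = F.z
  gen : ∀ x : P, (∀ i, ⁅x, a i⁆ = 1) → x = 1 ∨ x = F.z
  cover : ∀ x : P, x * x = 1 → x ∉ Subgroup.center P → ∃ i, Near F x (a i)

/-- Normal form of elements. -/
def word (a : Fin 5 → P) (e : (Fin 4 → Fin 2) × Fin 2) : P :=
  a 0 ^ (e.1 0 : ℕ) * a 1 ^ (e.1 1 : ℕ) * a 2 ^ (e.1 2 : ℕ) * a 3 ^ (e.1 3 : ℕ) * F.z ^ (e.2 : ℕ)

theorem word_bijective (h32 : Nat.card P = 32) (a : Fin 5 → P)
    (hcomm : ∀ i j, i ≠ j → ⁅a i, a j⁆ = F.z) : Function.Bijective (word F a) := by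
  refine (Nat.bijective_iff_injective_and_card _).2 ⟨?_, by simp [h32]⟩
  have hpow : ∀ (x y : P) (n : ℕ), ⁅x, y ^ n⁆ = ⁅x, y⁆ ^ n := by
    intro x y n
    induction n with
    | zero => simp
    | succ n ih => rw [pow_succ, comm_mul F, ih, pow_succ]
  have key : ∀ (e : (Fin 4 → Fin 2) × Fin 2) (j : Fin 4),
      ⁅a j.castSucc, word F a e⁆ = F.z ^ (∑ i : Fin 4, if i = j then 0 else (e.1 i : ℕ)) := by
    intro e j
    have h1 : ∀ i : Fin 4, ⁅a j.castSucc, a i.castSucc ^ (e.1 i : ℕ)⁆
        = F.z ^ (if i = j then 0 else (e.1 i : ℕ)) := by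
      intro i
      rw [hpow]
      split_ifs with h
      · subst h; simp
      · rw [hcomm _ _ (fun e' => h (Fin.castSucc_injective _ e').symm)]
    have h5 : ⁅a j.castSucc, F.z ^ (e.2 : ℕ)⁆ = 1 := by
      rw [hpow, comm_one_iff.2 (F.z_comm _).symm, one_pow]
    simp only [word, comm_mul F, h5, mul_one, Fin.sum_univ_four, pow_add]
    exact congrArg₂ (· * ·) (congrArg₂ (· * ·) (congrArg₂ (· * ·) (h1 0) (h1 1)) (h1 2)) (h1 3)
  have hdec : ∀ e e' : Fin 4 → Fin 2, (∀ j : Fin 4,
      (∑ i : Fin 4, if i = j then 0 else (e i : ℕ)) % 2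
        = (∑ i : Fin 4, if i = j then 0 else (e' i : ℕ)) % 2) → e = e' := by
    decide +kernel
  intro e e' he
  have h1 : e.1 = e'.1 := by
    refine hdec _ _ fun j => ?_
    have h := key e j
    rw [he, key e' j] at h
    exact mod_two_of_pow_eq F h.symm
  refine Prod.ext h1 ?_
  simp only [word, h1, mul_right_inj] at he
  have h := mod_two_of_pow_eq F he
  have := e.2.isLt
  have := e'.2.isLt
  exact Fin.ext (by omega)

theorem exists_points (h32 : Nat.card P = 32)
    (hminus : ∀ A : Subgroup P, Cfsg.IsElementaryAbelian 2 A → Nat.card A ≤ 4)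
    (hcount : 12 ≤ Nat.card {x : P // x ^ 2 = 1}) : Nonempty (Points F) := by
  classical
  letI := Fintype.ofFinite P
  -- involutions of different cosets do not commute
  have hnc : ∀ x y : P, x * x = 1 → y * y = 1 → x ∉ Subgroup.center P → y ∉ Subgroup.center P →
      ¬ Near F y x → ⁅x, y⁆ = F.z := by
    intro x y hx hy hxc hyc hne
    refine (F.comm x y).resolve_left fun hxy => ?_
    rw [comm_one_iff] at hxy
    let A : Subgroup P := Subgroup.closure {x, y, F.z}
    have hpair : ∀ u ∈ ({x, y, F.z} : Set P), ∀ v ∈ ({x, y, F.z} : Set P), u * v = v * u := by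
      rintro u (rfl | rfl | rfl) v (rfl | rfl | rfl) <;>
        first
          | rfl
          | exact hxy
          | exact hxy.symm
          | exact F.z_comm _
          | exact (F.z_comm _).symm
    have hA : Cfsg.IsElementaryAbelian 2 A := by
      have hc : IsMulCommutative A := Subgroup.isMulCommutative_closure hpair
      refine ⟨hc, fun u hu => ?_⟩
      induction hu using Subgroup.closure_induction with
      | mem u hu => rcases hu with rfl | rfl | rfl <;> rw [pow_two] <;> first | exact hx | exact hy | exact F.z_sq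
      | one => exact one_pow 2
      | mul u v hu hv h1 h2 =>
        have huv : u * v = v * u := congrArg Subtype.val (hc.is_comm.comm ⟨u, hu⟩ ⟨v, hv⟩)
        rw [Commute.mul_pow huv, h1, h2, one_mul]
      | inv u _ h1 => rw [inv_pow, h1, inv_one]
    have h4 := hminus A hA
    have hxm : x ∈ A := Subgroup.subset_closure (by simp)
    have hym : y ∈ A := Subgroup.subset_closure (by simp)
    have hzm : F.z ∈ A := Subgroup.subset_closure (by simp)
    let f : Fin 5 → A := ![1, ⟨F.z, hzm⟩, ⟨x, hxm⟩, ⟨x * F.z, mul_mem hxm hzm⟩, ⟨y, hym⟩]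
    have hx1 : x ≠ 1 := fun e => hxc (e ▸ one_mem _)
    have hxz : x ≠ F.z := fun e => hxc (e ▸ z_mem_center F)
    have hy1 : y ≠ 1 := fun e => hyc (e ▸ one_mem _)
    have hyz : y ≠ F.z := fun e => hyc (e ▸ z_mem_center F)
    have hxz1 : x * F.z ≠ 1 := fun e => hxz ((eq_inv_of_mul_eq_one_left e).trans
      (inv_eq_of_mul_eq_one_left F.z_sq))
    have hxzz : x * F.z ≠ F.z := fun e => hx1 (mul_eq_right.1 e)
    have hxxz : x ≠ x * F.z := fun e => F.z_ne (left_eq_mul.1 e)
    have hyx : y ≠ x := fun e => hne (Or.inl e)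
    have hyxz : y ≠ x * F.z := fun e => hne (Or.inr e)
    have hf : Function.Injective f := by
      have hn : Function.Injective (![1, F.z, x, x * F.z, y] : Fin 5 → P) := by
        rw [← List.nodup_ofFn]
        simp only [List.ofFn_succ, List.ofFn_zero, Matrix.cons_val_zero, Matrix.cons_val_succ,
          List.nodup_cons, List.mem_cons, List.not_mem_nil, List.nodup_nil, or_false, not_or]
        exact ⟨⟨F.z_ne.symm, hx1.symm, hxz1.symm, hy1.symm⟩,
          ⟨hxz.symm, hxzz.symm, hyz.symm⟩, ⟨hxxz, hyx.symm⟩, hyxz.symm, not_false, trivial⟩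
      refine Function.Injective.of_comp (f := (Subtype.val : A → P)) ?_
      convert hn using 1
      funext i
      fin_cases i <;> rfl
    have := Nat.card_le_card_of_injective f hf
    rw [Nat.card_fin] at this
    omega
  -- at least five cosets of noncentral involutions
  let T : Finset P := Finset.univ.filter fun x => x ^ 2 = 1 ∧ x ∉ Subgroup.center P
  have hT : 10 ≤ T.card := by
    have h1 : (Finset.univ.filter fun x : P => x ^ 2 = 1) ⊆ T ∪ {1, F.z} := by
      intro x hx
      by_cases hc : x ∈ Subgroup.center P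
      · rcases F.center x hc with h | h <;> simp [h]
      · simp [T, (Finset.mem_filter.1 hx).2, hc]
    have h2 := (Finset.card_le_card h1).trans (Finset.card_union_le _ _)
    rw [← Fintype.card_subtype, ← Nat.card_eq_fintype_card] at h2
    have h3 : ({1, F.z} : Finset P).card ≤ 2 := (Finset.card_insert_le _ _).trans (by simp)
    omega
  have himg : 5 ≤ (T.image (QuotientGroup.mk : P → P ⧸ Subgroup.center P)).card := by
    have h1 := Finset.card_le_mul_card_image (f := (QuotientGroup.mk : P → P ⧸ Subgroup.center P))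
      T 2 (fun q hq => by
        obtain ⟨w, -, rfl⟩ := Finset.mem_image.1 hq
        refine (Finset.card_le_card (t := {w, w * F.z}) fun x hx => ?_).trans
          ((Finset.card_insert_le _ _).trans (by simp))
        have he : w⁻¹ * x ∈ Subgroup.center P :=
          QuotientGroup.eq.1 (Finset.mem_filter.1 hx).2.symm
        rcases F.center _ he with h | h
        · simp [(inv_mul_eq_one.1 h).symm]
        · simp [inv_mul_eq_iff_eq_mul.1 h])
    omega
  obtain ⟨S, hS, hS5⟩ := Finset.exists_subset_card_eq himg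
  let e : Fin 5 ≃ S := (S.equivFinOfCardEq hS5).symm
  choose a haT ha using fun i => Finset.mem_image.1 (hS (e i).2)
  have hsq : ∀ i, a i * a i = 1 := fun i => by
    rw [← pow_two]; exact (Finset.mem_filter.1 (haT i)).2.1
  have hnotc : ∀ i, a i ∉ Subgroup.center P := fun i => (Finset.mem_filter.1 (haT i)).2.2
  have hcomm : ∀ i j, i ≠ j → ⁅a i, a j⁆ = F.z := fun i j hij => by
    refine hnc _ _ (hsq i) (hsq j) (hnotc i) (hnotc j) fun hnear => hij ?_
    refine e.injective (Subtype.ext ?_)
    rw [← ha i, ← ha j, QuotientGroup.eq]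
    rcases hnear with h | h
    · simp [h]
    · simpa [h] using z_mem_center F
  have hgen : ∀ x : P, (∀ i, ⁅x, a i⁆ = 1) → x = 1 ∨ x = F.z := by
    intro x hx
    refine F.center x (Subgroup.mem_center_iff.2 fun y => ?_)
    obtain ⟨w, rfl⟩ := (word_bijective F h32 a hcomm).2 y
    have hc : ∀ i, Commute x (a i) := fun i => comm_one_iff.1 (hx i)
    exact (((((hc 0).pow_right _).mul_right ((hc 1).pow_right _)).mul_right ((hc 2).pow_right _)
      ).mul_right ((hc 3).pow_right _)).mul_right
        (Commute.pow_right (F.z_comm x).symm _) |>.eq.symm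
  refine ⟨⟨a, hsq, hcomm, hgen, fun x hx hxc => ?_⟩⟩
  by_contra hno
  push Not at hno
  -- six pairwise noncommuting cosets are impossible
  have hxa : ∀ i, ⁅x, a i⁆ = F.z := fun i => by
    rw [comm_symm F]
    exact hnc _ _ (hsq i) hx (hnotc i) hxc (hno i)
  have h5 : ∀ i : Fin 4, ⁅a i.castSucc, x * a 4⁆ = 1 := fun i => by
    rw [comm_mul F, comm_symm F x, hxa, hcomm _ 4 (Fin.castSucc_lt_last i).ne, F.z_sq]
  have h6 : x * a 4 = 1 ∨ x * a 4 = F.z := by
    refine F.center _ (Subgroup.mem_center_iff.2 fun y => ?_)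
    obtain ⟨w, rfl⟩ := (word_bijective F h32 a hcomm).2 y
    have hc : ∀ i : Fin 4, Commute (x * a 4) (a i.castSucc) := fun i =>
      (comm_one_iff.1 (h5 i)).symm
    exact (((((hc 0).pow_right _).mul_right ((hc 1).pow_right _)).mul_right ((hc 2).pow_right _)
      ).mul_right ((hc 3).pow_right _)).mul_right
        (Commute.pow_right (F.z_comm _).symm _) |>.eq.symm
  apply hno 4
  rcases h6 with h | h
  · exact Or.inl (by rw [eq_inv_of_mul_eq_one_left h, inv_eq_of_mul_eq_one_left (hsq 4)])
  · refine Or.inr ?_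
    rw [← F.z_comm, ← h, mul_assoc, hsq 4, mul_one]

open Classical in
/-- The automorphism `x ↦ x` or `x u` attached to an element squaring to `z`. -/
noncomputable def tau (u : P) (hu : u * u = F.z) : MulAut P :=
  MulEquiv.ofBijective
    (MonoidHom.mk' (fun x => if ⁅x, u⁆ = 1 then x else x * u) (fun x y => by
      have hxy : ⁅x * y, u⁆ = ⁅x, u⁆ * ⁅y, u⁆ := by
        rw [comm_symm F u, comm_mul F, comm_symm F x, comm_symm F y]
      rcases F.comm x u with hx | hx <;> rcases F.comm y u with hy | hy
      · simp [hxy, hx, hy]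
      · simp [hxy, hx, hy, F.z_ne, mul_assoc]
      · have hyu : y * u = u * y := comm_one_iff.1 hy
        simp only [hxy, hx, hy, mul_one, F.z_ne, if_false, if_true]
        rw [mul_assoc, hyu, ← mul_assoc]
      · simp only [hxy, hx, hy, F.z_sq, F.z_ne, if_true, if_false]
        calc x * y = x * (y * u * F.z) * u := by
              rw [mul_assoc (x : P), mul_assoc (y * u), F.z_comm u, ← mul_assoc (y * u),
                mul_assoc y u u, hu, mul_assoc y, F.z_sq, mul_one]
          _ = x * (u * y) * u := by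
              rw [mul_comm_z F y u hy, mul_assoc (u * y), F.z_sq, mul_one]
          _ = x * u * (y * u) := by group))
    ((Finite.injective_iff_bijective).1 (by
      rw [injective_iff_map_eq_one]
      intro x hx
      simp only [MonoidHom.mk'_apply] at hx
      split_ifs at hx with h
      · exact hx
      · refine absurd ?_ h
        rw [eq_inv_of_mul_eq_one_left hx, comm_one_iff]
        group))

variable {F} (Q : Points F)

theorem tau_apply (u : P) (hu : u * u = F.z) (x : P) :
    (⁅x, u⁆ = 1 → tau F u hu x = x) ∧ (⁅x, u⁆ = F.z → tau F u hu x = x * u) := by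
  constructor <;> intro h <;>
    simp [tau, MulEquiv.ofBijective_apply, h, F.z_ne]

include Q in
omit [Finite P] in
theorem near_inj {x : P} {i j : Fin 5} (h : Near F x (Q.a i)) (h' : Near F x (Q.a j)) : i = j := by
  by_contra hne
  have h1 := Q.comm i j hne
  rcases near_trans F (near_symm F h) h' with e | e
  · rw [e, commutatorElement_self] at h1
    exact F.z_ne h1.symm
  · refine F.z_ne ?_
    rw [← h1, e, comm_one_iff, mul_assoc, F.z_comm]

include Q in
omit [Finite P] in
theorem exists_image (φ : MulAut P) (i : Fin 5) : ∃ j, Near F (φ (Q.a i)) (Q.a j) := by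
  refine Q.cover _ (by rw [← map_mul, Q.sq, map_one]) fun hc => ?_
  have h2 : Q.a i ∈ Subgroup.center P := Subgroup.mem_center_iff.2 fun g => by
    apply φ.injective
    rw [map_mul, map_mul]
    exact Subgroup.mem_center_iff.1 hc (φ g)
  obtain ⟨j, hj⟩ := exists_ne i
  have h3 := Q.comm i j hj.symm
  rw [comm_one_iff.2 (Subgroup.mem_center_iff.1 h2 (Q.a j)).symm] at h3
  exact F.z_ne h3.symm

/-- The permutation of the five cosets. -/
noncomputable def permHom : MulAut P →* Equiv.Perm (Fin 5) where
  toFun φ :=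
    { toFun := fun i => Classical.choose (exists_image Q φ i)
      invFun := fun i => Classical.choose (exists_image Q φ⁻¹ i)
      left_inv := fun i => by
        refine near_inj Q (Classical.choose_spec (exists_image Q φ⁻¹ _)) ?_
        exact near_symm F (near_apply_inv F φ (Classical.choose_spec (exists_image Q φ i)))
      right_inv := fun i => by
        refine near_inj Q (Classical.choose_spec (exists_image Q φ _)) ?_
        exact near_symm F (near_inv_apply F φ (Classical.choose_spec (exists_image Q φ⁻¹ i))) }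
  map_one' := Equiv.ext fun i =>
    near_inj Q (Classical.choose_spec (exists_image Q 1 i)) (Or.inl rfl)
  map_mul' φ ψ := Equiv.ext fun i => by
    refine near_inj Q (Classical.choose_spec (exists_image Q (φ * ψ) i)) ?_
    exact near_trans F (near_map F φ (Classical.choose_spec (exists_image Q ψ i)))
      (Classical.choose_spec (exists_image Q φ _))

theorem permHom_spec (φ : MulAut P) (i : Fin 5) :
    Near F (φ (Q.a i)) (Q.a (permHom Q φ i)) := Classical.choose_spec (exists_image Q φ i)

theorem permHom_surjective : Function.Surjective (permHom Q) := by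
  rw [← MonoidHom.range_eq_top, eq_top_iff, ← Equiv.Perm.closure_isSwap, Subgroup.closure_le]
  rintro _ ⟨i, j, hij, rfl⟩
  have hu : Q.a i * Q.a j * (Q.a i * Q.a j) = F.z := by
    calc Q.a i * Q.a j * (Q.a i * Q.a j) = (Q.a i * Q.a j) * Q.a i * Q.a j := by group
      _ = Q.a j * (Q.a i * Q.a i) * Q.a j * F.z := by
          rw [mul_comm_z F _ _ (Q.comm i j hij)]
          simp only [mul_assoc, F.z_comm]
      _ = F.z := by rw [Q.sq, mul_one, Q.sq, one_mul]
  refine ⟨tau F _ hu, Equiv.ext fun l => near_inj Q (permHom_spec Q _ l) ?_⟩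
  have hcl : ∀ m, ⁅Q.a m, Q.a i * Q.a j⁆ = ⁅Q.a m, Q.a i⁆ * ⁅Q.a m, Q.a j⁆ := fun m =>
    comm_mul F _ _ _
  rcases eq_or_ne l i with rfl | hli
  · rw [Equiv.swap_apply_left, (tau_apply _ hu _).2 (by
      rw [hcl, commutatorElement_self, one_mul, Q.comm _ _ hij]), ← mul_assoc, Q.sq, one_mul]
    exact Or.inl rfl
  rcases eq_or_ne l j with rfl | hlj
  · rw [Equiv.swap_apply_right, (tau_apply _ hu _).2 (by
      rw [hcl, commutatorElement_self, mul_one, Q.comm _ _ hij.symm]),
      mul_comm_z F _ _ (Q.comm i l hij), ← mul_assoc, ← mul_assoc, Q.sq, one_mul]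
    exact Or.inr rfl
  · rw [Equiv.swap_apply_of_ne_of_ne hli hlj, (tau_apply _ hu _).1 (by
      rw [hcl, Q.comm _ _ hli, Q.comm _ _ hlj, F.z_sq])]
    exact Or.inl rfl

omit [Finite P] in
theorem ker_conj : (MulAut.conj : P →* MulAut P).ker = Subgroup.center P := by
  ext x
  rw [MonoidHom.mem_ker, Subgroup.mem_center_iff]
  constructor
  · intro h g
    have := congrArg (fun f : MulAut P => f g) h
    simp only [MulAut.conj_apply, MulAut.one_apply] at this
    exact (mul_inv_eq_iff_eq_mul.1 this).symm
  · intro h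
    refine MulEquiv.ext fun g => ?_
    rw [MulAut.conj_apply, ← h g, mul_inv_cancel_right]
    rfl

theorem ker_permHom (h32 : Nat.card P = 32) :
    (permHom Q).ker = (MulAut.conj : P →* MulAut P).range ∧
      Nat.card (MulAut.conj : P →* MulAut P).range = 16 := by
  classical
  have hcard : Nat.card (MulAut.conj : P →* MulAut P).range = 16 := by
    have h1 := Subgroup.card_mul_index (MulAut.conj : P →* MulAut P).ker
    rw [Subgroup.index_ker, h32, ker_conj] at h1
    have h2 : Nat.card (Subgroup.center P) = 2 := by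
      rw [Nat.card_eq_two_iff]
      refine ⟨1, ⟨F.z, z_mem_center F⟩, fun e => F.z_ne (congrArg Subtype.val e).symm, ?_⟩
      refine Set.eq_univ_of_forall fun x => ?_
      rcases F.center x x.2 with h | h
      · exact Or.inl (Subtype.ext h)
      · exact Or.inr (Subtype.ext h)
    rw [h2] at h1
    omega
  refine ⟨(Subgroup.eq_of_le_of_card_ge ?_ ?_).symm, hcard⟩
  · rintro _ ⟨g, rfl⟩
    rw [MonoidHom.mem_ker]
    refine Equiv.ext fun i => near_inj Q (permHom_spec Q _ i) ?_
    rw [MulAut.conj_apply, show g * Q.a i * g⁻¹ = ⁅g, Q.a i⁆ * Q.a i by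
      rw [commutatorElement_def]; group]
    rcases F.comm g (Q.a i) with h | h <;> rw [h]
    · exact Or.inl (one_mul _)
    · exact Or.inr (F.z_comm _)
  · rw [hcard]
    let s : (permHom Q).ker → (Fin 4 → Bool) := fun φ i =>
      decide ((φ : MulAut P) (Q.a i.castSucc) = Q.a i.castSucc)
    refine (Nat.card_le_card_of_injective s ?_).trans (le_of_eq (by simp))
    intro φ ψ h
    have hz : ∀ θ : MulAut P, θ F.z = F.z := fun θ => by
      rcases near_map F θ (Or.inr (one_mul F.z).symm : Near F F.z 1) with e | e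
      · exact absurd (θ.map_eq_one_iff.1 (e.trans (map_one θ))) F.z_ne
      · rw [map_one, one_mul] at e; exact e
    have hfix : ∀ θ : (permHom Q).ker, ∀ i, Near F ((θ : MulAut P) (Q.a i)) (Q.a i) := fun θ i => by
      have h1 := permHom_spec Q θ i
      rwa [show permHom Q θ = 1 from θ.2] at h1
    have hgen : ∀ i : Fin 4, (φ : MulAut P) (Q.a i.castSucc) = (ψ : MulAut P) (Q.a i.castSucc) := by
      intro i
      have hi : decide ((φ : MulAut P) (Q.a i.castSucc) = Q.a i.castSucc)
          = decide ((ψ : MulAut P) (Q.a i.castSucc) = Q.a i.castSucc) := congrFun h i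
      rw [decide_eq_decide] at hi
      rcases hfix φ i.castSucc with h1 | h1 <;> rcases hfix ψ i.castSucc with h2 | h2
      · rw [h1, h2]
      · rw [h1, hi.1 h1]
      · rw [hi.2 h2, h2]
      · rw [h1, h2]
    refine Subtype.ext (MulEquiv.ext fun x => ?_)
    obtain ⟨w, rfl⟩ := (word_bijective F h32 Q.a Q.comm).2 x
    simp only [word, map_mul, map_pow, hz, show ∀ i : Fin 4, (φ : MulAut P) (Q.a i.castSucc)
      = (ψ : MulAut P) (Q.a i.castSucc) from hgen]
    exact congrArg₂ (· * ·) (congrArg₂ (· * ·) (congrArg₂ (· * ·) (congrArg₂ (· * ·)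
      (congrArg (· ^ (w.1 0 : ℕ)) (hgen 0)) (congrArg (· ^ (w.1 1 : ℕ)) (hgen 1)))
      (congrArg (· ^ (w.1 2 : ℕ)) (hgen 2))) (congrArg (· ^ (w.1 3 : ℕ)) (hgen 3))) rfl

end CfsgLib.FGS74.MinusThirtyTwo
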