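import Cfsg.Agent.PLocal.PSolvable
import Cfsg.Agent.Coprime.SchurZassenhaus
import Cfsg.Agent.Coprime.Action
import Cfsg.Agent.Coprime.Abelian
import Cfsg.Agent.CharPLocal.Basic

/-!
# Maximal subgroups `p`-nilpotent or of prime index: `p`-length at most two

* `exists_pChain`: if every maximal subgroup of a finite `p`-solvable group has a normal
  `p`-complement or prime index, there are normal `A ≤ B ≤ C` with `A`, `C/B` of order prime to
  `p` and `B/A`, `G/C` `p`-groups.
-/

set_option autoImplicit false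

namespace CfsgLib.FGS74

open Subgroup Cfsg
open scoped Pointwise commutatorElement

variable {G : Type*} [Group G] [Finite G] {p : ℕ} [hp : Fact p.Prime]

/-- Every maximal subgroup has a normal `p`-complement or prime index. -/
def MaxNilpOrPrime (p : ℕ) (G : Type*) [Group G] : Prop :=
  ∀ M : Subgroup G, IsCoatom M →
    (∃ K : Subgroup ↥M, K.Normal ∧ ¬ p ∣ Nat.card K ∧ ∃ k : ℕ, K.index = p ^ k) ∨ (M.index).Prime

omit [Finite G] hp in
theorem sup_eq_top_of_coatom {P M : Subgroup G} (hM : IsCoatom M) (hP : ¬ P ≤ M) : P ⊔ M = ⊤ :=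
  hM.2 _ (lt_of_le_of_ne le_sup_right fun h => hP (h ▸ le_sup_left))

omit [Finite G] hp in
theorem chain_of_complement {P M : Subgroup G} [P.Normal] (hPM : P ⊔ M = ⊤)
    {K : Subgroup ↥M} (hK : K.Normal) (hKp : ¬ p ∣ Nat.card K) {k : ℕ} (hKi : K.index = p ^ k)
    (hp' : p.Prime) :
    ∃ C : Subgroup G, C.Normal ∧ P ≤ C ∧ ¬ p ∣ P.relIndex C ∧ ∃ j : ℕ, C.index = p ^ j := by
  set K' := K.map M.subtype with hK'
  have hMK : M ≤ normalizer (K' : Set G) := by
    intro m hm
    rw [mem_normalizer_iff]
    intro x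
    constructor
    · rintro ⟨y, hy, rfl⟩
      exact ⟨⟨m, hm⟩ * y * ⟨m, hm⟩⁻¹, hK.conj_mem y hy _, rfl⟩
    · rintro ⟨y, hy, hxy⟩
      refine ⟨⟨m, hm⟩⁻¹ * y * ⟨m, hm⟩, by simpa using hK.conj_mem y hy ⟨m, hm⟩⁻¹, ?_⟩
      simp only [coe_subtype] at hxy
      simp [hxy, mul_assoc]
  have hCn : (P ⊔ K').Normal := by
    refine normalizer_eq_top_iff.1 (top_le_iff.1 (hPM ▸ sup_le (le_sup_left.trans le_normalizer) ?_))
    intro m hm
    rw [mem_normalizer_iff_map_conj_eq, Subgroup.map_sup, mem_normalizer_iff_map_conj_eq.1 (hMK hm),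
      mem_normalizer_iff_map_conj_eq.1 ((le_normalizer_of_normal : M ≤ normalizer (P : Set G)) hm)]
  refine ⟨P ⊔ K', hCn, le_sup_left, ?_, ?_⟩
  · rw [sup_comm, relIndex_sup_right]
    intro h
    refine hKp (h.trans ((Subgroup.index_dvd_card _).trans (dvd_of_eq ?_)))
    exact Nat.card_congr (K.equivMapOfInjective M.subtype M.subtype_injective).toEquiv.symm
  · have h1 : (P ⊔ K').index = (P ⊔ K').relIndex M := by
      rw [← relIndex_top_right, ← hPM, sup_comm P M]
      rw [show M ⊔ P = M ⊔ (P ⊔ K') from ?_, relIndex_sup_right]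
      rw [← sup_assoc]
      refine (sup_eq_left.2 ?_).symm
      exact (map_subtype_le K).trans le_sup_left
    have h2 : (P ⊔ K').relIndex M ∣ K.index := by
      refine Subgroup.index_dvd_of_le ?_
      intro x hx
      exact mem_subgroupOf.2 (mem_sup_right ⟨x, hx, rfl⟩)
    obtain ⟨j, -, hj⟩ := (Nat.dvd_prime_pow hp').1 (hKi ▸ h1 ▸ h2)
    exact ⟨j, hj⟩

/-- The case of trivial `O_{p'}`. -/
theorem exists_pChain_of_reduced (hG : IsPSolvable p G) (hO : pPrimeCore p G = ⊥)
    (hmax : MaxNilpOrPrime p G) :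
    ∃ C : Subgroup G, C.Normal ∧ pCore p G ≤ C ∧ ¬ p ∣ (pCore p G).relIndex C ∧
      ∃ j : ℕ, C.index = p ^ j := by
  classical
  set P := pCore p G with hPdef
  have hPn : P.Normal := by rw [hPdef]; infer_instance
  have hPp : IsPGroup p P := CfsgLib.PLocal.isPGroup_pCore p G
  by_cases hcase : ∃ M : Subgroup G, IsCoatom M ∧ ¬ P ≤ M ∧
      ∃ K : Subgroup ↥M, K.Normal ∧ ¬ p ∣ Nat.card K ∧ ∃ k : ℕ, K.index = p ^ k
  · obtain ⟨M, hM, hPM, K, hK, hKp, k, hKi⟩ := hcase
    exact chain_of_complement (sup_eq_top_of_coatom hM hPM) hK hKp hKi hp.out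
  push Not at hcase
  refine ⟨⊤, inferInstance, le_top, ?_, ⟨0, by simp⟩⟩
  -- every maximal subgroup not containing `P` meets it in a normal subgroup of index `p`
  have hD : ∀ M : Subgroup G, IsCoatom M → ¬ P ≤ M →
      (P ⊓ M).normalCore = P ⊓ M ∧ (P ⊓ M).relIndex P = p := by
    intro M hM hPM
    have htop := sup_eq_top_of_coatom hM hPM
    have hprime : M.index.Prime := (hmax M hM).resolve_left fun ⟨K, h1, h2, h3⟩ => by
      obtain ⟨k, hk⟩ := h3
      exact hcase M hM hPM K h1 h2 k hk
    have h1 : P.relIndex M = P.index := by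
      conv_rhs => rw [← relIndex_top_right, ← htop, sup_comm, relIndex_sup_right]
    have e : (P ⊓ M).relIndex P * P.index = M.index * P.index := by
      rw [relIndex_mul_index inf_le_left, ← relIndex_mul_index (inf_le_right : P ⊓ M ≤ M),
        inf_relIndex_right, h1, mul_comm]
    have e' : (P ⊓ M).relIndex P = M.index := Nat.eq_of_mul_eq_mul_right (Nat.pos_of_ne_zero index_ne_zero_of_finite) e
    have hidx : (P ⊓ M).relIndex P = p := by
      obtain ⟨n, hn⟩ := IsPGroup.iff_card.1 hPp
      have hd : (P ⊓ M).relIndex P ∣ p ^ n := hn ▸ Subgroup.index_dvd_card _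
      obtain ⟨j, -, hj⟩ := (Nat.dvd_prime_pow hp.out).1 hd
      rw [hj] at e' ⊢
      have hpr : (p ^ j).Prime := e' ▸ hprime
      rw [hpr.eq_one_of_pow, pow_one]
    refine ⟨?_, hidx⟩
    suffices hn : (P ⊓ M).Normal from normalCore_eq_self _
    refine normalizer_eq_top_iff.1 (top_le_iff.1 (htop ▸ sup_le ?_ ?_))
    · refine (normal_subgroupOf_iff_le_normalizer inf_le_left).1 ?_
      have := hPp.isNilpotent
      have hc : IsCoatom ((P ⊓ M).subgroupOf P) := by
        refine ⟨fun h => ?_, fun H hH => ?_⟩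
        · exact hPM ((subgroupOf_eq_top.1 h).trans inf_le_right)
        · have h := relIndex_mul_index hH.le
          rw [show ((P ⊓ M).subgroupOf P).index = p from hidx] at h
          rcases (Nat.dvd_prime hp.out).1 (Dvd.intro_left _ h) with h' | h'
          · exact index_eq_one.1 h'
          · exfalso
            rw [h'] at h
            exact hH.not_ge (relIndex_eq_one.1 (mul_eq_right₀ hp.out.ne_zero |>.1 h))
      exact NormalizerCondition.normal_of_coatom _ Group.normalizerCondition_of_isNilpotent hc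
    · exact (le_inf le_normalizer_of_normal le_normalizer).trans inf_normalizer_le_normalizer_inf
  let ι := {M : Subgroup G // IsCoatom M ∧ ¬ P ≤ M}
  let Dm : ι → Subgroup G := fun M => (P ⊓ M.1).normalCore
  let C : Subgroup G := ⨅ M : ι,
    (centralizer ((P.map (QuotientGroup.mk' (Dm M)) : Subgroup (G ⧸ Dm M)) : Set (G ⧸ Dm M))).comap
      (QuotientGroup.mk' (Dm M))
  have hUn : ∀ M : ι, (P.map (QuotientGroup.mk' (Dm M))).Normal := fun M =>
    hPn.map _ (QuotientGroup.mk'_surjective _)
  have hUc : ∀ M : ι, Nat.card (P.map (QuotientGroup.mk' (Dm M))) = p := by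
    intro M
    rw [← relIndex_ker, QuotientGroup.ker_mk', show Dm M = P ⊓ M.1 from (hD M.1 M.2.1 M.2.2).1]
    exact (hD M.1 M.2.1 M.2.2).2
  have hCn : C.Normal := by
    refine Subgroup.normal_iInf_normal fun M => ?_
    have := hUn M
    exact Normal.comap inferInstance _
  have hPC : P ≤ C := by
    refine le_iInf fun M x hx => ?_
    rw [mem_comap, mem_centralizer_iff]
    intro u hu
    have := isCyclic_of_prime_card (hUc M)
    exact congrArg Subtype.val (IsCyclic.commGroup.mul_comm
      (⟨u, hu⟩ : ↥(P.map (QuotientGroup.mk' (Dm M)))) ⟨_, mem_map_of_mem _ hx⟩)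
  have hCP : C ≤ P := by
    by_contra hne
    let π := QuotientGroup.mk' P
    let C' := C.map π
    have hC'n : C'.Normal := hCn.map π (QuotientGroup.mk'_surjective P)
    have : Nontrivial C' := by
      rw [nontrivial_iff_ne_bot]
      intro h
      rw [eq_bot_iff, map_le_iff_le_comap, MonoidHom.comap_bot, QuotientGroup.ker_mk'] at h
      exact hne h
    let L' := pPrimeCore p (G ⧸ P) ⊓ C'
    have hL' : L' ≠ ⊥ := by
      intro hbot
      rcases CfsgLib.PLocal.pCore_ne_bot_or_of_isPSolvable
          (CfsgLib.PLocal.isPSolvable_subgroup (CfsgLib.PLocal.isPSolvable_quotient hG P) C') with h | h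
      · refine h ((map_eq_bot_iff_of_injective _ C'.subtype_injective).1 (le_bot_iff.1 ?_))
        exact (CfsgLib.PLocal.pCore_map_subtype_le C').trans
          (CfsgLib.PLocal.pCore_quotient_pCore_eq_bot p G).le
      · refine h ((map_eq_bot_iff_of_injective _ C'.subtype_injective).1 (le_bot_iff.1 ?_))
        exact (le_inf (CfsgLib.PLocal.pPrimeCore_map_subtype_le C') (map_subtype_le _)).trans hbot.le
    let L := L'.comap π
    have hLn : L.Normal := Normal.comap inferInstance _
    have hPL : P ≤ L := by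
      intro x hx
      rw [mem_comap, show π x = 1 from (QuotientGroup.eq_one_iff x).2 hx]
      exact one_mem _
    have hLC : L ≤ C := (comap_mono inf_le_right).trans (by
      rw [comap_map_eq, QuotientGroup.ker_mk']; exact sup_le le_rfl hPC)
    have hrel : (P.relIndex L).Coprime p := by
      have : P.relIndex L = Nat.card L' := by
        have h := relIndex_ker (K := L) π
        rwa [QuotientGroup.ker_mk', map_comap_eq_self_of_surjective (QuotientGroup.mk'_surjective P)] at h
      rw [this]
      exact CfsgLib.PLocal.coprime_card_of_le inf_le_left (CfsgLib.PLocal.coprime_card_pPrimeCore p _)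
    obtain ⟨n, hn⟩ := IsPGroup.iff_card.1 hPp
    have hPLc : Nat.card (P.subgroupOf L) = p ^ n :=
      (Nat.card_congr (subgroupOfEquivOfLe hPL).toEquiv).trans hn
    obtain ⟨Q0, hQ0⟩ := exists_right_complement'_of_coprime (N := P.subgroupOf L)
      (by rw [hPLc]; exact hrel.symm.pow_left n)
    let Q := Q0.map L.subtype
    have hQL : Q ≤ L := map_subtype_le _
    have hQcard : Nat.card Q = P.relIndex L := by
      rw [← Nat.card_congr (Q0.equivMapOfInjective L.subtype L.subtype_injective).toEquiv]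
      exact hQ0.symm.index_eq_card.symm
    have hPQ : P ⊔ Q = L := by
      refine le_antisymm (sup_le hPL hQL) fun x hx => ?_
      have : (⟨x, hx⟩ : L) ∈ P.subgroupOf L ⊔ Q0 := hQ0.sup_eq_top ▸ mem_top _
      have h' := mem_map_of_mem L.subtype this
      rw [Subgroup.map_sup, subgroupOf_map_subtype, inf_eq_left.2 hPL] at h'
      exact h'
    have hQp : (Nat.card Q).Coprime p := hQcard ▸ hrel
    have hsup : P ⊔ normalizer (Q : Set G) = ⊤ := by
      refine top_le_iff.1 fun g _ => ?_
      have hmap : L.map (MulAut.conj g).toMonoidHom = L := by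
        ext x
        rw [mem_map]
        constructor
        · rintro ⟨y, hy, rfl⟩; exact hLn.conj_mem y hy g
        · intro hx; exact ⟨g⁻¹ * x * g, by simpa using hLn.conj_mem x hx g⁻¹, by simp [mul_assoc]⟩
      have hP' : P.map (MulAut.conj g).toMonoidHom = P := by
        ext x
        rw [mem_map]
        constructor
        · rintro ⟨y, hy, rfl⟩; exact hPn.conj_mem y hy g
        · intro hx; exact ⟨g⁻¹ * x * g, by simpa using hPn.conj_mem x hx g⁻¹, by simp [mul_assoc]⟩
      have := hPp.isNilpotent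
      obtain ⟨m, hm, hmQ⟩ := CfsgLib.Coprime.exists_conj_eq_of_sup_eq (N := P) (H := Q)
        (K := Q.map (MulAut.conj g).toMonoidHom) le_normalizer_of_normal le_normalizer_of_normal
        (by rw [hn]; exact hQp.symm.pow_left n)
        (Nat.card_congr (Q.equivMapOfInjective _ (MulAut.conj g).injective).toEquiv.symm)
        (by
          conv_rhs => rw [← hP', ← Subgroup.map_sup, hPQ, hmap]
          exact hPQ)
        (Or.inl inferInstance)
      rw [Subgroup.pointwise_smul_def] at hmQ
      have hN : m⁻¹ * g ∈ normalizer (Q : Set G) := by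
        rw [mem_normalizer_iff_map_conj_eq]
        rw [map_mul]
        show Q.map ((MulAut.conj m⁻¹).toMonoidHom.comp (MulAut.conj g).toMonoidHom) = Q
        rw [← Subgroup.map_map, ← hmQ]
        ext x
        rw [mem_map]
        constructor
        · rintro ⟨y, hy, rfl⟩
          obtain ⟨z, hz, rfl⟩ := hy
          simpa [MulAut.smul_def, mul_assoc] using hz
        · intro hx
          exact ⟨m * x * m⁻¹, ⟨x, hx, rfl⟩, by simp [mul_assoc]⟩
      rw [show g = m * (m⁻¹ * g) by group]
      exact mul_mem (mem_sup_left hm) (mem_sup_right hN)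
    have hNtop : normalizer (Q : Set G) ≠ ⊤ := by
      intro htop
      have : Q.Normal := normalizer_eq_top_iff.1 htop
      have hQ1 : Q = ⊥ := le_bot_iff.1 (hO ▸ CfsgLib.PLocal.le_pPrimeCore hQp)
      rw [hQ1, sup_bot_eq] at hPQ
      refine hL' ?_
      rw [← map_comap_eq_self_of_surjective (QuotientGroup.mk'_surjective P) L', show L'.comap _ = P from hPQ.symm,
        QuotientGroup.map_mk'_self]
    obtain ⟨M, hM, hNM⟩ := (eq_top_or_exists_le_coatom (normalizer (Q : Set G))).resolve_left hNtop
    have hPM : ¬ P ≤ M := fun h => hM.1 (top_le_iff.1 (hsup ▸ sup_le h hNM))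
    obtain ⟨hD1, hD2⟩ := hD M hM hPM
    have hQC : ∀ q ∈ Q, ∀ x ∈ P, ⁅x, q⁆ ∈ P ⊓ M := by
      intro q hq x hx
      have h := (mem_iInf.1 (hLC (hQL hq))) ⟨M, hM, hPM⟩
      rw [mem_comap, mem_centralizer_iff] at h
      have h' := h _ (mem_map_of_mem _ hx)
      rw [← hD1, ← QuotientGroup.eq_one_iff]
      show QuotientGroup.mk' _ ⁅x, q⁆ = 1
      rw [map_commutatorElement, commutatorElement_eq_one_iff_commute]
      exact h'
    have hcomm : ⁅P, Q⁆ ≤ M := (commutator_le.2 fun x hx q hq => hQC q hq x hx).trans inf_le_right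
    have := hPp.isNilpotent
    have hdec := CfsgLib.Coprime.commutator_sup_centralizer (G := P) (A := Q) le_normalizer_of_normal
      (by rw [hn]; exact hQp.pow_right n) (Or.inr inferInstance)
    refine hPM (hdec ▸ sup_le hcomm ?_)
    exact inf_le_right.trans ((centralizer_le_normalizer _).trans hNM)
  -- a Sylow subgroup lies in `C`
  obtain ⟨S⟩ : Nonempty (Sylow p G) := inferInstance
  have hSC : (S : Subgroup G) ≤ C := by
    refine le_iInf fun M => ?_
    rw [← map_le_iff_le_comap]
    have := hUn M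
    set U := P.map (QuotientGroup.mk' (Dm M)) with hU
    have hUne : U ≠ ⊥ := fun h => hp.out.one_lt.ne' (by rw [← hUc M, ← hU, h, card_bot])
    have hlt := CfsgLib.CharPLocal.commutator_lt_of_isPGroup (U := U)
      (R := (S : Subgroup G).map (QuotientGroup.mk' (Dm M))) (hPp.map _) (S.isPGroup'.map _)
      (le_normalizer_of_normal) hUne
    rw [le_centralizer_iff, ← commutator_eq_bot_iff_le_centralizer]
    have hd := card_dvd_of_le hlt.le
    rw [hUc M] at hd
    rcases (Nat.dvd_prime hp.out).1 hd with h | h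
    · exact card_eq_one.1 h
    · exact absurd (eq_of_le_of_card_ge hlt.le (by rw [h, hUc M])) hlt.ne
  rw [relIndex_top_right]
  exact fun h => S.not_dvd_index (h.trans (index_dvd_of_le (hSC.trans hCP)))

/-- `p`-length at most two, with chains. -/
theorem exists_pChain (hG : IsPSolvable p G) (hmax : MaxNilpOrPrime p G) :
    ∃ A B C : Subgroup G, A.Normal ∧ B.Normal ∧ C.Normal ∧ A ≤ B ∧ B ≤ C ∧ ¬ p ∣ Nat.card A ∧
      (∃ k : ℕ, A.relIndex B = p ^ k) ∧ ¬ p ∣ B.relIndex C ∧ ∃ k : ℕ, C.index = p ^ k := by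
  set A := pPrimeCore p G with hA
  have hAn : A.Normal := by rw [hA]; infer_instance
  let π := QuotientGroup.mk' A
  have hsurj := QuotientGroup.mk'_surjective A
  have hmax' : MaxNilpOrPrime p (G ⧸ A) := by
    intro M hM
    have hM' : IsCoatom (M.comap π) := by
      refine ⟨fun h => hM.1 (comap_injective hsurj (h.trans (comap_top _).symm)), fun H hH => ?_⟩
      have hker : π.ker ≤ H := le_trans (by rw [← MonoidHom.comap_bot]; exact comap_mono bot_le) hH.le
      have : M < H.map π := by
        refine lt_of_le_of_ne ?_ fun h => hH.ne ?_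
        · rw [← map_comap_eq_self_of_surjective hsurj M]; exact map_mono hH.le
        · rw [h, comap_map_eq_self hker]
      rw [← comap_map_eq_self hker, hM.2 _ this, comap_top]
    rcases hmax _ hM' with ⟨K, hK, hKp, k, hKi⟩ | h
    · have hs := π.subgroupComap_surjective_of_surjective M hsurj
      refine Or.inl ⟨K.map (π.subgroupComap M), hK.map _ hs,
        fun h => hKp (h.trans (Subgroup.card_map_dvd _ _)), ?_⟩
      obtain ⟨j, -, hj⟩ := (Nat.dvd_prime_pow hp.out).1 (hKi ▸ K.index_map_dvd hs)
      exact ⟨j, hj⟩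
    · exact Or.inr (by rwa [index_comap_of_surjective _ hsurj] at h)
  obtain ⟨C', hC'n, hPC', hrel, j, hj⟩ := exists_pChain_of_reduced
    (CfsgLib.PLocal.isPSolvable_quotient hG A) (CfsgLib.PLocal.pPrimeCore_quotient_pPrimeCore_eq_bot p G) hmax'
  have hcop := CfsgLib.PLocal.coprime_card_pPrimeCore p G
  refine ⟨A, (pCore p (G ⧸ A)).comap π, C'.comap π, hAn, Normal.comap inferInstance _,
    Normal.comap inferInstance _, ?_, comap_mono hPC', CfsgLib.PLocal.not_dvd_iff_coprime.1 hcop,
    ?_, ?_, j, ?_⟩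
  · intro x hx
    rw [mem_comap, show π x = 1 from (QuotientGroup.eq_one_iff x).2 hx]
    exact one_mem _
  · obtain ⟨k, hk⟩ := IsPGroup.iff_card.1 (CfsgLib.PLocal.isPGroup_pCore p (G ⧸ A))
    refine ⟨k, ?_⟩
    have h := relIndex_ker (K := (pCore p (G ⧸ A)).comap π) π
    rw [QuotientGroup.ker_mk', map_comap_eq_self_of_surjective hsurj] at h
    rw [h, hk]
  · rwa [relIndex_comap, map_comap_eq_self_of_surjective hsurj]
  · rwa [index_comap_of_surjective _ hsurj]

end CfsgLib.FGS74
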