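import Mathlib
import Cfsg.Prelude.Def_PLocal
import Cfsg.Agent.FGS74.CharacteristicLift
import Cfsg.Agent.PLocal.Thompson
import Cfsg.Agent.PLocal.Cores
import Cfsg.Agent.PLocal.PSolvable
import Cfsg.Agent.Coprime.Action
import Cfsg.Agent.Solvable.Fitting
import Cfsg.Agent.S0618

/-!
# `{p, q}`-subgroups of `p`-solvable groups and `q`-elements acting on characteristic subgroups

* `exists_pq_subgroup`: a `p`-solvable group has a `{p,q}`-subgroup containing a given Sylow
  `p`-subgroup, of index prime to `q`.
* `exists_char_moved`: in a `{p,q}`-group with self-centralizing `O_p`, `{p,q} ≠ {2,3}`, a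
  `q`-element acts nontrivially on some characteristic subgroup of a Sylow `p`-subgroup that it
  normalizes (Thompson factorization).
-/

set_option autoImplicit false

namespace CfsgLib.FGS74.PQLocal

open Subgroup
open scoped commutatorElement Pointwise

universe u

variable {p q : ℕ} [hp : Fact p.Prime] [hq : Fact q.Prime]

theorem exists_pq_subgroup_aux (n : ℕ) : ∀ (G : Type u) [Group G] [Finite G], Nat.card G ≤ n →
    Cfsg.IsPSolvable p G → ∀ T : Sylow p G,
      ∃ B : Subgroup G, (T : Subgroup G) ≤ B ∧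
        (∀ r, r.Prime → r ∣ Nat.card B → r = p ∨ r = q) ∧ ¬ q ∣ B.index := by
  induction n with
  | zero => intro G _ _ h; exact absurd h (Nat.card_pos.ne' ∘ Nat.le_zero.1)
  | succ n ih =>
    intro G _ _ hn hps T
    rcases subsingleton_or_nontrivial G with hG | hG
    · refine ⟨⊤, le_top, fun r hr hd => absurd ?_ hr.ne_one, by rw [index_top]; exact hq.out.not_dvd_one⟩
      rw [card_top, Nat.card_of_subsingleton (1 : G)] at hd
      exact Nat.dvd_one.1 hd
    -- recursion into proper subgroups
    have hrec : ∀ M : Subgroup G, M ≠ ⊤ → (T : Subgroup G) ≤ M → ¬ q ∣ M.index →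
        ∃ B : Subgroup G, (T : Subgroup G) ≤ B ∧
          (∀ r, r.Prime → r ∣ Nat.card B → r = p ∨ r = q) ∧ ¬ q ∣ B.index := by
      intro M hM hTM hMi
      have hlt : Nat.card M < Nat.card G := by
        refine lt_of_le_of_ne (card_le_card_group M) fun e => hM ?_
        exact eq_top_of_card_eq M e
      obtain ⟨B, hTB, hBπ, hBi⟩ := ih M (by omega) (CfsgLib.PLocal.isPSolvable_subgroup hps M)
        (T.subtype hTM)
      refine ⟨B.map M.subtype, ?_, fun r hr hd => hBπ r hr ?_, ?_⟩
      · intro t ht
        exact ⟨⟨t, hTM ht⟩, hTB (by rw [Sylow.coe_subtype]; exact ht), rfl⟩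
      · rwa [card_map_of_injective M.subtype_injective] at hd
      · rw [index_map_subtype]
        exact fun h => (hq.out.dvd_mul.1 h).elim hBi hMi
    -- recursion into quotients
    have hquo : ∀ (N : Subgroup G) [N.Normal], N ≠ ⊥ → ∃ M : Subgroup G, (T : Subgroup G) ≤ M ∧
        N ≤ M ∧ ¬ q ∣ M.index ∧
        ∀ r, r.Prime → r ∣ N.relIndex M → r = p ∨ r = q := by
      intro N _ hN
      have hcard := card_mul_index N
      have h1 : 1 < Nat.card N := (one_lt_card_iff_ne_bot N).2 hN
      have hlt : Nat.card (G ⧸ N) < Nat.card G := by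
        rw [← index_eq_card, ← hcard]
        exact lt_mul_left (Nat.pos_of_ne_zero index_ne_zero_of_finite) h1
      obtain ⟨B, hTB, hBπ, hBi⟩ := ih (G ⧸ N) (by omega) (CfsgLib.PLocal.isPSolvable_quotient hps N)
        (T.mapSurjective (QuotientGroup.mk'_surjective N))
      refine ⟨B.comap (QuotientGroup.mk' N), fun t ht => hTB ?_, ?_, ?_, fun r hr hd => hBπ r hr ?_⟩
      · rw [Sylow.coe_mapSurjective]; exact mem_map_of_mem _ ht
      · intro x hx
        show QuotientGroup.mk' N x ∈ B
        rw [QuotientGroup.mk'_apply, (QuotientGroup.eq_one_iff x).2 hx]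
        exact one_mem B
      · rwa [index_comap_of_surjective B (QuotientGroup.mk'_surjective N)]
      · have hk := relIndex_ker (B.comap (QuotientGroup.mk' N)) (QuotientGroup.mk' N)
        simp only [QuotientGroup.ker_mk'] at hk
        rw [hk, map_comap_eq_self_of_surjective (QuotientGroup.mk'_surjective N)] at hd
        exact hd
    -- a preimage with prime-power kernel
    have hpre : ∀ (r₀ : ℕ), r₀ = p ∨ r₀ = q → r₀.Prime → ∀ (N : Subgroup G) [N.Normal], N ≠ ⊥ →
        IsPGroup r₀ N → ∃ B : Subgroup G, (T : Subgroup G) ≤ B ∧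
          (∀ r, r.Prime → r ∣ Nat.card B → r = p ∨ r = q) ∧ ¬ q ∣ B.index := by
      intro r₀ hr₀ hr₀p N _ hN hNr
      haveI := Fact.mk hr₀p
      obtain ⟨M, hTM, hNM, hMi, hMπ⟩ := hquo N hN
      refine ⟨M, hTM, fun r hr hd => ?_, hMi⟩
      rw [← CfsgLib.PLocal.card_mul_relIndex hNM, hr.dvd_mul] at hd
      rcases hd with hd | hd
      · obtain ⟨k, hk⟩ := hNr.exists_card_eq
        rw [hk] at hd
        rw [(Nat.prime_dvd_prime_iff_eq hr hr₀p).1 (hr.dvd_of_dvd_pow hd)]
        exact hr₀
      · exact hMπ r hr hd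
    rcases CfsgLib.PLocal.pCore_ne_bot_or_of_isPSolvable hps with hN | hN
    · haveI : (Cfsg.pCore p G).Normal := CfsgLib.Solvable.pCore_normal p
      exact hpre p (Or.inl rfl) hp.out _ hN (CfsgLib.PLocal.isPGroup_pCore p G)
    set N := Cfsg.pPrimeCore p G with hNdef
    have hNp : (Nat.card N).Coprime p := CfsgLib.PLocal.coprime_card_pPrimeCore p G
    have hTN : (T : Subgroup G) ≤ normalizer (N : Set G) := le_normalizer_of_normal
    by_cases hqN : q ∣ Nat.card N
    · have hcop : (Nat.card (T : Subgroup G)).Coprime (Nat.card N) := by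
        obtain ⟨k, hk⟩ := T.2.exists_card_eq
        rw [hk]
        exact hNp.symm.pow_left k
      obtain ⟨R, hR⟩ := CfsgLib.Coprime.exists_invariant_sylow hTN hcop
        (Or.inl (by haveI := T.2.isNilpotent; infer_instance)) q
      set R' := (R : Subgroup N).map N.subtype with hR'
      have hR'p : IsPGroup q R' := R.2.map _
      have hR'ne : R' ≠ ⊥ := by
        rw [hR', Ne, map_eq_bot_iff_of_injective _ N.subtype_injective]
        exact R.ne_bot_of_dvd_card hqN
      by_cases hM : normalizer (R' : Set G) = ⊤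
      · haveI : R'.Normal := normalizer_eq_top_iff.1 hM
        exact hpre q (Or.inr rfl) hq.out R' hR'ne hR'p
      · refine hrec _ hM hR fun h => R.not_dvd_index ?_
        have hfr : normalizer (R' : Set G) ⊔ N = ⊤ := by
          have := R.normalizer_sup_eq_top
          exact this
        have h1 : (normalizer (R' : Set G)).index ∣ ((R : Subgroup N)).index := by
          have h2 : (normalizer (R' : Set G)).relIndex N = (normalizer (R' : Set G)).index := by
            have e1 : N.relIndex (normalizer (R' : Set G)) = N.index := by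
              rw [← relIndex_sup_right, hfr, relIndex_top_right]
            have e2 := relIndex_mul_index (inf_le_right : normalizer (R' : Set G) ⊓ N ≤ N)
            rw [← relIndex_mul_index (inf_le_left : normalizer (R' : Set G) ⊓ N ≤ _),
              inf_relIndex_right, inf_relIndex_left, e1, mul_comm N.index] at e2
            exact Nat.eq_of_mul_eq_mul_right (Nat.pos_of_ne_zero index_ne_zero_of_finite) e2
          rw [← h2]
          refine index_dvd_of_le ?_
          intro r hr
          exact le_normalizer (mem_map_of_mem N.subtype hr)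
        exact h.trans h1
    · obtain ⟨M, hTM, hNM, hMi, hMπ⟩ := hquo N hN
      by_cases hM : M = ⊤
      swap
      · exact hrec M hM hTM hMi
      subst hM
      rw [relIndex_top_right] at hMπ
      have hcop : (Nat.card N).Coprime N.index := by
        refine Nat.coprime_of_dvd fun r hr h1 h2 => ?_
        rcases hMπ r hr h2 with rfl | rfl
        · exact (hr.coprime_iff_not_dvd.1 hNp.symm) h1
        · exact hqN h1
      obtain ⟨K, hK⟩ := exists_right_complement'_of_coprime hcop
      have hKcard : Nat.card K = N.index := hK.symm.index_eq_card.symm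
      obtain ⟨TK⟩ : Nonempty (Sylow p K) := inferInstance
      have hKi : K.index = Nat.card N := hK.index_eq_card
      have hTKidx : ¬ p ∣ ((TK : Subgroup K).map K.subtype).index := by
        rw [index_map_subtype, hKi]
        exact fun h => (hp.out.dvd_mul.1 h).elim TK.not_dvd_index (hp.out.coprime_iff_not_dvd.1 hNp.symm)
      set T₁ : Sylow p G := (TK.2.map K.subtype).toSylow hTKidx with hT₁
      obtain ⟨g, hg⟩ := MulAction.exists_smul_eq G T₁ T
      refine ⟨MulAut.conj g • K, ?_, ?_, ?_⟩
      · rw [← hg, Sylow.coe_subgroup_smul, hT₁, IsPGroup.toSylow_coe]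
        exact pointwise_smul_le_pointwise_smul_iff.2 (map_subtype_le _)
      · intro r hr hd
        rw [← Nat.card_congr (equivSMul (MulAut.conj g) K).toEquiv, hKcard] at hd
        exact hMπ r hr hd
      · intro hd
        have h := card_mul_index (MulAut.conj g • K)
        rw [← Nat.card_congr (equivSMul (MulAut.conj g) K).toEquiv, ← card_mul_index K] at h
        rw [Nat.eq_of_mul_eq_mul_left Nat.card_pos h, hKi] at hd
        exact hqN hd

/-- A `p`-solvable group has a `{p,q}`-subgroup of `q'`-index containing a given Sylow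
`p`-subgroup. -/
theorem exists_pq_subgroup {G : Type u} [Group G] [Finite G] (hps : Cfsg.IsPSolvable p G)
    (T : Sylow p G) :
    ∃ B : Subgroup G, (T : Subgroup G) ≤ B ∧
      (∀ r, r.Prime → r ∣ Nat.card B → r = p ∨ r = q) ∧ ¬ q ∣ B.index :=
  exists_pq_subgroup_aux _ G le_rfl hps T

/-- `Ω₁(Z(T))` lies in the Thompson subgroup. -/
theorem omegaOne_center_le_thompson {G : Type*} [Group G] [Finite G] (T : Subgroup G) :
    Cfsg.omegaOne p (T ⊓ centralizer (T : Set G)) ≤ Cfsg.thompsonSubgroupOf p T := by
  obtain ⟨A, hA⟩ := CfsgLib.PLocal.maxEAIn_nonempty p T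
  set Z := Cfsg.omegaOne p (T ⊓ centralizer (T : Set G)) with hZ
  have hZT : Z ≤ T := (CfsgLib.PLocal.omegaOne_le p _).trans inf_le_left
  have hZc : Z ≤ centralizer (T : Set G) := (CfsgLib.PLocal.omegaOne_le p _).trans inf_le_right
  have hab : IsMulCommutative (T ⊓ centralizer (T : Set G) : Subgroup G) :=
    ⟨⟨fun a b => Subtype.ext (mem_centralizer_iff.1 b.2.2 a a.2.1)⟩⟩
  have hsup : Cfsg.IsElementaryAbelian p (A ⊔ Z) :=
    CfsgLib.PLocal.isElementaryAbelian_sup hA.2.1 (CfsgLib.PLocal.isElementaryAbelian_omegaOne hab)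
      (le_centralizer_iff.1 (hZc.trans (centralizer_le hA.1)))
  have heq : A = A ⊔ Z :=
    eq_of_le_of_card_ge le_sup_left (hA.2.2 _ (sup_le hA.1 hZT) hsup)
  rw [CfsgLib.PLocal.thompsonSubgroupOf_eq]
  exact le_trans (le_sup_right.trans heq.ge) (le_sSup hA)

omit hq in
theorem orderOf_two_three (K : Type*) [Field K] [Fintype K] (h : Fintype.card K = 2 ∨ Fintype.card K = 3) :
    (Fintype.card K = 2 → ∃ g : Matrix.SpecialLinearGroup (Fin 2) K, orderOf g = 3) ∧
      (Fintype.card K = 3 → ∃ g : Matrix.SpecialLinearGroup (Fin 2) K, orderOf g = 2) := by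
  constructor
  · intro hc
    have h2 : (2 : K) = 0 := by
      have := FiniteField.cast_card_eq_zero K
      rw [hc] at this
      simpa using this
    obtain ⟨g, hg⟩ : ∃ g : Matrix.SpecialLinearGroup (Fin 2) K,
        (g : Matrix (Fin 2) (Fin 2) K) = !![1, 1; 1, 0] :=
      ⟨⟨!![1, 1; 1, 0], by rw [Matrix.det_fin_two_of]; linear_combination (-h2)⟩, rfl⟩
    refine ⟨g, orderOf_eq_prime ?_ fun e => ?_⟩
    · ext i j
      rw [pow_succ, pow_two, Matrix.SpecialLinearGroup.coe_mul, Matrix.SpecialLinearGroup.coe_mul, hg]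
      fin_cases i <;> fin_cases j <;>
        simp [Matrix.mul_apply, Fin.sum_univ_two] <;> linear_combination h2
    · rw [e, Matrix.SpecialLinearGroup.coe_one] at hg
      have := congrFun (congrFun hg 0) 1
      simp at this
  · intro hc
    refine ⟨-1, orderOf_eq_prime (by simp) fun e => ?_⟩
    have h2 : (2 : K) ≠ 0 := by
      intro h2
      have h3 := FiniteField.cast_card_eq_zero K
      rw [hc] at h3
      refine one_ne_zero (α := K) ?_
      push_cast at h3
      linear_combination h3 - h2
    have := congrFun (congrFun (congrArg Subtype.val e) 0) 0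
    simp at this
    exact h2 (by linear_combination -this)

theorem exists_char_moved_aux (h23 : ¬ ((p = 2 ∧ q = 3) ∨ (p = 3 ∧ q = 2))) (hpq : p ≠ q) (n : ℕ) :
    ∀ (N : Type u) [Group N] [Finite N], Nat.card N ≤ n →
      (∀ r, r.Prime → r ∣ Nat.card N → r = p ∨ r = q) → Cfsg.IsPSolvable p N →
      centralizer (Cfsg.pCore p N : Set N) ≤ Cfsg.pCore p N → q ∣ Nat.card N → ∀ T : Sylow p N,
      ∃ W : Subgroup (T : Subgroup N), W.Characteristic ∧
        ∃ x ∈ normalizer (W.map (T : Subgroup N).subtype : Set N),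
          (∃ k, orderOf x = q ^ k) ∧ x ∉ centralizer (W.map (T : Subgroup N).subtype : Set N) := by
  induction n with
  | zero => intro N _ _ h; exact absurd h (Nat.card_pos.ne' ∘ Nat.le_zero.1)
  | succ n ih =>
    intro N _ _ hn hπ hps hc hqN T
    haveI : (Cfsg.pCore p N).Normal := CfsgLib.Solvable.pCore_normal p
    set Z := Cfsg.omegaOne p ((T : Subgroup N) ⊓ centralizer ((T : Subgroup N) : Set N)) with hZ
    have hZT : Z ≤ (T : Subgroup N) := (CfsgLib.PLocal.omegaOne_le p _).trans inf_le_left
    have hTC : (T : Subgroup N) ≤ centralizer (Z : Set N) :=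
      le_centralizer_iff.1 ((CfsgLib.PLocal.omegaOne_le p _).trans inf_le_right)
    have hOT : Cfsg.pCore p N ≤ (T : Subgroup N) := CfsgLib.PLocal.pCore_le_sylow T
    -- elements of `q`-power order in `p`-groups are trivial
    have htriv : ∀ (A : Subgroup N), IsPGroup p A → ∀ x ∈ A, (∃ k, orderOf x = q ^ k) → x = 1 := by
      rintro A hA x hx ⟨k, hk⟩
      obtain ⟨j, hj⟩ := IsPGroup.iff_orderOf.1 hA ⟨x, hx⟩
      rw [orderOf_mk] at hj
      rw [← orderOf_eq_one_iff]
      exact Nat.eq_one_of_dvd_coprimes
        (Nat.Coprime.pow j k ((Nat.coprime_primes hp.out hq.out).2 hpq)) hj.dvd hk.dvd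
    have hqelem : ∀ A : Subgroup N, q ∣ Nat.card A → ∃ x ∈ A, orderOf x = q := by
      intro A hA
      obtain ⟨⟨x, hx⟩, hxo⟩ := exists_prime_orderOf_dvd_card' q hA
      exact ⟨x, hx, by rwa [orderOf_mk] at hxo⟩
    have hpgrp : ∀ A : Subgroup N, ¬ q ∣ Nat.card A → IsPGroup p A := fun A hA =>
      IsPGroup.of_card (Nat.eq_prime_pow_of_unique_prime_dvd Nat.card_pos.ne' fun {d} hd hdvd =>
        (hπ d hd (hdvd.trans (card_subgroup_dvd_card A))).resolve_right fun e => hA (e ▸ hdvd))
    set C := centralizer (Z : Set N) with hCdef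
    by_cases hC : C = ⊤
    · -- `Z` is central: pass to the quotient
      have hZc : Z ≤ center N := by
        exact centralizer_eq_top_iff_subset.1 hC
      haveI : Z.Normal := ⟨fun z hz g => by
        rwa [mem_center_iff.1 (hZc hz) g, mul_inv_cancel_right]⟩
      have hZne : Z ≠ ⊥ := by
        refine CfsgLib.PLocal.omegaOne_ne_bot ?_
        have hTne : Cfsg.pCore p N ≠ ⊥ := by
          intro e
          have h1 := hc
          rw [e, show centralizer ((⊥ : Subgroup N) : Set N) = ⊤ from
            eq_top_iff.2 fun g _ => mem_centralizer_iff.2 fun w hw => by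
              rw [mem_bot.1 hw]; group, top_le_iff] at h1
          have h2 : Nat.card N = 1 := by rw [← card_top, ← h1, card_bot]
          rw [h2] at hqN
          exact hq.out.not_dvd_one hqN
        haveI : Nontrivial (T : Subgroup N) := (nontrivial_iff_ne_bot _).2 fun e =>
          hTne (le_bot_iff.1 (e ▸ hOT))
        have h3 := T.2.center_nontrivial
        obtain ⟨k, hk⟩ := (T.2.to_le (inf_le_left : (T : Subgroup N) ⊓ centralizer _ ≤ _)).exists_card_eq
        rw [hk]
        rcases k.eq_zero_or_pos with rfl | hk0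
        · exfalso
          obtain ⟨⟨⟨z, hzT⟩, hz⟩, hz1⟩ := exists_ne (1 : center (T : Subgroup N))
          have h4 := card_eq_one.1 (hk.trans (pow_zero p))
          have h5 : z ∈ (T : Subgroup N) ⊓ centralizer ((T : Subgroup N) : Set N) :=
            ⟨hzT, mem_centralizer_iff.2 fun w hw => congrArg Subtype.val (mem_center_iff.1 hz ⟨w, hw⟩)⟩
          rw [h4, mem_bot] at h5
          exact hz1 (Subtype.ext (Subtype.ext h5))
        · exact dvd_pow_self p hk0.ne'
      set f := QuotientGroup.mk' Z with hf
      have hfs : Function.Surjective f := QuotientGroup.mk'_surjective Z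
      have hZp : IsPGroup p Z := T.2.to_le hZT
      haveI : (Cfsg.pCore p (N ⧸ Z)).Normal := CfsgLib.Solvable.pCore_normal p
      have hπ' : ∀ r, r.Prime → r ∣ Nat.card (N ⧸ Z) → r = p ∨ r = q := fun r hr hd =>
        hπ r hr (hd.trans (card_quotient_dvd_card Z))
      have hlt : Nat.card (N ⧸ Z) < Nat.card N := by
        rw [← index_eq_card, ← card_mul_index Z]
        exact lt_mul_left (Nat.pos_of_ne_zero index_ne_zero_of_finite) ((one_lt_card_iff_ne_bot Z).2 hZne)
      have hqN' : q ∣ Nat.card (N ⧸ Z) := by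
        rw [← card_mul_index Z, hq.out.dvd_mul] at hqN
        rw [← index_eq_card]
        refine hqN.resolve_left fun h => ?_
        obtain ⟨x, hx, hxo⟩ := hqelem Z h
        have := htriv Z hZp x hx ⟨1, by rw [hxo, pow_one]⟩
        rw [this, orderOf_one] at hxo
        exact hq.out.ne_one hxo.symm
      have hc' : centralizer (Cfsg.pCore p (N ⧸ Z) : Set (N ⧸ Z)) ≤ Cfsg.pCore p (N ⧸ Z) := by
        refine CfsgLib.PLocal.le_pCore ?_
        refine IsPGroup.of_card (Nat.eq_prime_pow_of_unique_prime_dvd Nat.card_pos.ne'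
          fun {d} hd hdvd => (hπ' d hd (hdvd.trans (card_subgroup_dvd_card _))).resolve_right ?_)
        rintro rfl
        obtain ⟨⟨y, hy⟩, hyo⟩ := exists_prime_orderOf_dvd_card' d hdvd
        rw [orderOf_mk] at hyo
        obtain ⟨x₀, rfl⟩ := hfs y
        obtain ⟨x, -, hxf, hxo⟩ := CharLift.exists_qpow_lift (q := d) f x₀ ⟨1, by rw [hyo, pow_one]⟩
        rw [← hxf] at hy hyo
        have hHle : (Cfsg.pCore p N).map f ≤ Cfsg.pCore p (N ⧸ Z) := by
          haveI : ((Cfsg.pCore p N).map f).Normal := Subgroup.Normal.map inferInstance f hfs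
          exact CfsgLib.PLocal.le_pCore ((CfsgLib.PLocal.isPGroup_pCore p N).map f)
        have hHA : ⁅Cfsg.pCore p N, zpowers x⁆ ≤ Z := by
          rw [commutator_le]
          rintro h hh _ ⟨i, rfl⟩
          rw [← QuotientGroup.eq_one_iff, ← QuotientGroup.mk'_apply, map_commutatorElement,
            commutatorElement_eq_one_iff_mul_comm]
          exact mem_centralizer_iff.1 ((map_zpow f x i).symm ▸ zpow_mem hy i) _
            (hHle (mem_map_of_mem f hh))
        have hcop : (Nat.card (zpowers x)).Coprime (Nat.card (Cfsg.pCore p N)) := by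
          obtain ⟨j, hj⟩ := hxo
          obtain ⟨i, hi⟩ := (CfsgLib.PLocal.isPGroup_pCore p N).exists_card_eq
          rw [Nat.card_zpowers, hj, hi]
          exact Nat.Coprime.pow j i ((Nat.coprime_primes hd hp.out).2 (Ne.symm hpq))
        have h1 := CfsgLib.Coprime.le_centralizer_of_commutator_commutator_eq_bot
          (le_normalizer_of_normal : zpowers x ≤ normalizer (Cfsg.pCore p N : Set N)) hcop
          (le_bot_iff.1 ((commutator_mono hHA le_rfl).trans (le_of_eq (commutator_eq_bot_iff_le_centralizer.2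
            fun z hz => mem_centralizer_iff.2 fun w _ => mem_center_iff.1 (hZc hz) w))))
        have hx1 := htriv _ (CfsgLib.PLocal.isPGroup_pCore p N) x (hc (h1 (mem_zpowers x))) hxo
        rw [hx1, map_one, orderOf_one] at hyo
        exact hd.ne_one hyo.symm
      set T' := T.mapSurjective hfs with hT'
      obtain ⟨W', hW', y, hy, ⟨k, hk⟩, hyc⟩ :=
        ih (N ⧸ Z) (by omega) hπ' (CfsgLib.PLocal.isPSolvable_quotient hps Z) hc' hqN' T'
      let π : (T : Subgroup N) →* (T' : Subgroup (N ⧸ Z)) :=
        ((MulEquiv.subgroupCongr (Sylow.coe_mapSurjective hfs T).symm).toMonoidHom).comp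
          (f.subgroupMap (T : Subgroup N))
      have hπs : Function.Surjective π := by
        rw [MonoidHom.coe_comp]
        exact (MulEquiv.surjective _).comp (f.subgroupMap_surjective _)
      have hπval : ∀ t, ((π t : (T' : Subgroup (N ⧸ Z))) : N ⧸ Z) = f t := fun t => rfl
      have hker : π.ker = Z.subgroupOf (T : Subgroup N) := by
        ext t
        rw [MonoidHom.mem_ker, Subtype.ext_iff, hπval, mem_subgroupOf]
        exact QuotientGroup.eq_one_iff _
      have hkerc : π.ker.Characteristic := by
        have hcen : ((Subgroup.center (T : Subgroup N)).map (T : Subgroup N).subtype)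
            = (T : Subgroup N) ⊓ centralizer ((T : Subgroup N) : Set N) := by
          ext z
          constructor
          · rintro ⟨w, hw, rfl⟩
            exact ⟨w.2, mem_centralizer_iff.2 fun g hg =>
              congrArg Subtype.val (mem_center_iff.1 hw ⟨g, hg⟩)⟩
          · rintro ⟨hzT, hz⟩
            exact ⟨⟨z, hzT⟩, mem_center_iff.2 fun g => Subtype.ext (mem_centralizer_iff.1 hz g g.2), rfl⟩
        have hk2 : π.ker = Cfsg.omegaOne p (Subgroup.center (T : Subgroup N)) := by
          apply map_injective (T : Subgroup N).subtype_injective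
          rw [CfsgLib.PLocal.map_omegaOne (T : Subgroup N).subtype_injective, hcen, hker,
            map_subgroupOf_eq_of_le hZT]
        rw [hk2, characteristic_iff_map_le]
        intro φ
        rw [CfsgLib.PLocal.map_omegaOne φ.injective]
        exact CfsgLib.PLocal.omegaOne_mono (characteristic_iff_map_le.1 inferInstance φ)
      refine ⟨W'.comap π, CharLift.characteristic_comap π hπs hkerc hW', ?_⟩
      set A := (W'.comap π).map (T : Subgroup N).subtype with hA
      set A' := W'.map (T' : Subgroup (N ⧸ Z)).subtype with hA'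
      have hAA' : A.map f = A' := by
        apply le_antisymm
        · rintro _ ⟨_, ⟨t, ht, rfl⟩, rfl⟩
          exact ⟨π t, ht, hπval t⟩
        · rintro _ ⟨w, hw, rfl⟩
          obtain ⟨t, rfl⟩ := hπs w
          exact ⟨t, ⟨t, hw, rfl⟩, (hπval t).symm⟩
      have hZA : Z ≤ A := fun z hz => ⟨⟨z, hZT hz⟩, by
        show π ⟨z, hZT hz⟩ ∈ W'
        rw [show π ⟨z, hZT hz⟩ = 1 from MonoidHom.mem_ker.1 (hker.symm ▸ hz)]
        exact one_mem W', rfl⟩
      obtain ⟨x₀, rfl⟩ := hfs y
      obtain ⟨x, -, hxf, hxo⟩ := CharLift.exists_qpow_lift (q := q) f x₀ ⟨k, hk⟩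
      refine ⟨x, mem_normalizer_fintype fun w hw => ?_, hxo, fun h => hyc ?_⟩
      · show x * w * x⁻¹ ∈ A
        have h1 : f (x * w * x⁻¹) ∈ A' := by
          rw [map_mul, map_mul, map_inv, hxf]
          exact (mem_normalizer_iff.1 hy _).1 (hAA' ▸ mem_map_of_mem f hw)
        rw [← hAA'] at h1
        obtain ⟨v, hv, hv'⟩ := h1
        have h2 : v⁻¹ * (x * w * x⁻¹) ∈ Z := by
          rw [← QuotientGroup.eq]
          exact hv'
        simpa using mul_mem hv (hZA h2)
      · rw [← hxf]
        refine mem_centralizer_iff.2 fun w hw => ?_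
        rw [← hAA'] at hw
        obtain ⟨v, hv, rfl⟩ := hw
        rw [← map_mul, ← map_mul, mem_centralizer_iff.1 h v hv]
    by_cases hqC : q ∣ Nat.card C
    · -- induction on `C`
      have hlt : Nat.card C < Nat.card N :=
        lt_of_le_of_ne (card_le_card_group C) fun e => hC (eq_top_of_card_eq C e)
      have hOC : Cfsg.pCore p N ≤ C := hOT.trans hTC
      haveI : ((Cfsg.pCore p N).subgroupOf C).Normal := inferInstance
      have hle : (Cfsg.pCore p N).subgroupOf C ≤ Cfsg.pCore p C :=
        CfsgLib.PLocal.pCore_subgroupOf_le C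
      have hc' : centralizer (Cfsg.pCore p C : Set C) ≤ Cfsg.pCore p C := by
        intro g hg
        refine hle ?_
        rw [mem_subgroupOf]
        refine hc (mem_centralizer_iff.2 fun w hw => ?_)
        exact congrArg Subtype.val (mem_centralizer_iff.1 hg ⟨w, hOC hw⟩ (hle hw))
      obtain ⟨W₀, hW₀, x, hx, ⟨k, hk⟩, hxc⟩ := ih C (by omega)
        (fun r hr hd => hπ r hr (hd.trans (card_subgroup_dvd_card C)))
        (CfsgLib.PLocal.isPSolvable_subgroup hps C) hc' hqC (T.subtype hTC)
      let e : (T.subtype hTC : Subgroup C) ≃* (T : Subgroup N) :=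
        (MulEquiv.subgroupCongr (Sylow.coe_subtype T hTC)).trans (subgroupOfEquivOfLe hTC)
      refine ⟨W₀.map e.toMonoidHom, CharLift.characteristic_map_equiv e hW₀, x, ?_, ⟨k, by rwa [orderOf_coe]⟩, ?_⟩
      · have hAeq : (W₀.map e.toMonoidHom).map (T : Subgroup N).subtype
            = (W₀.map (T.subtype hTC : Subgroup C).subtype).map C.subtype := by
          rw [map_map, map_map]; rfl
        rw [hAeq]
        refine mem_normalizer_fintype fun w hw => ?_
        obtain ⟨v, hv, rfl⟩ := hw
        exact ⟨x * v * x⁻¹, (mem_normalizer_iff.1 hx v).1 hv, rfl⟩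
      · intro h
        refine hxc (mem_centralizer_iff.2 fun w hw => Subtype.ext (mem_centralizer_iff.1 h _ ?_))
        obtain ⟨v, hv, rfl⟩ := hw
        exact ⟨e v, mem_map_of_mem _ hv, rfl⟩
    -- Thompson factorization
    have hCp : IsPGroup p C := hpgrp C hqC
    have hO : Cfsg.pPrimeCore p N = ⊥ := by
      refine CfsgLib.PLocal.eq_bot_of_isPGroup_of_coprime ?_ (CfsgLib.PLocal.coprime_card_pPrimeCore p N)
      exact (CfsgLib.PLocal.isPGroup_pCore p N).to_le
        ((CfsgLib.PLocal.pPrimeCore_le_centralizer_pCore p N).trans hc)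
    have hfac : Cfsg.IsThompsonFactorizable p N := by
      by_contra hnf
      obtain ⟨hp23, E, -, -, -, hn', ⟨iso⟩⟩ := Cfsg.Agent.S0618.result hps hO hnf
      have hdvd : ∀ r, r.Prime →
          (∃ g : Matrix.SpecialLinearGroup (Fin 2) (ZMod p), orderOf g = r) → r = p ∨ r = q := by
        rintro r hr ⟨g, hg⟩
        refine hπ r hr ?_
        rw [← hg]
        refine ((orderOf_dvd_natCard g).trans ?_).trans (card_subgroup_dvd_card E)
        rw [← Nat.card_congr iso.toEquiv]
        exact card_quotient_dvd_card _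
      have hsl := orderOf_two_three (ZMod p) (by rw [ZMod.card]; exact hp23)
      rw [ZMod.card] at hsl
      rcases hp23 with h | h
      · rcases hdvd 3 Nat.prime_three (hsl.1 h) with h' | h'
        · omega
        · exact h23 (Or.inl ⟨h, h'.symm⟩)
      · rcases hdvd 2 Nat.prime_two (hsl.2 h) with h' | h'
        · omega
        · exact h23 (Or.inr ⟨h, h'.symm⟩)
    set J := Cfsg.thompsonSubgroupOf p (T : Subgroup N) with hJ
    have hqJ : q ∣ Nat.card (normalizer (J : Set N)) := by
      by_contra hJq
      have hCT : C = (T : Subgroup N) := T.3 hCp hTC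
      have hJT : normalizer (J : Set N) = (T : Subgroup N) := T.3 (hpgrp _ hJq)
        (le_normalizer.trans (CfsgLib.PLocal.normalizer_le_normalizer_thompsonSubgroupOf p _))
      have htop : (T : Subgroup N) = ⊤ := eq_top_iff.2 fun g _ => by
        obtain ⟨x, hx, c, hcc, m, hm, rfl⟩ := hfac T g
        rw [hO, mem_bot] at hx
        rw [hx, one_mul]
        exact mul_mem (hCT.le hcc) (hJT.le hm)
      obtain ⟨j, hj⟩ := T.2.exists_card_eq
      rw [htop, card_top] at hj
      rw [hj] at hqN
      exact hpq ((Nat.prime_dvd_prime_iff_eq hq.out hp.out).1 (hq.out.dvd_of_dvd_pow hqN)).symm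
    obtain ⟨x, hx, hxo⟩ := hqelem _ hqJ
    have hJmap : (Cfsg.thompsonSubgroup p (T : Subgroup N)).map (T : Subgroup N).subtype = J := rfl
    refine ⟨Cfsg.thompsonSubgroup p (T : Subgroup N), ?_, x, hJmap.symm ▸ hx, ⟨1, by rw [hxo, pow_one]⟩, ?_⟩
    · rw [characteristic_iff_map_le]
      intro φ
      rw [CfsgLib.PLocal.map_thompsonSubgroup φ.injective, MonoidHom.range_eq_top.2 φ.surjective,
        CfsgLib.PLocal.thompsonSubgroupOf_top]
    · rw [hJmap]
      intro h
      have hxC : x ∈ C := centralizer_le (omegaOne_center_le_thompson (p := p) (T : Subgroup N)) h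
      have := htriv C hCp x hxC ⟨1, by rw [hxo, pow_one]⟩
      rw [this, orderOf_one] at hxo
      exact hq.out.ne_one hxo.symm

/-- In a `{p,q}`-group with self-centralizing `O_p`, some `q`-element acts nontrivially on a
characteristic subgroup of a Sylow `p`-subgroup. -/
theorem exists_char_moved (h23 : ¬ ((p = 2 ∧ q = 3) ∨ (p = 3 ∧ q = 2))) (hpq : p ≠ q)
    {N : Type u} [Group N] [Finite N] (hπ : ∀ r, r.Prime → r ∣ Nat.card N → r = p ∨ r = q)
    (hps : Cfsg.IsPSolvable p N)
    (hc : centralizer (Cfsg.pCore p N : Set N) ≤ Cfsg.pCore p N) (hqN : q ∣ Nat.card N)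
    (T : Sylow p N) :
    ∃ W : Subgroup (T : Subgroup N), W.Characteristic ∧
      ∃ x ∈ normalizer (W.map (T : Subgroup N).subtype : Set N),
        (∃ k, orderOf x = q ^ k) ∧ x ∉ centralizer (W.map (T : Subgroup N).subtype : Set N) :=
  exists_char_moved_aux h23 hpq _ N le_rfl hπ hps hc hqN T

end CfsgLib.FGS74.PQLocal
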