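import Mathlib
import Cfsg.Agent.Zsigmondy.Basic

/-!
# Lower bound for the primitive part of `q ^ e - 1`

`4 * Φ_e(q) ≥ q ^ φ(e)`, the primitive part is `Φ_e(q)` up to one prime factor dividing `e`,
and apart from thirteen pairs it is at least `3 * e + 1`.
-/

set_option autoImplicit false

namespace CfsgLib.FGS74.PrimPart

open Polynomial

/-- The value of the cyclotomic polynomial as a natural number. -/
noncomputable def phiVal (a n : ℕ) : ℕ := ((cyclotomic n ℤ).eval (a : ℤ)).natAbs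

theorem cast_phiVal (a n : ℕ) (ha : 1 < a) :
    ((phiVal a n : ℕ) : ℝ) = (cyclotomic n ℝ).eval (a : ℝ) := by
  have h1 : 0 < (cyclotomic n ℤ).eval (a : ℤ) := cyclotomic_pos' n (by exact_mod_cast ha)
  have h2 : ((phiVal a n : ℕ) : ℤ) = (cyclotomic n ℤ).eval (a : ℤ) :=
    Int.natAbs_of_nonneg h1.le
  have h3 : (cyclotomic n ℝ).eval (a : ℝ) = (((cyclotomic n ℤ).eval (a : ℤ) : ℤ) : ℝ) := by
    rw [← map_cyclotomic_int n ℝ, eval_map]
    have h6 := Polynomial.hom_eval₂ (cyclotomic n ℤ) (RingHom.id ℤ) (Int.castRingHom ℝ) (a : ℤ)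
    rw [eval₂_id, RingHom.comp_id] at h6
    simpa using h6.symm
  rw [h3, ← h2]
  norm_cast

theorem prod_one_sub_half_pow (n : ℕ) (hn : 1 ≤ n) :
    (1 / 4 : ℝ) + (1 / 2) ^ (n + 1) ≤ ∏ b ∈ Finset.Icc 1 n, (1 - (1 / 2 : ℝ) ^ b) := by
  induction n, hn using Nat.le_induction with
  | base => norm_num
  | succ n hn ih =>
    rw [Finset.prod_Icc_succ_top (by omega)]
    have h1 : (1 / 2 : ℝ) ^ (n + 1) ≤ 1 / 4 := by
      calc (1 / 2 : ℝ) ^ (n + 1) ≤ (1 / 2 : ℝ) ^ 2 :=
            pow_le_pow_of_le_one (by norm_num) (by norm_num) (by omega)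
        _ = 1 / 4 := by norm_num
    have h0 : (0 : ℝ) ≤ (1 / 2 : ℝ) ^ (n + 1) := by positivity
    refine le_trans ?_ (mul_le_mul_of_nonneg_right ih (by linarith))
    rw [pow_succ _ (n + 1)]
    nlinarith

/-- `q ^ φ(n) ≤ 4 Φ_n(q)`. -/
theorem pow_totient_le_four_mul (a n : ℕ) (ha : 1 < a) (hn : 0 < n) :
    a ^ n.totient ≤ 4 * phiVal a n := by
  have ha1 : (1 : ℝ) < a := by exact_mod_cast ha
  let f : ℕ → ℝ := fun m => (cyclotomic m ℝ).eval (a : ℝ) / (a : ℝ) ^ m.totient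
  let g : ℕ → ℝ := fun m => 1 - ((a : ℝ)⁻¹) ^ m
  have hinv : (a : ℝ)⁻¹ ≤ 1 / 2 := by
    rw [one_div]
    exact inv_anti₀ two_pos (by exact_mod_cast ha)
  have hg0 : ∀ m, 0 < m → 0 < g m := fun m hm => by
    have : ((a : ℝ)⁻¹) ^ m < 1 := pow_lt_one₀ (by positivity) (by linarith) hm.ne'
    simp only [g]
    linarith
  have hfpos : ∀ m, 0 < f m := fun m => by
    have := cyclotomic_pos' m ha1
    positivity
  have hprod : ∀ m > 0, ∏ i ∈ m.divisors, f i = g m := fun m hm => by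
    simp only [f, g, Finset.prod_div_distrib, Finset.prod_pow_eq_pow_sum, Nat.sum_totient,
      ← eval_prod, prod_cyclotomic_eq_X_pow_sub_one hm, eval_sub, eval_pow, eval_X, eval_one,
      inv_pow]
    rw [sub_div, div_self (by positivity), one_div]
  have key := (ArithmeticFunction.prod_eq_iff_prod_pow_moebius_eq_of_nonzero
    (fun m _ => (hfpos m).ne') (fun m hm => (hg0 m hm).ne')).1 hprod n hn
  have h1 : ∏ x ∈ n.divisorsAntidiagonal, g x.2
      ≤ ∏ x ∈ n.divisorsAntidiagonal, g x.2 ^ (ArithmeticFunction.moebius x.1 : ℤ) := by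
    refine Finset.prod_le_prod (fun x hx => ?_) (fun x hx => ?_)
    · exact (hg0 _ (Nat.pos_of_mem_divisors (Nat.snd_mem_divisors_of_mem_antidiagonal hx))).le
    · have hpos := hg0 _ (Nat.pos_of_mem_divisors (Nat.snd_mem_divisors_of_mem_antidiagonal hx))
      have hle : g x.2 ≤ 1 := by
        simp only [g]
        have : (0 : ℝ) ≤ ((a : ℝ)⁻¹) ^ x.2 := by positivity
        linarith
      have hmu := (abs_le.1 (ArithmeticFunction.abs_moebius_le_one (n := x.1))).2
      calc g x.2 = g x.2 ^ (1 : ℤ) := (zpow_one _).symm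
        _ ≤ _ := zpow_le_zpow_right_of_le_one₀ hpos hle hmu
  have h2 : (1 / 4 : ℝ) ≤ ∏ x ∈ n.divisorsAntidiagonal, g x.2 := by
    rw [Nat.prod_divisorsAntidiagonal' (fun _ j => g j)]
    calc (1 / 4 : ℝ) ≤ (1 / 4 : ℝ) + (1 / 2) ^ (n + 1) := by
          have : (0 : ℝ) ≤ (1 / 2 : ℝ) ^ (n + 1) := by positivity
          linarith
      _ ≤ ∏ b ∈ Finset.Icc 1 n, (1 - (1 / 2 : ℝ) ^ b) := prod_one_sub_half_pow n hn
      _ ≤ ∏ b ∈ n.divisors, (1 - (1 / 2 : ℝ) ^ b) := by
          have hsub : n.divisors ⊆ Finset.Icc 1 n := fun b hb =>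
            Finset.mem_Icc.2 ⟨Nat.pos_of_mem_divisors hb, Nat.divisor_le hb⟩
          have hb1 : ∀ b : ℕ, (1 / 2 : ℝ) ^ b ≤ 1 := fun b =>
            pow_le_one₀ (by norm_num) (by norm_num)
          rw [← Finset.prod_sdiff hsub]
          refine mul_le_of_le_one_left
            (Finset.prod_nonneg fun b _ => by linarith [hb1 b])
            (Finset.prod_le_one (fun b _ => by linarith [hb1 b]) fun b _ => by
              have : (0 : ℝ) ≤ (1 / 2 : ℝ) ^ b := by positivity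
              linarith)
      _ ≤ ∏ b ∈ n.divisors, g b := by
          refine Finset.prod_le_prod (fun b _ => ?_) (fun b _ => ?_)
          · linarith [pow_le_one₀ (n := b) (by norm_num : (0 : ℝ) ≤ 1 / 2) (by norm_num)]
          · have := pow_le_pow_left₀ (by positivity) hinv b
            simp only [g]
            linarith
  have h3 : (1 / 4 : ℝ) ≤ f n := key ▸ h2.trans h1
  simp only [f, ← cast_phiVal a n ha] at h3
  rw [le_div_iff₀ (by positivity)] at h3
  have h4 : ((a ^ n.totient : ℕ) : ℝ) ≤ ((4 * phiVal a n : ℕ) : ℝ) := by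
    push_cast
    linarith
  exact_mod_cast h4

theorem phiVal_dvd (a n : ℕ) (ha : 0 < a) : phiVal a n ∣ a ^ n - 1 := by
  have h := map_dvd (evalRingHom (a : ℤ)) (cyclotomic.dvd_X_pow_sub_one n ℤ)
  simp only [coe_evalRingHom, eval_sub, eval_pow, eval_X, eval_one] at h
  have h2 := Int.natAbs_dvd_natAbs.2 h
  have h3 : ((a : ℤ) ^ n - 1).natAbs = a ^ n - 1 := by
    have : 1 ≤ a ^ n := Nat.one_le_pow _ _ ha
    rw [show ((a : ℤ) ^ n - 1) = ((a ^ n - 1 : ℕ) : ℤ) by rw [Nat.cast_sub this]; push_cast; ring]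
    exact Int.natAbs_natCast _
  rwa [h3] at h2

/-- A non-primitive prime divides the cyclotomic value only once. -/
theorem sq_not_dvd {a n r : ℕ} (ha : 1 < a) (hn : 3 ≤ n) (hr : r.Prime)
    (hrΦ : r ∣ phiVal a n) (hnp : orderOf (a : ZMod r) ≠ n) : ¬ r ^ 2 ∣ phiVal a n := by
  obtain ⟨k, m, hk, hnm, hm, hord⟩ :=
    (Zsigmondy.cases_of_dvd (by omega) hr hrΦ).resolve_left hnp
  have : Fact r.Prime := ⟨hr⟩
  intro hsqd
  obtain ⟨j, rfl⟩ : ∃ j, k = j + 1 := ⟨k - 1, by omega⟩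
  rcases hr.eq_two_or_odd' with rfl | hodd
  · obtain rfl : m = 1 := Nat.dvd_one.mp hm
    rw [mul_one] at hnm
    have hval : phiVal a n = a ^ (2 ^ j) + 1 := by
      rw [phiVal, hnm, cyclotomic_prime_pow_eq_geom_sum hr]
      simp only [Finset.sum_range_succ, Finset.sum_range_zero, pow_zero, pow_one, zero_add,
        eval_add, eval_one, eval_pow, eval_X]
      rw [show (1 : ℤ) + (a : ℤ) ^ 2 ^ j = ((a ^ 2 ^ j + 1 : ℕ) : ℤ) by push_cast; ring,
        Int.natAbs_natCast]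
    obtain ⟨i, rfl⟩ : ∃ i, j = i + 1 := ⟨j - 1, by
      rcases Nat.eq_zero_or_pos j with rfl | h
      · norm_num at hnm; omega
      · omega⟩
    have hodd' : Odd (a ^ 2 ^ i) := by
      refine Odd.pow ?_
      rw [← Nat.not_even_iff_odd, ← ZMod.natCast_eq_zero_iff_even]
      intro h0
      have := pow_orderOf_eq_one (a : ZMod 2)
      rw [hord, h0, pow_one] at this
      exact zero_ne_one this
    rw [pow_succ 2 i, pow_mul] at hval
    obtain ⟨c, hc⟩ := hodd'
    rw [hc] at hval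
    rw [hval, show (2 * c + 1) ^ 2 + 1 = 2 + 4 * (c * c + c) by ring] at hsqd
    obtain ⟨d, hd⟩ := hsqd
    omega
  · set d := r ^ j * m with hd
    have hm0 : 0 < m := Nat.pos_of_dvd_of_pos hm (by have := hr.two_le; omega)
    have hdn : n = d * r := by rw [hnm, hd]; ring
    have hd0 : 0 < d := Nat.mul_pos (Nat.pow_pos hr.pos) hm0
    have hdp : d ∈ n.properDivisors := Nat.mem_properDivisors.mpr
      ⟨⟨r, hdn⟩, by rw [hdn]; exact lt_mul_of_one_lt_right hd0 hr.one_lt⟩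
    have hdvd := map_dvd (evalRingHom (a : ℤ))
      (X_pow_sub_one_mul_cyclotomic_dvd_X_pow_sub_one_of_dvd ℤ hdp)
    simp only [map_mul, map_sub, map_pow, map_one, coe_evalRingHom, eval_X] at hdvd
    rw [show ((a : ℤ)) ^ n = ((a : ℤ) ^ d) ^ r by rw [hdn, pow_mul]] at hdvd
    have hb1 : ((a : ℤ) ^ d - 1) ≠ 0 := by
      have : 1 < (a : ℤ) ^ d := one_lt_pow₀ (by exact_mod_cast ha) hd0.ne'
      omega
    rw [← geom_sum_mul ((a : ℤ) ^ d) r, mul_comm _ ((a : ℤ) ^ d - 1),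
      mul_dvd_mul_iff_left hb1] at hdvd
    obtain ⟨c, hc⟩ : (r : ℤ) ∣ (a : ℤ) ^ d - 1 := by
      rw [← ZMod.intCast_zmod_eq_zero_iff_dvd]
      push_cast
      rw [sub_eq_zero, ← orderOf_dvd_iff_pow_eq_one, hord]
      exact Dvd.intro_left _ rfl
    have hsq := odd_sq_dvd_geom_sum₂_sub (R := ℤ) (1 : ℤ) c hodd
    simp only [one_pow, mul_one] at hsq
    rw [show (1 : ℤ) + (r : ℤ) * c = (a : ℤ) ^ d by linarith] at hsq
    have h1 : (r : ℤ) ^ 2 ∣ (cyclotomic n ℤ).eval (a : ℤ) := by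
      exact_mod_cast Int.natCast_dvd.mpr hsqd
    have h3 : (r : ℤ) ^ 2 ∣ (r : ℤ) := by
      have := dvd_sub (h1.trans hdvd) hsq
      rwa [sub_sub_cancel] at this
    have := Int.le_of_dvd (by exact_mod_cast hr.pos) h3
    have := hr.two_le
    nlinarith

/-- The primitive divisor obtained from the cyclotomic value. -/
theorem exists_primitive_factor {a n : ℕ} (ha : 1 < a) (hn : 3 ≤ n) :
    ∃ m : ℕ, m ∣ a ^ n - 1 ∧ (∀ i : ℕ, 1 ≤ i → i < n → Nat.Coprime m (a ^ i - 1)) ∧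
      (phiVal a n = m ∨ ∃ r k m' : ℕ, r.Prime ∧ 0 < k ∧ n = r ^ k * m' ∧ m' ∣ r - 1 ∧
        phiVal a n = r * m) := by
  have hcop : ∀ m : ℕ, (∀ s : ℕ, s.Prime → s ∣ m → orderOf (a : ZMod s) = n) →
      ∀ i : ℕ, 1 ≤ i → i < n → Nat.Coprime m (a ^ i - 1) := by
    intro m hm i hi hin
    refine Nat.coprime_of_dvd fun s hs hsm hsi => ?_
    have h1 : orderOf (a : ZMod s) ∣ i := by
      rw [orderOf_dvd_iff_pow_eq_one, ← sub_eq_zero, ← Nat.cast_pow, ← Nat.cast_one,
        ← Nat.cast_sub (Nat.one_le_pow _ _ (by omega)), ZMod.natCast_eq_zero_iff]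
      exact hsi
    rw [hm s hs hsm] at h1
    have := Nat.le_of_dvd (by omega) h1
    omega
  have hdvd := phiVal_dvd a n (by omega)
  by_cases hall : ∀ s : ℕ, s.Prime → s ∣ phiVal a n → orderOf (a : ZMod s) = n
  · exact ⟨_, hdvd, hcop _ hall, Or.inl rfl⟩
  push Not at hall
  obtain ⟨r, hr, hrΦ, hnp⟩ := hall
  obtain ⟨k, m', hk, hnm, hm', -⟩ :=
    (Zsigmondy.cases_of_dvd (by omega) hr hrΦ).resolve_left hnp
  obtain ⟨m, hm⟩ := hrΦ
  refine ⟨m, (Dvd.intro_left r hm.symm).trans hdvd, hcop m fun s hs hsm => ?_,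
    Or.inr ⟨r, k, m', hr, hk, hnm, hm', hm⟩⟩
  by_contra hsn
  have hsΦ : s ∣ phiVal a n := hm ▸ dvd_mul_of_dvd_right hsm r
  have hsr : s ≠ r := by
    rintro rfl
    exact sq_not_dvd ha hn hr hsΦ hsn (by rw [hm, pow_two]; exact mul_dvd_mul_left _ hsm)
  have hlt : ∀ x y k m l : ℕ, x.Prime → y.Prime → n = x ^ k * m → m ∣ x - 1 → y ∣ n → x ≠ y →
      l = 0 → y < x := by
    intro x y k m l hx hy hxm hxd hyn hne _
    rcases (hy.dvd_mul).mp (hxm ▸ hyn) with h | h
    · exact absurd ((Nat.prime_dvd_prime_iff_eq hy hx).mp (hy.dvd_of_dvd_pow h)) hne.symm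
    · have h2 := hx.two_le
      have := Nat.le_of_dvd (by omega) (h.trans hxd)
      omega
  obtain ⟨k2, m2, hk2, hnm2, hm2, -⟩ :=
    (Zsigmondy.cases_of_dvd (by omega) hs hsΦ).resolve_left hsn
  have h1 := hlt r s k m' 0 hr hs hnm hm'
    (hnm2 ▸ dvd_mul_of_dvd_left (dvd_pow_self s hk2.ne') m2) hsr.symm rfl
  have h2 := hlt s r k2 m2 0 hs hr hnm2 hm2
    (hnm ▸ dvd_mul_of_dvd_left (dvd_pow_self r hk.ne') m') hsr rfl
  omega

theorem totient_sq (n : ℕ) : n ≤ (if 2 ∣ n then 2 else 1) * n.totient ^ 2 := by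
  induction n using Nat.recOnPrimeCoprime with
  | zero => simp
  | prime_pow p k hp =>
    rcases Nat.eq_zero_or_pos k with rfl | hk
    · simp
    · rw [Nat.totient_prime_pow hp hk]
      obtain ⟨j, rfl⟩ : ∃ j, k = j + 1 := ⟨k - 1, by omega⟩
      simp only [Nat.add_sub_cancel]
      rcases hp.eq_two_or_odd' with rfl | hodd
      · rw [if_pos (dvd_pow_self 2 (by omega))]
        rw [show 2 - 1 = 1 from rfl, mul_one, pow_succ, mul_comm]
        exact Nat.mul_le_mul_left 2 (Nat.le_self_pow two_ne_zero _)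
      · have h2 : ¬ 2 ∣ p ^ (j + 1) := fun h => by
          have := (Nat.prime_dvd_prime_iff_eq Nat.prime_two hp).1 (Nat.prime_two.dvd_of_dvd_pow h)
          subst this
          exact absurd hodd (by decide)
        rw [if_neg h2, one_mul, mul_pow, pow_succ]
        refine Nat.mul_le_mul (Nat.le_self_pow two_ne_zero _) ?_
        obtain ⟨c, rfl⟩ := hodd
        have := hp.two_le
        have : 1 ≤ c := by omega
        rw [Nat.add_sub_cancel]
        nlinarith
  | coprime a b ha hb hab iha ihb =>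
    rw [Nat.totient_mul hab]
    refine (Nat.mul_le_mul iha ihb).trans (le_of_eq ?_)
    have h2 : ¬ (2 ∣ a ∧ 2 ∣ b) := fun ⟨h1, h2⟩ => by
      have := Nat.dvd_gcd h1 h2
      rw [hab] at this
      omega
    by_cases h1 : 2 ∣ a
    · rw [if_pos h1, if_neg (fun h => h2 ⟨h1, h⟩), if_pos (h1.mul_right b)]
      ring
    · by_cases h3 : 2 ∣ b
      · rw [if_neg h1, if_pos h3, if_pos (h3.mul_left a)]
        ring
      · rw [if_neg h1, if_neg h3, if_neg (fun h => (Nat.prime_two.dvd_mul.1 h).elim h1 h3)]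
        ring

/-- The candidate exponents with their totients. -/
def candidates : List (ℕ × ℕ) :=
  [(3, 2), (4, 2), (5, 4), (6, 2), (7, 6), (8, 4), (9, 6), (10, 4), (11, 10), (12, 4), (13, 12),
    (14, 6), (16, 8), (18, 6), (20, 8), (21, 12), (22, 10), (24, 8), (26, 12), (30, 8), (39, 24),
    (42, 12), (52, 24), (55, 40), (78, 24), (110, 40), (156, 48)]

theorem candidates_totient : ∀ p ∈ candidates, Nat.totient p.1 = p.2 := by decide +kernel

theorem small_a : ∀ e < 243, 3 ≤ e → 2 ^ e.totient ≤ 12 * e →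
    e ∈ candidates.map Prod.fst := by
  decide +kernel

theorem small_b : ∀ r ∈ List.range 17, ∀ k ∈ List.range 5, ∀ m ∈ List.range 16, r.Prime → 0 < k → m ∣ r - 1 →
    r ^ (k - 1) * (r - 1) < 16 → 3 ≤ r ^ k * m → r ^ k * m ∈ candidates.map Prod.fst := by
  decide +kernel

theorem two_pow_gt_a : ∀ t, 12 ≤ t → 24 * t ^ 2 < 2 ^ t := by
  intro t ht
  induction t, ht using Nat.le_induction with
  | base => norm_num
  | succ t ht ih =>
    rw [pow_succ 2 t]
    nlinarith

theorem two_pow_gt_b : ∀ t, 16 ≤ t → 4 * (t + 1) * (3 * (t * (t + 1)) + 1) < 2 ^ t := by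
  intro t ht
  induction t, ht using Nat.le_induction with
  | base => norm_num
  | succ t ht ih =>
    rw [pow_succ 2 t]
    nlinarith [Nat.mul_le_mul ht ht]

/-- Either a large primitive divisor exists or the pair lies in a finite list. -/
theorem exists_or_small {q e : ℕ} (hq : 1 < q) (he : 3 ≤ e) :
    (∃ m : ℕ, m ∣ q ^ e - 1 ∧ (∀ i : ℕ, 1 ≤ i → i < e → Nat.Coprime m (q ^ i - 1)) ∧
        3 * e + 1 ≤ m) ∨
      (e ∈ candidates.map Prod.fst ∧ q ^ e.totient ≤ 4 * e * (3 * e + 1)) := by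
  obtain ⟨m, hm, hcop, hval⟩ := exists_primitive_factor hq he
  by_cases hbig : 3 * e + 1 ≤ m
  · exact Or.inl ⟨m, hm, hcop, hbig⟩
  refine Or.inr ?_
  have hlow := pow_totient_le_four_mul q e hq (by omega)
  have h2q : 2 ^ e.totient ≤ q ^ e.totient := Nat.pow_le_pow_left hq _
  rcases hval with hv | ⟨r, k, m', hr, hk, hnm, hm', hv⟩
  · rw [hv] at hlow
    refine ⟨?_, ?_⟩
    · have hsq : e ≤ 2 * e.totient ^ 2 := by
        refine (totient_sq e).trans (Nat.mul_le_mul_right _ ?_)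
        split_ifs <;> omega
      have ht : e.totient < 12 := by
        by_contra h
        have := two_pow_gt_a _ (not_lt.1 h)
        omega
      refine small_a e ?_ he (by omega)
      have : e.totient ^ 2 ≤ 11 ^ 2 := Nat.pow_le_pow_left (by omega) 2
      omega
    · calc q ^ e.totient ≤ 4 * m := hlow
        _ ≤ 4 * 1 * (3 * e + 1) := by omega
        _ ≤ 4 * e * (3 * e + 1) := by
          exact Nat.mul_le_mul_right _ (Nat.mul_le_mul_left _ (by omega))
  · rw [hv] at hlow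
    have hr2 := hr.two_le
    have hre : r ≤ e :=
      Nat.le_of_dvd (by omega) (hnm ▸ dvd_mul_of_dvd_left (dvd_pow_self r hk.ne') m')
    have hrm : 4 * (r * m) ≤ 4 * r * (3 * e + 1) := by
      rw [← mul_assoc]
      exact Nat.mul_le_mul_left _ (by omega)
    refine ⟨?_, hlow.trans (hrm.trans
      (Nat.mul_le_mul_right _ (Nat.mul_le_mul_left _ hre)))⟩
    have hm0 : 0 < m' := Nat.pos_of_dvd_of_pos hm' (by omega)
    have hmle : m' ≤ r - 1 := Nat.le_of_dvd (by omega) hm'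
    have hcop' : Nat.Coprime (r ^ k) m' :=
      ((hr.coprime_iff_not_dvd).2 fun h => by have := Nat.le_of_dvd hm0 h; omega).pow_left k
    set t := r ^ (k - 1) * (r - 1) with ht
    have hrk : r ^ k = r ^ (k - 1) * r := by
      rw [← pow_succ]; congr 1; omega
    have hphi : t ≤ e.totient := by
      rw [hnm, Nat.totient_mul hcop', Nat.totient_prime_pow hr hk]
      exact Nat.le_mul_of_pos_right _ (Nat.totient_pos.2 hm0)
    have hpow1 : 1 ≤ r ^ (k - 1) := Nat.one_le_pow _ _ hr.pos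
    have hrt : r ≤ t + 1 := by
      have : r - 1 ≤ t := Nat.le_mul_of_pos_left _ hpow1
      omega
    have het : e ≤ t * (t + 1) := by
      calc e = r ^ (k - 1) * r * m' := by rw [hnm, hrk]
        _ ≤ r ^ (k - 1) * r * (r - 1) := Nat.mul_le_mul_left _ hmle
        _ = t * r := by rw [ht]; ring
        _ ≤ t * (t + 1) := Nat.mul_le_mul_left _ hrt
    have ht16 : t < 16 := by
      by_contra h
      have h1 := two_pow_gt_b _ (not_lt.1 h)
      have h2 : 2 ^ t ≤ 2 ^ e.totient := Nat.pow_le_pow_right two_pos hphi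
      have h3 : 4 * r * (3 * e + 1) ≤ 4 * (t + 1) * (3 * (t * (t + 1)) + 1) :=
        Nat.mul_le_mul (by omega) (by omega)
      omega
    rw [hnm]
    refine small_b r (List.mem_range.2 (by omega)) k (List.mem_range.2 ?_) m'
      (List.mem_range.2 (by omega)) hr hk hm' ht16 (by omega)
    by_contra h
    have h1 : 2 ^ 4 ≤ r ^ (k - 1) :=
      (Nat.pow_le_pow_left hr2 4).trans (Nat.pow_le_pow_right hr.pos (by omega))
    have h2 : r ^ (k - 1) ≤ t := Nat.le_mul_of_pos_right _ (by omega)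
    omega

/-- Removes from `m` all prime factors shared with `d` (with fuel). -/
def strip : ℕ → ℕ → ℕ → ℕ
  | 0, m, _ => m
  | f + 1, m, d => if Nat.gcd m d = 1 then m else strip f (m / Nat.gcd m d) d

/-- A candidate for the primitive part. -/
def primPart (q e : ℕ) : ℕ :=
  (List.range' 1 (e - 1)).foldl (fun m i => strip 40 m (q ^ i - 1)) (q ^ e - 1)

/-- The check that `primPart` is a large primitive divisor. -/
def goodPair (q e : ℕ) : Bool :=
  let m := primPart q e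
  decide (m ∣ q ^ e - 1) && decide (3 * e + 1 ≤ m) &&
    (List.range' 1 (e - 1)).all (fun i => decide (Nat.gcd m (q ^ i - 1) = 1))

theorem of_goodPair {q e : ℕ} (h : goodPair q e = true) :
    ∃ m : ℕ, m ∣ q ^ e - 1 ∧ (∀ i : ℕ, 1 ≤ i → i < e → Nat.Coprime m (q ^ i - 1)) ∧
      3 * e + 1 ≤ m := by
  simp only [goodPair, Bool.and_eq_true, decide_eq_true_eq, List.all_eq_true] at h
  exact ⟨_, h.1.1, fun i hi hie => h.2 i (List.mem_range'_1.2 ⟨hi, by omega⟩), h.1.2⟩

/-- The exceptional pairs. -/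
def exceptions : List (ℕ × ℕ) :=
  [(2, 6), (2, 4), (2, 10), (2, 12), (2, 18), (3, 4), (3, 6), (5, 6), (2, 3), (2, 8), (2, 20),
    (4, 3), (4, 6)]

theorem small_check : ∀ p ∈ candidates, ∀ q < 24, 2 ≤ q → q ^ p.2 ≤ 4 * p.1 * (3 * p.1 + 1) →
    (q, p.1) ∈ exceptions ∨ goodPair q p.1 = true := by
  decide +kernel

theorem small_q_bound : ∀ p ∈ candidates, 4 * p.1 * (3 * p.1 + 1) < 24 ^ p.2 := by decide +kernel

/-- Existence of a primitive divisor at least `3e + 1` outside thirteen pairs. -/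
theorem exists_large {q e : ℕ} (hq : 1 < q) (he : 3 ≤ e) (hex : (q, e) ∉ exceptions) :
    ∃ m : ℕ, m ∣ q ^ e - 1 ∧ (∀ i : ℕ, 1 ≤ i → i < e → Nat.Coprime m (q ^ i - 1)) ∧
      3 * e + 1 ≤ m := by
  rcases exists_or_small hq he with h | ⟨hmem, hle⟩
  · exact h
  obtain ⟨p, hp, rfl⟩ := List.mem_map.1 hmem
  rw [candidates_totient p hp] at hle
  have hq24 : q < 24 := by
    by_contra h
    have h1 := small_q_bound p hp
    have h2 : 24 ^ p.2 ≤ q ^ p.2 := Nat.pow_le_pow_left (not_lt.1 h) _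
    omega
  exact of_goodPair ((small_check p hp q hq24 hq hle).resolve_left hex)

/-- The product used to bound primitive divisors of the exceptional pairs. -/
def smallProd (q e : ℕ) : ℕ := ((List.range' 1 (e - 1)).map (fun i => q ^ i - 1)).prod

theorem exceptions_check : ∀ p ∈ exceptions,
    1 ≤ primPart p.1 p.2 ∧ primPart p.1 p.2 ≤ 2 * p.2 + 1 ∧
      primPart p.1 p.2 ∣ p.1 ^ p.2 - 1 ∧
      (p.1 ^ p.2 - 1) / primPart p.1 p.2 ∣ smallProd p.1 p.2 ^ 4 := by
  decide +kernel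

theorem le_of_exception {q e m : ℕ} (h : (q, e) ∈ exceptions) (hm : m ∣ q ^ e - 1)
    (hcop : ∀ i : ℕ, 1 ≤ i → i < e → Nat.Coprime m (q ^ i - 1)) : m ≤ 2 * e + 1 := by
  obtain ⟨h1, h2, h3, h4⟩ := exceptions_check (q, e) h
  have hL : Nat.Coprime m (smallProd q e) := by
    rw [smallProd]
    refine Nat.coprime_list_prod_right_iff.2 fun x hx => ?_
    obtain ⟨i, hi, rfl⟩ := List.mem_map.1 hx
    rw [List.mem_range'_1] at hi
    exact hcop i hi.1 (by omega)
  have h5 : Nat.Coprime m ((q ^ e - 1) / primPart q e) :=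
    (hL.pow_right 4).coprime_dvd_right h4
  rw [← Nat.mul_div_cancel' h3] at hm
  exact (Nat.le_of_dvd h1 (h5.dvd_of_dvd_mul_right hm)).trans h2

end CfsgLib.FGS74.PrimPart
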