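import Mathlib

/-!
# Orbit groups: `p`-groups with an automorphism acting as a root of unity

For a finite field `F` and a root of unity `ζ` generating it, a `p`-group with an automorphism
acting as multiplication by `ζ` modulo a fixed central subgroup `D` of exponent `p` contains an
invariant subgroup `S` covering `P / D` with `|S| ≤ |F| |S'|`; the commutator form bounds `|S'|`.
Two such groups are compared through their fibre product over `F`.
-/

set_option autoImplicit false

namespace CfsgLib.FGS74.Schmidt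

open scoped commutatorElement

variable {F : Type*} [Field F]

/-- A `p`-group whose automorphism `β` acts as multiplication by `ζ` modulo a fixed central
subgroup `D` of exponent `p`; `sec` is a surjective section modulo `D`. -/
structure Orbit (p : ℕ) (ζ : F) (P : Type*) [Group P] where
  β : MulAut P
  D : Subgroup P
  central : D ≤ Subgroup.center P
  fixed : ∀ d ∈ D, β d = d
  exp_p : ∀ d ∈ D, d ^ p = 1
  comm : ∀ u v : P, ⁅u, v⁆ ∈ D
  pow_mem : ∀ u : P, u ^ p ∈ D
  sec : F → P
  sec_add : ∀ c d, (sec (c + d))⁻¹ * (sec c * sec d) ∈ D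
  sec_mul : ∀ c, (sec (ζ * c))⁻¹ * β (sec c) ∈ D
  sec_surj : ∀ u, ∃ c, (sec c)⁻¹ * u ∈ D

/-- The predicate that the subring generated by `ζ` is everything. -/
def Generates (ζ : F) : Prop :=
  ∀ S : Subring F, ζ ∈ S → S = ⊤

namespace Orbit

variable {p : ℕ} {ζ : F} {P : Type*} [Group P] (O : Orbit p ζ P)

include O in
theorem comm_mul_right (u v w : P) : ⁅u, v * w⁆ = ⁅u, v⁆ * ⁅u, w⁆ := by
  have h := Subgroup.mem_center_iff.1 (O.central (O.comm u w)) v
  rw [commutatorElement_mul_right_eq_mul_conj, mul_assoc ⁅u, v⁆, h]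
  group

include O in
theorem comm_mul_left (u v w : P) : ⁅u * v, w⁆ = ⁅u, w⁆ * ⁅v, w⁆ := by
  have h := Subgroup.mem_center_iff.1 (O.central (O.comm v w)) u
  rw [commutatorElement_mul_left_eq_conj_mul, h, mul_inv_cancel_right]
  exact (Subgroup.mem_center_iff.1 (O.central (O.comm v w)) _).symm

theorem comm_eq_one_of_mem {d : P} (hd : d ∈ O.D) (u : P) : ⁅u, d⁆ = 1 ∧ ⁅d, u⁆ = 1 := by
  have h := Subgroup.mem_center_iff.1 (O.central hd) u
  exact ⟨commutatorElement_eq_one_iff_mul_comm.2 h, commutatorElement_eq_one_iff_mul_comm.2 h.symm⟩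

theorem comm_congr {u u' v v' : P} (hu : u⁻¹ * u' ∈ O.D) (hv : v⁻¹ * v' ∈ O.D) :
    ⁅u', v'⁆ = ⁅u, v⁆ := by
  obtain ⟨a, ha, rfl⟩ : ∃ a ∈ O.D, u' = u * a := ⟨_, hu, (mul_inv_cancel_left u u').symm⟩
  obtain ⟨b, hb, rfl⟩ : ∃ b ∈ O.D, v' = v * b := ⟨_, hv, (mul_inv_cancel_left v v').symm⟩
  rw [O.comm_mul_left, O.comm_mul_right, O.comm_mul_right, (O.comm_eq_one_of_mem ha _).2,
    (O.comm_eq_one_of_mem ha _).2, (O.comm_eq_one_of_mem hb _).1, mul_one, mul_one, mul_one]

/-- The commutator form. -/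
def form (c d : F) : P := ⁅O.sec c, O.sec d⁆

theorem form_add_left (c c' d : F) : O.form (c + c') d = O.form c d * O.form c' d := by
  rw [form, form, form, ← O.comm_mul_left]
  refine (O.comm_congr (O.sec_add c c') ?_).symm
  rw [inv_mul_cancel]; exact one_mem _

theorem form_add_right (c d d' : F) : O.form c (d + d') = O.form c d * O.form c d' := by
  rw [form, form, form, ← O.comm_mul_right]
  refine (O.comm_congr ?_ (O.sec_add d d')).symm
  rw [inv_mul_cancel]; exact one_mem _

theorem form_zero_left (d : F) : O.form 0 d = 1 := by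
  have h := O.form_add_left 0 0 d
  rw [add_zero] at h
  exact left_eq_mul.1 h

theorem form_zero_right (c : F) : O.form c 0 = 1 := by
  have h := O.form_add_right c 0 0
  rw [add_zero] at h
  exact left_eq_mul.1 h

theorem form_self (c : F) : O.form c c = 1 := commutatorElement_self _

theorem form_zeta (c d : F) : O.form (ζ * c) (ζ * d) = O.form c d := by
  have h : O.β ⁅O.sec c, O.sec d⁆ = ⁅O.sec c, O.sec d⁆ := O.fixed _ (O.comm _ _)
  rw [map_commutatorElement, O.comm_congr (O.sec_mul c) (O.sec_mul d)] at h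
  exact h

theorem form_neg_left (c d : F) : O.form (-c) d = (O.form c d)⁻¹ := by
  refine eq_inv_of_mul_eq_one_left ?_
  rw [← O.form_add_left, neg_add_cancel, O.form_zero_left]

theorem form_neg_right (c d : F) : O.form c (-d) = (O.form c d)⁻¹ := by
  refine eq_inv_of_mul_eq_one_left ?_
  rw [← O.form_add_right, neg_add_cancel, O.form_zero_right]

/-- An automorphism inverting `ζ` is the adjoint of multiplication. -/
theorem form_mul (hgen : Generates ζ) (σ : F →+* F) (hσ : ζ * σ ζ = 1) (c u v : F) :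
    O.form (c * u) v = O.form u (σ c * v) := by
  let R : Subring F :=
    { carrier := {c | ∀ u v, O.form (c * u) v = O.form u (σ c * v)}
      mul_mem' := fun {a b} ha hb u v => by
        rw [mul_assoc, ha, hb, map_mul]
        congr 1
        ring
      one_mem' := fun u v => by rw [one_mul, map_one, one_mul]
      add_mem' := fun {a b} ha hb u v => by
        rw [add_mul, O.form_add_left, ha, hb, map_add, add_mul, O.form_add_right]
      zero_mem' := fun u v => by
        rw [zero_mul, O.form_zero_left, map_zero, zero_mul, O.form_zero_right]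
      neg_mem' := fun {a} ha u v => by
        rw [neg_mul, O.form_neg_left, ha, map_neg, neg_mul, O.form_neg_right] }
  have hmem : ζ ∈ R := by
    intro u v
    have h := O.form_zeta u (σ ζ * v)
    rwa [← mul_assoc, hσ, one_mul] at h
  exact (hgen R hmem ▸ Subring.mem_top c : c ∈ R) u v

/-- Without such an automorphism the form vanishes. -/
theorem form_eq_one_of_minpoly [Algebra (ZMod p) F] [Fact p.Prime]
    (hζ : Polynomial.aeval ζ⁻¹ (minpoly (ZMod p) ζ) ≠ 0) (hne : ζ ≠ 0) (u v : F) :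
    O.form u v = 1 := by
  have hstep : ∀ (f : Polynomial (ZMod p)) (u v : F),
      O.form (Polynomial.aeval ζ f * u) v = O.form u (Polynomial.aeval ζ⁻¹ f * v) := by
    intro f
    induction f using Polynomial.induction_on' with
    | add f g hf hg =>
      intro u v
      rw [map_add, map_add, add_mul, add_mul, O.form_add_left, O.form_add_right, hf, hg]
    | monomial n a =>
      intro u v
      rw [Polynomial.aeval_monomial, Polynomial.aeval_monomial]
      induction n generalizing u v with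
      | zero =>
        rw [pow_zero, pow_zero, mul_one]
        obtain ⟨k, rfl⟩ := ZMod.natCast_zmod_surjective a
        rw [map_natCast]
        induction k with
        | zero => rw [Nat.cast_zero, zero_mul, zero_mul, O.form_zero_left, O.form_zero_right]
        | succ k ih =>
          rw [Nat.cast_succ, add_mul, add_mul, one_mul, one_mul, O.form_add_left, O.form_add_right, ih]
      | succ n ih =>
        have e1 : algebraMap (ZMod p) F a * ζ ^ (n + 1) * u = ζ * (algebraMap (ZMod p) F a * ζ ^ n * u) := by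
          ring
        have e2 : algebraMap (ZMod p) F a * ζ⁻¹ ^ (n + 1) * v
            = algebraMap (ZMod p) F a * ζ⁻¹ ^ n * (ζ⁻¹ * v) := by ring
        rw [e1, e2, ← ih]
        have h := O.form_zeta (algebraMap (ZMod p) F a * ζ ^ n * u) (ζ⁻¹ * v)
        rwa [← mul_assoc ζ ζ⁻¹, mul_inv_cancel₀ hne, one_mul] at h
  have h := hstep (minpoly (ZMod p) ζ) u ((Polynomial.aeval ζ⁻¹ (minpoly (ZMod p) ζ))⁻¹ * v)
  rw [minpoly.aeval, zero_mul, O.form_zero_left, ← mul_assoc, mul_inv_cancel₀ hζ, one_mul] at h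
  exact h.symm

/-- The subgroup generated by all commutators of an orbit group consists of forms. -/
theorem commutator_le {K : Subgroup P} (h : ∀ c d, O.form c d ∈ K) : commutator P ≤ K := by
  rw [commutator_def, Subgroup.commutator_le]
  intro u _ v _
  obtain ⟨c, hc⟩ := O.sec_surj u
  obtain ⟨d, hd⟩ := O.sec_surj v
  rw [O.comm_congr hc hd]
  exact h c d

/-- A subgroup covering `P / D` contains the derived group. -/
theorem commutator_le_of_cover {R : Subgroup P} (h : ∀ c, ∃ u ∈ R, (O.sec c)⁻¹ * u ∈ O.D) :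
    commutator P ≤ R := by
  refine O.commutator_le fun c d => ?_
  obtain ⟨u, hu, hcu⟩ := h c
  obtain ⟨v, hv, hdv⟩ := h d
  rw [form, ← O.comm_congr hcu hdv]
  exact mul_mem (mul_mem (mul_mem hu hv) (inv_mem hu)) (inv_mem hv)

include O in
/-- With an involution `σ` inverting `ζ`, the derived group is at most the kernel of `1 + σ`. -/
theorem card_commutator_le [Finite F] (hgen : Generates ζ) (σ : F →+* F) (hσ : ζ * σ ζ = 1)
    (hσ2 : ∀ c, σ (σ c) = c) :
    Nat.card (commutator P) ≤ Nat.card {c : F // c + σ c = 0} := by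
  have hred : ∀ u v, O.form u v = O.form (σ v * u) 1 := fun u v => by
    rw [O.form_mul hgen σ hσ, hσ2, mul_one]
  let L : Multiplicative F →* P :=
    { toFun := fun c => O.form c.toAdd 1
      map_one' := O.form_zero_left 1
      map_mul' := fun c d => O.form_add_left _ _ _ }
  have hcL : commutator P ≤ L.range :=
    O.commutator_le fun u v => ⟨Multiplicative.ofAdd (σ v * u), (hred u v).symm⟩
  let T : Multiplicative F →* Multiplicative F :=
    { toFun := fun c => Multiplicative.ofAdd (c.toAdd + σ c.toAdd)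
      map_one' := by simp
      map_mul' := fun c d => congrArg Multiplicative.ofAdd
        (show (c.toAdd + d.toAdd) + σ (c.toAdd + d.toAdd) = (c.toAdd + σ c.toAdd) + (d.toAdd + σ d.toAdd) by
          rw [map_add, add_add_add_comm]) }
  have hTL : T.range ≤ L.ker := by
    rintro _ ⟨c, rfl⟩
    rw [MonoidHom.mem_ker]
    show O.form (c.toAdd + σ c.toAdd) 1 = 1
    set w := c.toAdd
    have h1 : σ (w + 1) * (w + 1) = σ w * w + 1 + (w + σ w) := by rw [map_add, map_one]; ring
    have h2 : ∀ z, O.form (σ z * z) 1 = 1 := fun z => by rw [← hred, O.form_self]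
    have h3 := h2 (w + 1)
    rw [h1, O.form_add_left, O.form_add_left, h2, O.form_self 1, one_mul, one_mul] at h3
    exact h3
  have e1 := L.ker.card_mul_index
  rw [Subgroup.index_ker] at e1
  have e2 := T.ker.card_mul_index
  rw [Subgroup.index_ker, ← e1] at e2
  have h1 : Nat.card T.range ≤ Nat.card L.ker := Nat.le_of_dvd Nat.card_pos (Subgroup.card_dvd_of_le hTL)
  have h2 : Nat.card L.range ≤ Nat.card T.ker := by
    refine Nat.le_of_mul_le_mul_left ?_ (Nat.card_pos (α := T.range))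
    calc Nat.card T.range * Nat.card L.range ≤ Nat.card L.ker * Nat.card L.range :=
          Nat.mul_le_mul_right _ h1
      _ = Nat.card T.range * Nat.card T.ker := by rw [← e2, mul_comm]
  have hker : Nat.card T.ker = Nat.card {c : F // c + σ c = 0} :=
    Nat.card_congr (Equiv.subtypeEquiv Multiplicative.toAdd fun c => by
      rw [MonoidHom.mem_ker]
      show Multiplicative.ofAdd (c.toAdd + σ c.toAdd) = 1 ↔ _
      rw [← ofAdd_zero, Multiplicative.ofAdd.injective.eq_iff])
  haveI : Finite L.range := Finite.of_surjective L.rangeRestrict L.rangeRestrict_surjective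
  rw [← hker]
  exact le_trans (Nat.le_of_dvd Nat.card_pos (Subgroup.card_dvd_of_le hcL)) h2

/-- If `σ` does not exist the derived group is trivial. -/
theorem commutator_eq_bot (h : ∀ u v, O.form u v = 1) : commutator P = ⊥ :=
  le_bot_iff.1 (O.commutator_le fun c d => Subgroup.mem_bot.2 (h c d))

/-- The orbit structure on an invariant subgroup covering `P / D`. -/
noncomputable def restrict (S : Subgroup P) (hinv : ∀ u ∈ S, O.β u ∈ S) [Finite P]
    (hcov : ∀ c, ∃ u ∈ S, (O.sec c)⁻¹ * u ∈ O.D) : Orbit p ζ S where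
  β := MulEquiv.ofBijective (((O.β : P →* P).comp S.subtype).codRestrict S fun u => hinv u u.2)
    (by
      have hi : Function.Injective (((O.β : P →* P).comp S.subtype).codRestrict S fun u => hinv u u.2) :=
        fun u v h => Subtype.ext (O.β.injective (congrArg Subtype.val h))
      exact ⟨hi, Finite.injective_iff_surjective.1 hi⟩)
  D := O.D.subgroupOf S
  central := fun d hd => Subgroup.mem_center_iff.2 fun u =>
    Subtype.ext (Subgroup.mem_center_iff.1 (O.central hd) u)
  fixed := fun d hd => Subtype.ext (O.fixed _ hd)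
  exp_p := fun d hd => Subtype.ext (O.exp_p _ hd)
  comm := fun u v => O.comm u v
  pow_mem := fun u => O.pow_mem u
  sec := fun c => ⟨(hcov c).choose, (hcov c).choose_spec.1⟩
  sec_add := fun c d => by
    have h1 := (hcov c).choose_spec.2
    have h2 := (hcov d).choose_spec.2
    have h3 := (hcov (c + d)).choose_spec.2
    set u := (hcov c).choose
    set v := (hcov d).choose
    set w := (hcov (c + d)).choose
    show w⁻¹ * (u * v) ∈ O.D
    have hu := Subgroup.mem_center_iff.1 (O.central h1) (O.sec d)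
    have e : w⁻¹ * (u * v) = ((O.sec (c + d))⁻¹ * w)⁻¹ * ((O.sec (c + d))⁻¹ * (O.sec c * O.sec d))
        * (((O.sec c)⁻¹ * u) * ((O.sec d)⁻¹ * v)) := by
      calc w⁻¹ * (u * v) = w⁻¹ * (O.sec c * ((O.sec c)⁻¹ * u * O.sec d) * ((O.sec d)⁻¹ * v)) := by group
        _ = _ := by rw [← hu]; group
    rw [e]
    exact mul_mem (mul_mem (inv_mem h3) (O.sec_add c d)) (mul_mem h1 h2)
  sec_mul := fun c => by
    have h1 := (hcov c).choose_spec.2
    have h3 := (hcov (ζ * c)).choose_spec.2
    set u := (hcov c).choose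
    set w := (hcov (ζ * c)).choose
    show w⁻¹ * O.β u ∈ O.D
    have e : w⁻¹ * O.β u = ((O.sec (ζ * c))⁻¹ * w)⁻¹ * ((O.sec (ζ * c))⁻¹ * O.β (O.sec c))
        * O.β ((O.sec c)⁻¹ * u) := by rw [map_mul O.β, map_inv]; group
    rw [e]
    exact mul_mem (mul_mem (inv_mem h3) (O.sec_mul c)) (by rw [O.fixed _ h1]; exact h1)
  sec_surj := fun u => by
    obtain ⟨c, hc⟩ := O.sec_surj u
    refine ⟨c, ?_⟩
    have h1 := (hcov c).choose_spec.2
    set v := (hcov c).choose
    show v⁻¹ * (u : P) ∈ O.D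
    have e : v⁻¹ * (u : P) = ((O.sec c)⁻¹ * v)⁻¹ * ((O.sec c)⁻¹ * u) := by group
    rw [e]
    exact mul_mem (inv_mem h1) hc

include O in
theorem card_le [Finite F] [Finite P] : Nat.card P ≤ Nat.card F * Nat.card O.D := by
  rw [← Nat.card_prod]
  refine Nat.card_le_card_of_surjective (fun x : F × O.D => O.sec x.1 * x.2) fun u => ?_
  obtain ⟨c, hc⟩ := O.sec_surj u
  exact ⟨(c, ⟨_, hc⟩), mul_inv_cancel_left _ _⟩

/-- An invariant subgroup covering `P / D` in which `D` shrinks to the derived group. -/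
theorem exists_small_cover [Finite F] [Finite P] (hζ1 : ζ ≠ 1) :
    ∃ (S : Subgroup P) (hinv : ∀ u ∈ S, O.β u ∈ S) (hcov : ∀ c, ∃ u ∈ S, (O.sec c)⁻¹ * u ∈ O.D),
      Nat.card S ≤ Nat.card F * Nat.card (commutator S) := by
  obtain ⟨S, ⟨hinv, hcov⟩, hmin⟩ := wellFounded_lt.has_min
    {S : Subgroup P | (∀ u ∈ S, O.β u ∈ S) ∧ ∀ c, ∃ u ∈ S, (O.sec c)⁻¹ * u ∈ O.D}
    ⟨⊤, fun u _ => Subgroup.mem_top _, fun c => ⟨O.sec c, Subgroup.mem_top _, by simp⟩⟩
  refine ⟨S, hinv, hcov, ?_⟩
  let O' := O.restrict S hinv hcov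
  have hD : O'.D ≤ commutator S := by
    let M := S ⧸ commutator S
    let π := QuotientGroup.mk' (commutator S)
    have hπc : ∀ x y : S, π x * π y = π y * π x := fun x y => by
      rw [← commutatorElement_eq_one_iff_mul_comm, ← map_commutatorElement, QuotientGroup.mk'_apply,
        QuotientGroup.eq_one_iff]
      exact Subgroup.commutator_mem_commutator (Subgroup.mem_top x) (Subgroup.mem_top y)
    have hβc : ∀ x ∈ commutator S, O'.β x ∈ commutator S := by
      intro x hx
      have h : (commutator S).map O'.β.toMonoidHom ≤ commutator S := by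
        rw [commutator_def, Subgroup.map_commutator]
        exact Subgroup.commutator_mono le_top le_top
      exact h (Subgroup.mem_map_of_mem _ hx)
    let γ : S →* M :=
      { toFun := fun u => π (u⁻¹ * O'.β u)
        map_one' := by simp
        map_mul' := fun u v => by
          rw [map_mul O'.β, map_mul π, map_mul π, map_mul π, map_inv π, map_inv π, map_mul π]
          calc (π u * π v)⁻¹ * (π (O'.β u) * π (O'.β v))
              = (π v)⁻¹ * ((π u)⁻¹ * π (O'.β u)) * π (O'.β v) := by group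
            _ = _ := by
              rw [← map_inv π u, ← map_mul π, ← map_inv π v, hπc]
              simp only [map_mul, map_inv]
              group }
    -- the image of `γ` is a cover
    let R : Subgroup P := (γ.range.comap π).map S.subtype
    have hRS : R ≤ S := Subgroup.map_subtype_le _
    have hR : R = S := by
      by_contra hne
      refine hmin R ⟨?_, ?_⟩ (lt_of_le_of_ne hRS hne)
      · rintro _ ⟨u, ⟨v, hv⟩, rfl⟩
        refine ⟨O'.β u, ⟨O'.β v, ?_⟩, rfl⟩
        show π ((O'.β v)⁻¹ * O'.β (O'.β v)) = π (O'.β u)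
        rw [← map_inv, ← map_mul O'.β]
        have h : π (v⁻¹ * O'.β v) = π u := hv
        rw [QuotientGroup.mk'_apply, QuotientGroup.mk'_apply, QuotientGroup.eq] at h ⊢
        rw [← map_inv, ← map_mul]
        exact hβc _ h
      · intro c
        set d := (ζ - 1)⁻¹ * c
        set v : S := O'.sec d
        refine ⟨((v⁻¹ * O'.β v : S) : P), ⟨_, ⟨v, rfl⟩, rfl⟩, ?_⟩
        have hd : c + d = ζ * d := by
          rw [show c = (ζ - 1) * d from (mul_inv_cancel_left₀ (sub_ne_zero.2 hζ1) c).symm]; ring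
        -- modulo `D`: `β v ≡ sec (ζ d) ≡ v * sec c`
        have h1 : ∀ e, (O.sec e)⁻¹ * ((O'.sec e : S) : P) ∈ O.D := fun e => (hcov e).choose_spec.2
        have h2 := O.sec_mul d
        have h3 := O.sec_add d c
        have h4 : O.β ((O.sec d)⁻¹ * (v : P)) ∈ O.D := by rw [O.fixed _ (h1 d)]; exact h1 d
        rw [add_comm, hd] at h3
        have hv : (((v⁻¹ * O'.β v : S)) : P) = ((O.sec d)⁻¹ * (v : P))⁻¹ * ((O.sec d)⁻¹ * O.sec (ζ * d))
            * ((O.sec (ζ * d))⁻¹ * O.β (O.sec d)) * O.β ((O.sec d)⁻¹ * (v : P)) := by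
          show (v : P)⁻¹ * O.β v = _
          rw [map_mul O.β, map_inv]
          group
        have h5 : (O.sec c)⁻¹ * ((O.sec d)⁻¹ * O.sec (ζ * d)) ∈ O.D := by
          rw [← mul_assoc, ← mul_inv_rev, ← Subgroup.inv_mem_iff, mul_inv_rev, inv_inv]
          exact h3
        have key : ∀ x A B C E : P, x * A = A * x → x * (A * B * C * E) = A * (x * B) * C * E :=
          fun x A B C E h => by rw [← mul_assoc, ← mul_assoc, ← mul_assoc, h, mul_assoc A x B]
        rw [hv, key _ _ _ _ _ (Subgroup.mem_center_iff.1 (O.central (inv_mem (h1 d))) (O.sec c)⁻¹)]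
        exact mul_mem (mul_mem (mul_mem (inv_mem (h1 d)) h5) h2) h4
    have hsurj : Function.Surjective γ := by
      intro m
      induction m using QuotientGroup.induction_on with
      | H u =>
        have hu : (u : P) ∈ R := by rw [hR]; exact u.2
        obtain ⟨u', hu', e⟩ := hu
        rw [← Subtype.ext e]
        exact hu'
    intro d hd
    have hker : commutator S ≤ γ.ker := fun x hx => by
      rw [MonoidHom.mem_ker]
      exact (QuotientGroup.eq_one_iff _).2 (mul_mem (inv_mem hx) (hβc x hx))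
    let γ' : M →* M := QuotientGroup.lift _ γ hker
    have hγ' : Function.Surjective γ' := fun m => by
      obtain ⟨u, hu⟩ := hsurj m
      exact ⟨π u, hu⟩
    have h1 : γ' (π d) = 1 := by
      show π (d⁻¹ * O'.β d) = 1
      rw [O'.fixed d hd, inv_mul_cancel, map_one]
    rw [← map_one γ'] at h1
    exact (QuotientGroup.eq_one_iff d).1 ((Finite.injective_iff_surjective.2 hγ') h1)
  exact O'.card_le.trans (Nat.mul_le_mul_left _ (Nat.le_of_dvd Nat.card_pos (Subgroup.card_dvd_of_le hD)))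

/-- Pairs with the same class in `F`. -/
def fibre {Q : Type*} [Group Q] (O₂ : Orbit p ζ Q) : Subgroup (P × Q) where
  carrier := {w | ∃ c, (O.sec c)⁻¹ * w.1 ∈ O.D ∧ (O₂.sec c)⁻¹ * w.2 ∈ O₂.D}
  one_mem' := by
    refine ⟨0, ?_, ?_⟩
    · have h := O.sec_add 0 0
      rw [add_zero, inv_mul_cancel_left] at h
      simpa using h
    · have h := O₂.sec_add 0 0
      rw [add_zero, inv_mul_cancel_left] at h
      simpa using h
  mul_mem' := by
    rintro ⟨a, a'⟩ ⟨b, b'⟩ ⟨c, hc, hc'⟩ ⟨d, hd, hd'⟩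
    refine ⟨c + d, ?_, ?_⟩
    · have e : (O.sec (c + d))⁻¹ * (a * b) =
          (O.sec (c + d))⁻¹ * (O.sec c * O.sec d) * ((O.sec c)⁻¹ * a * ((O.sec d)⁻¹ * b)) := by
        calc _ = (O.sec (c + d))⁻¹ * (O.sec c * ((O.sec c)⁻¹ * a * O.sec d) * ((O.sec d)⁻¹ * b)) := by group
          _ = _ := by rw [← Subgroup.mem_center_iff.1 (O.central hc) (O.sec d)]; group
      show (O.sec (c + d))⁻¹ * (a * b) ∈ O.D
      rw [e]
      exact mul_mem (O.sec_add c d) (mul_mem hc hd)
    · have e : (O₂.sec (c + d))⁻¹ * (a' * b') =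
          (O₂.sec (c + d))⁻¹ * (O₂.sec c * O₂.sec d) * ((O₂.sec c)⁻¹ * a' * ((O₂.sec d)⁻¹ * b')) := by
        calc _ = (O₂.sec (c + d))⁻¹ * (O₂.sec c * ((O₂.sec c)⁻¹ * a' * O₂.sec d) * ((O₂.sec d)⁻¹ * b')) := by group
          _ = _ := by rw [← Subgroup.mem_center_iff.1 (O₂.central hc') (O₂.sec d)]; group
      show (O₂.sec (c + d))⁻¹ * (a' * b') ∈ O₂.D
      rw [e]
      exact mul_mem (O₂.sec_add c d) (mul_mem hc' hd')
  inv_mem' := by
    rintro ⟨a, a'⟩ ⟨c, hc, hc'⟩
    refine ⟨-c, ?_, ?_⟩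
    · have h := O.sec_add c (-c)
      rw [add_neg_cancel] at h
      have h0 := O.sec_add 0 0
      rw [add_zero, inv_mul_cancel_left] at h0
      have h1 : O.sec c * O.sec (-c) ∈ O.D := by simpa using mul_mem h0 h
      have e : (O.sec (-c))⁻¹ * a⁻¹ = (O.sec c * O.sec (-c))⁻¹ * (O.sec c * a⁻¹) := by group
      show (O.sec (-c))⁻¹ * a⁻¹ ∈ O.D
      rw [e]
      refine mul_mem (inv_mem h1) ?_
      have := inv_mem hc
      rw [mul_inv_rev, inv_inv] at this
      exact (show O.D.Normal from ⟨fun n hn g => by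
        rwa [Subgroup.mem_center_iff.1 (O.central hn) g, mul_inv_cancel_right]⟩).mem_comm this
    · have h := O₂.sec_add c (-c)
      rw [add_neg_cancel] at h
      have h0 := O₂.sec_add 0 0
      rw [add_zero, inv_mul_cancel_left] at h0
      have h1 : O₂.sec c * O₂.sec (-c) ∈ O₂.D := by simpa using mul_mem h0 h
      have e : (O₂.sec (-c))⁻¹ * a'⁻¹ = (O₂.sec c * O₂.sec (-c))⁻¹ * (O₂.sec c * a'⁻¹) := by group
      show (O₂.sec (-c))⁻¹ * a'⁻¹ ∈ O₂.D
      rw [e]
      refine mul_mem (inv_mem h1) ?_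
      have := inv_mem hc'
      rw [mul_inv_rev, inv_inv] at this
      exact (show O₂.D.Normal from ⟨fun n hn g => by
        rwa [Subgroup.mem_center_iff.1 (O₂.central hn) g, mul_inv_cancel_right]⟩).mem_comm this

theorem fibre_map_mem {Q : Type*} [Group Q] (O₂ : Orbit p ζ Q) {w : P × Q} (hw : w ∈ O.fibre O₂) :
    MulEquiv.prodCongr O.β O₂.β w ∈ O.fibre O₂ := by
  obtain ⟨c, hc, hc'⟩ := hw
  refine ⟨ζ * c, ?_, ?_⟩
  · show (O.sec (ζ * c))⁻¹ * O.β w.1 ∈ O.D
    rw [show (O.sec (ζ * c))⁻¹ * O.β w.1 =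
      (O.sec (ζ * c))⁻¹ * O.β (O.sec c) * O.β ((O.sec c)⁻¹ * w.1) by rw [map_mul O.β, map_inv]; group]
    exact mul_mem (O.sec_mul c) (by rw [O.fixed _ hc]; exact hc)
  · show (O₂.sec (ζ * c))⁻¹ * O₂.β w.2 ∈ O₂.D
    rw [show (O₂.sec (ζ * c))⁻¹ * O₂.β w.2 =
      (O₂.sec (ζ * c))⁻¹ * O₂.β (O₂.sec c) * O₂.β ((O₂.sec c)⁻¹ * w.2) by
        rw [map_mul O₂.β, map_inv]; group]
    exact mul_mem (O₂.sec_mul c) (by rw [O₂.fixed _ hc']; exact hc')

/-- The orbit structure on the fibre product. -/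
noncomputable def fibreOrbit {Q : Type*} [Group Q] [Finite P] [Finite Q] (O₂ : Orbit p ζ Q) :
    Orbit p ζ (O.fibre O₂) where
  β := MulEquiv.ofBijective
      (((MulEquiv.prodCongr O.β O₂.β : P × Q →* P × Q).comp (O.fibre O₂).subtype).codRestrict
        (O.fibre O₂) fun w => O.fibre_map_mem O₂ w.2) (by
      have hi : Function.Injective (((MulEquiv.prodCongr O.β O₂.β : P × Q →* P × Q).comp
          (O.fibre O₂).subtype).codRestrict (O.fibre O₂) fun w => O.fibre_map_mem O₂ w.2) :=
        fun u v h => Subtype.ext ((MulEquiv.prodCongr O.β O₂.β).injective (congrArg Subtype.val h))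
      exact ⟨hi, Finite.injective_iff_surjective.1 hi⟩)
  D := (O.D.prod O₂.D).subgroupOf (O.fibre O₂)
  central := fun d hd => Subgroup.mem_center_iff.2 fun u => Subtype.ext (Prod.ext
    (Subgroup.mem_center_iff.1 (O.central hd.1) u.1.1) (Subgroup.mem_center_iff.1 (O₂.central hd.2) u.1.2))
  fixed := fun d hd => Subtype.ext (Prod.ext (O.fixed _ hd.1) (O₂.fixed _ hd.2))
  exp_p := fun d hd => Subtype.ext (Prod.ext (O.exp_p _ hd.1) (O₂.exp_p _ hd.2))
  comm := fun u v => ⟨O.comm _ _, O₂.comm _ _⟩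
  pow_mem := fun u => ⟨O.pow_mem _, O₂.pow_mem _⟩
  sec := fun c => ⟨(O.sec c, O₂.sec c), c, by simp, by simp⟩
  sec_add := fun c d => ⟨O.sec_add c d, O₂.sec_add c d⟩
  sec_mul := fun c => ⟨O.sec_mul c, O₂.sec_mul c⟩
  sec_surj := fun u => by
    obtain ⟨c, h, h'⟩ := u.2
    exact ⟨c, h, h'⟩

/-- A maximal orbit group maps equivariantly onto every other one whose `D` is its derived
group. -/
theorem exists_hom {Q : Type*} [Group Q] [Finite F] [Finite P] [Finite Q] (O₂ : Orbit p ζ Q)
    (hζ1 : ζ ≠ 1) (hD : O.D ≤ commutator P) (hD₂ : O₂.D ≤ commutator Q) {N : ℕ}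
    (hN : Nat.card P = Nat.card F * N)
    (hbound : ∀ (R : Subgroup (O.fibre O₂)), Orbit p ζ R → Nat.card (commutator R) ≤ N) :
    ∃ ψ : P →* Q, Function.Surjective ψ ∧ ∀ u, ψ (O.β u) = O₂.β (ψ u) := by
  let OW := O.fibreOrbit O₂
  obtain ⟨S, hinv, hcov, hS⟩ := OW.exists_small_cover hζ1
  let π₁ : S →* P := ((MonoidHom.fst P Q).comp (O.fibre O₂).subtype).comp S.subtype
  let π₂ : S →* Q := ((MonoidHom.snd P Q).comp (O.fibre O₂).subtype).comp S.subtype
  have hcov₁ : ∀ c, ∃ u ∈ π₁.range, (O.sec c)⁻¹ * u ∈ O.D := fun c => by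
    obtain ⟨u, hu, h⟩ := hcov c
    exact ⟨_, ⟨⟨u, hu⟩, rfl⟩, h.1⟩
  have hcov₂ : ∀ c, ∃ u ∈ π₂.range, (O₂.sec c)⁻¹ * u ∈ O₂.D := fun c => by
    obtain ⟨u, hu, h⟩ := hcov c
    exact ⟨_, ⟨⟨u, hu⟩, rfl⟩, h.2⟩
  have h₁ : Function.Surjective π₁ := fun u => by
    obtain ⟨c, hc⟩ := O.sec_surj u
    obtain ⟨v, hv, hcv⟩ := hcov₁ c
    have hu : v⁻¹ * u ∈ π₁.range := O.commutator_le_of_cover hcov₁ (hD (by
      rw [show v⁻¹ * u = ((O.sec c)⁻¹ * v)⁻¹ * ((O.sec c)⁻¹ * u) by group]
      exact mul_mem (inv_mem hcv) hc))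
    have := mul_mem hv hu
    rwa [mul_inv_cancel_left] at this
  have h₂ : Function.Surjective π₂ := fun u => by
    obtain ⟨c, hc⟩ := O₂.sec_surj u
    obtain ⟨v, hv, hcv⟩ := hcov₂ c
    have hu : v⁻¹ * u ∈ π₂.range := O₂.commutator_le_of_cover hcov₂ (hD₂ (by
      rw [show v⁻¹ * u = ((O₂.sec c)⁻¹ * v)⁻¹ * ((O₂.sec c)⁻¹ * u) by group]
      exact mul_mem (inv_mem hcv) hc))
    have := mul_mem hv hu
    rwa [mul_inv_cancel_left] at this
  have hcard : Nat.card S = Nat.card P := by
    refine le_antisymm ?_ (Nat.card_le_card_of_surjective π₁ h₁)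
    rw [hN]
    exact hS.trans (Nat.mul_le_mul_left _ (hbound S (OW.restrict S hinv hcov)))
  have hb : Function.Bijective π₁ :=
    (Nat.bijective_iff_surjective_and_card π₁).2 ⟨h₁, hcard⟩
  let e : S ≃* P := MulEquiv.ofBijective π₁ hb
  refine ⟨π₂.comp e.symm.toMonoidHom, h₂.comp e.symm.surjective, fun u => ?_⟩
  obtain ⟨s, rfl⟩ := e.surjective u
  have hs : O.β (e s) = e ⟨OW.β s.1, hinv _ s.2⟩ := rfl
  show π₂ (e.symm (O.β (e s))) = O₂.β (π₂ (e.symm (e s)))
  rw [hs, e.symm_apply_apply, e.symm_apply_apply]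
  rfl

end Orbit

end CfsgLib.FGS74.Schmidt
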