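import Cfsg.Agent.Transfer.Frobenius
import Cfsg.Agent.FGS74.SchmidtOrbit

/-!
# The structure of a minimal non-`p`-nilpotent group with two prime divisors

Its normal Sylow `p`-subgroup is an orbit group for a suitable power of a generator of a Sylow
`q`-subgroup.
-/

set_option autoImplicit false

namespace CfsgLib.FGS74.Schmidt

open Cfsg Subgroup

open scoped commutatorElement Pointwise

universe u

/-- A minimal non-`p`-nilpotent group of order `p^t q^r` is a normal `p`-group extended by a cyclic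
group of order `q^r`, every proper invariant subgroup being fixed. -/
theorem exists_kernel {p q r t : ℕ} [hp : Fact p.Prime] [hq : Fact q.Prime] (hpq : p ≠ q)
    (hr : 1 ≤ r) {X : Type u} [Group X] [Finite X] (hnc : ¬ HasNormalPComplement p X)
    (hK : ∀ K : Subgroup X, K ≠ ⊤ → HasNormalPComplement p K)
    (hcard : Nat.card X = p ^ t * q ^ r) :
    ∃ (Q : Subgroup X) (_ : Q.Normal) (g : X), IsPGroup p Q ∧ orderOf g = q ^ r ∧
      Q ⊔ zpowers g = ⊤ ∧ Disjoint Q (zpowers g) ∧ MulAut.conjNormal g ≠ (1 : MulAut Q) ∧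
      (MulAut.conjNormal g : MulAut Q) ^ q = 1 ∧
      ∀ R : Subgroup Q, R ≠ ⊤ → (∀ u ∈ R, MulAut.conjNormal g u ∈ R) →
        ∀ u ∈ R, MulAut.conjNormal g u = u := by
  obtain ⟨P⟩ : Nonempty (Sylow p X) := inferInstance
  obtain ⟨Q, hQP, g, hgN, hgp, hgC⟩ : ∃ Q : Subgroup X, Q ≤ (P : Subgroup X) ∧
      ∃ g ∈ normalizer (Q : Set X), (orderOf g).Coprime p ∧ g ∉ centralizer (Q : Set X) := by
    by_contra! h
    exact hnc (CfsgLib.Transfer.hasNormalPComplement_of_local P h)
  have hQp : IsPGroup p Q := P.isPGroup'.to_le hQP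
  -- a subgroup containing both `R ≤ Q` and an element normalising it
  have hcent : ∀ (K : Subgroup X), K ≠ ⊤ → ∀ (R : Subgroup X), R ≤ K → IsPGroup p R →
      ∀ x ∈ K, x ∈ normalizer (R : Set X) → (orderOf x).Coprime p →
        ∀ v ∈ R, x * v = v * x := by
    intro K hKt R hRK hR x hx hxN hxp v hv
    have h := CfsgLib.Transfer.mem_centralizer_of_hasNormalPComplement (hK K hKt)
      (Q := R.subgroupOf K) (hR.comap_subtype) (g := ⟨x, hx⟩)
      (by
        rw [mem_normalizer_iff]
        intro y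
        exact mem_normalizer_iff.1 hxN (y : X))
      (by rwa [← orderOf_coe] )
    exact (congrArg Subtype.val (h ⟨v, hRK hv⟩ hv)).symm
  have htop : Q ⊔ zpowers g = ⊤ := by
    by_contra hne
    refine hgC fun v hv => ?_
    exact (hcent _ hne Q le_sup_left hQp g (le_sup_right (a := Q) (mem_zpowers g)) hgN hgp v hv).symm
  haveI hQn : Q.Normal := by
    rw [← normalizer_eq_top_iff, eq_top_iff, ← htop]
    exact sup_le le_normalizer (zpowers_le.2 hgN)
  have hdisj : Disjoint Q (zpowers g) := by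
    obtain ⟨s, hs⟩ := IsPGroup.iff_card.1 hQp
    refine disjoint_of_coprime_natCard ?_
    rw [hs, Nat.card_zpowers]
    exact Nat.Coprime.pow_left _ hgp.symm
  have hXQ : Nat.card X = Nat.card Q * orderOf g := by
    rw [← Nat.card_zpowers, ← (Subgroup.isComplement'_of_disjoint_and_mul_eq_univ hdisj
      (by rw [← normal_mul, htop, coe_top])).card_mul]
  obtain ⟨s, hs⟩ := IsPGroup.iff_card.1 hQp
  have hord : orderOf g = q ^ r := by
    have h1 : orderOf g ∣ p ^ t * q ^ r := hcard ▸ orderOf_dvd_natCard g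
    have h2 : orderOf g ∣ q ^ r := (Nat.Coprime.pow_right t hgp).dvd_of_dvd_mul_left h1
    have h3 : q ^ r ∣ orderOf g := by
      have h4 : q ^ r ∣ p ^ s * orderOf g := by rw [← hs, ← hXQ, hcard]; exact dvd_mul_left _ _
      exact (Nat.Coprime.pow _ _ ((Nat.coprime_primes hq.out hp.out).2 hpq.symm)).dvd_of_dvd_mul_left h4
    exact Nat.dvd_antisymm h2 h3
  have hfix : ∀ R : Subgroup Q, R ≠ ⊤ → (∀ u ∈ R, MulAut.conjNormal g u ∈ R) →
      ∀ u ∈ R, MulAut.conjNormal g u = u := by
    intro R hR hinv u hu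
    have hgR : g ∈ normalizer ((R.map Q.subtype : Subgroup X) : Set X) := by
      rw [mem_normalizer_iff_conj_image_eq]
      refine Set.eq_of_subset_of_ncard_le ?_ ?_
      · rintro _ ⟨_, ⟨v, hv, rfl⟩, rfl⟩
        exact ⟨_, hinv v hv, by simp [MulAut.conjNormal_apply]⟩
      · exact le_of_eq (Set.ncard_image_of_injective _ (MulAut.conj g).injective).symm
    have hne : R.map Q.subtype ⊔ zpowers g ≠ ⊤ := by
      intro e
      refine hR (eq_top_iff.2 fun w _ => ?_)
      have h := (coe_mul_of_right_le_normalizer_left (R.map Q.subtype) (zpowers g) (zpowers_le.2 hgR)).symm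
      rw [e, coe_top] at h
      obtain ⟨_, ⟨v, hv, rfl⟩, y, hy, hvy⟩ : (w : X) ∈ ((R.map Q.subtype : Subgroup X) : Set X) * (zpowers g : Set X) := by
        rw [h]; exact Set.mem_univ _
      have hy1 : y = 1 := by
        refine disjoint_def.1 hdisj ?_ hy
        rw [show y = (v : X)⁻¹ * (w : X) from eq_inv_mul_of_mul_eq hvy]
        exact mul_mem (inv_mem v.2) w.2
      rw [hy1] at hvy
      simp only [mul_one] at hvy
      rwa [← Subtype.ext hvy]
    have h := hcent _ hne _ le_sup_left (hQp.to_le (map_subtype_le R)) g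
      (le_sup_right (a := R.map Q.subtype) (mem_zpowers g)) hgR hgp u ⟨u, hu, rfl⟩
    exact Subtype.ext (by rw [MulAut.conjNormal_apply, h, mul_inv_cancel_right])
  have hgq : ∀ v ∈ Q, g ^ q * v = v * g ^ q := by
    refine fun v hv => hcent (Q ⊔ zpowers (g ^ q)) (fun e => ?_) Q le_sup_left hQp _
      (le_sup_right (a := Q) (mem_zpowers _))
      (normalizer_eq_top Q ▸ Subgroup.mem_top _) ?_ v hv
    · have h : g ∈ ((Q ⊔ zpowers (g ^ q) : Subgroup X) : Set X) := by rw [e]; exact Set.mem_univ g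
      rw [normal_mul] at h
      obtain ⟨v, hv, y, hy, hvy⟩ := h
      have hy' : y ∈ zpowers g := (zpowers_le.2 (pow_mem (mem_zpowers g) q)) hy
      have hv1 : v = 1 := by
        refine disjoint_def.1 hdisj hv ?_
        rw [show v = g * y⁻¹ from eq_mul_inv_of_mul_eq hvy]
        exact mul_mem (mem_zpowers g) (inv_mem hy')
      simp only [hv1, one_mul] at hvy
      subst hvy
      have h1 : orderOf y ∣ orderOf (y ^ q) := by
        obtain ⟨k, hk⟩ := mem_zpowers_iff.1 hy
        calc orderOf y = orderOf ((y ^ q) ^ k) := by rw [hk]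
          _ ∣ orderOf (y ^ q) := orderOf_dvd_of_mem_zpowers (zpow_mem_zpowers _ k)
      rw [orderOf_pow' _ hq.out.ne_zero, hord] at h1
      have h2 : Nat.gcd (q ^ r) q = q := Nat.gcd_eq_right (dvd_pow_self q (by omega))
      rw [h2] at h1
      have h3 := Nat.le_of_dvd (Nat.div_pos (Nat.le_of_dvd (pow_pos hq.out.pos r)
        (dvd_pow_self q (by omega))) hq.out.pos) h1
      exact absurd h3 (not_le.2 (Nat.div_lt_self (pow_pos hq.out.pos r) hq.out.one_lt))
    · exact Nat.Coprime.coprime_dvd_left (orderOf_pow_dvd q) hgp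
  refine ⟨Q, hQn, g, hQp, hord, htop, hdisj, fun e => hgC ?_, ?_, hfix⟩
  · intro v hv
    have h := congrArg Subtype.val (MulEquiv.congr_fun e ⟨v, hv⟩)
    rw [MulAut.conjNormal_apply, MulAut.one_apply] at h
    exact (mul_inv_eq_iff_eq_mul.1 h).symm
  · rw [← map_pow]
    refine MulEquiv.ext fun v => Subtype.ext ?_
    rw [MulAut.conjNormal_apply, MulAut.one_apply, hgq v v.2, mul_inv_cancel_right]

section

variable {p q : ℕ} {Q : Type u} [Group Q] [Finite Q] {β : MulAut Q}

theorem pow_apply_of_fixed (u c : Q) (hu : β u = u * c) (hc : β c = c) (n : ℕ) :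
    (β ^ n) u = u * c ^ n := by
  induction n with
  | zero => simp
  | succ n ih => rw [pow_succ', MulAut.mul_apply, ih, map_mul, map_pow, hc, hu, mul_assoc, ← pow_succ']

/-- The displacements of the automorphism generate. -/
theorem closure_displacement_eq_top [hp : Fact p.Prime] [hq : Fact q.Prime] (hpq : p ≠ q) (hQ : IsPGroup p Q)
    (hβq : β ^ q = 1) (hβ1 : β ≠ 1)
    (hfix : ∀ R : Subgroup Q, R ≠ ⊤ → (∀ u ∈ R, β u ∈ R) → ∀ u ∈ R, β u = u) :
    closure (Set.range fun u => u⁻¹ * β u) = ⊤ := by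
  by_contra hne
  refine hβ1 (MulEquiv.ext fun u => ?_)
  have hinv : ∀ v ∈ closure (Set.range fun u => u⁻¹ * β u), β v ∈ closure (Set.range fun u => u⁻¹ * β u) := by
    intro v hv
    induction hv using closure_induction with
    | mem x hx =>
      obtain ⟨w, rfl⟩ := hx
      exact subset_closure ⟨β w, by simp⟩
    | one => rw [map_one]; exact one_mem _
    | mul x y _ _ hx hy => rw [map_mul]; exact mul_mem hx hy
    | inv x _ hx => rw [map_inv]; exact inv_mem hx
  have hc := hfix _ hne hinv _ (subset_closure ⟨u, rfl⟩)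
  have h := pow_apply_of_fixed u (u⁻¹ * β u) (by group) hc q
  rw [hβq, MulAut.one_apply, left_eq_mul] at h
  obtain ⟨k, hk⟩ := hQ (u⁻¹ * β u)
  have h1 := pow_gcd_eq_one.2 ⟨h, hk⟩
  rw [Nat.Coprime.pow_right k ((Nat.coprime_primes hq.out hp.out).2 hpq.symm), pow_one, inv_mul_eq_one] at h1
  rw [MulAut.one_apply, ← h1]

/-- A `ZMod p`-module with an endomorphism of order `q` and no proper invariant subgroup on which
it is non-trivial is covered by `F`. -/
theorem exists_linear_cover {p q : ℕ} {F : Type*} [Field F] [Finite F] [CharP F p]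
    [hp : Fact p.Prime] [hq : Fact q.Prime] (hpq : p ≠ q) {ζ : F} (hζ : orderOf ζ = q)
    (hgen : Generates ζ) {M : Type*} [AddCommGroup M] [Module (ZMod p) M]
    (B : Module.End (ZMod p) M) (hBq : B ^ q = 1) (n₀ : M) (hn₀ : B n₀ - n₀ ≠ 0)
    (hfixW : ∀ W : AddSubgroup M, W ≠ ⊤ → (∀ x ∈ W, B x ∈ W) → ∀ x ∈ W, B x = x) :
    ∃ (i : ℕ) (g1 : F → M), ¬ q ∣ i ∧ (∀ c d, g1 (c + d) = g1 c + g1 d) ∧
      Function.Surjective g1 ∧ ∀ c, g1 (ζ * c) = (B ^ i) (g1 c) := by
  -- an irreducible polynomial annihilating a nonzero vector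
  obtain ⟨f, hfirr, hfdvd, m, hm, hfm⟩ : ∃ f : Polynomial (ZMod p), Irreducible f ∧
      f ∣ Polynomial.cyclotomic q (ZMod p) ∧ ∃ m : M, m ≠ 0 ∧ Polynomial.aeval B f m = 0 := by
    have key : ∀ k : Polynomial (ZMod p), k ≠ 0 → ∀ m : M, m ≠ 0 → Polynomial.aeval B k m = 0 →
        ∃ f, Irreducible f ∧ f ∣ k ∧ ∃ m' : M, m' ≠ 0 ∧ Polynomial.aeval B f m' = 0 := by
      intro k
      induction k using WfDvdMonoid.induction_on_irreducible with
      | zero => intro h; exact absurd rfl h
      | unit k hk =>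
        intro _ m hm h
        obtain ⟨w, rfl⟩ := hk
        refine absurd ?_ hm
        have h1 : Polynomial.aeval B ((↑w⁻¹ : Polynomial (ZMod p)) * (↑w : Polynomial (ZMod p))) m = 0 := by
          rw [map_mul, Module.End.mul_apply, h, map_zero]
        simpa using h1
      | mul k i hk hi ih =>
        intro _ m hm h
        by_cases h1 : Polynomial.aeval B k m = 0
        · obtain ⟨f, hf, hfk, hrest⟩ := ih hk m hm h1
          exact ⟨f, hf, hfk.trans (dvd_mul_left _ _), hrest⟩
        · rw [map_mul, Module.End.mul_apply] at h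
          exact ⟨i, hi, dvd_mul_right _ _, _, h1, h⟩
    refine key _ (Polynomial.cyclotomic_ne_zero q _) (B n₀ - n₀) hn₀ ?_
    have h := Polynomial.cyclotomic_prime_mul_X_sub_one (ZMod p) q
    have h2 : Polynomial.aeval B (Polynomial.cyclotomic q (ZMod p)) * (B - 1) = 0 := by
      have h3 := congrArg (Polynomial.aeval B) h
      simpa [hBq] using h3
    simpa using LinearMap.congr_fun h2 n₀
  -- a root
  letI : Algebra (ZMod p) F := ZMod.algebra F p
  have hprim : IsPrimitiveRoot ζ q := hζ ▸ IsPrimitiveRoot.orderOf ζ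
  obtain ⟨j, hjq, hzf⟩ : ∃ j, j < q ∧ Polynomial.aeval (ζ ^ j) f = 0 := by
    have hdiv : f.map (algebraMap (ZMod p) F) ∣ (Polynomial.X ^ q - 1 : Polynomial F) := by
      have h1 := Polynomial.map_dvd (algebraMap (ZMod p) F)
        (hfdvd.trans (Polynomial.cyclotomic.dvd_X_pow_sub_one q (ZMod p)))
      simpa using h1
    rw [Polynomial.X_pow_sub_one_eq_prod hq.out.pos hprim] at hdiv
    have hnu : ¬ IsUnit (f.map (algebraMap (ZMod p) F)) := fun h => by
      have := Polynomial.natDegree_eq_zero_of_isUnit h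
      rw [Polynomial.natDegree_map] at this
      exact hfirr.natDegree_pos.ne' this
    obtain ⟨k, hk, hkf⟩ := WfDvdMonoid.exists_irreducible_factor hnu
      (Polynomial.map_ne_zero hfirr.ne_zero)
    obtain ⟨w, hw, hkw⟩ := hk.prime.exists_mem_finset_dvd (hkf.trans hdiv)
    obtain ⟨j, hj, rfl⟩ := hprim.eq_pow_of_pow_eq_one ((Polynomial.mem_nthRootsFinset hq.out.pos _).1 hw)
    refine ⟨j, hj, ?_⟩
    rw [← Polynomial.eval_map_algebraMap]
    have h1 : Polynomial.X - Polynomial.C (ζ ^ j) ∣ f.map (algebraMap (ZMod p) F) :=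
      ((hk.associated_of_dvd (Polynomial.irreducible_X_sub_C _) hkw).symm.dvd).trans hkf
    exact Polynomial.dvd_iff_isRoot.1 h1
  set z : F := ζ ^ j with hz
  have hz1 : z ≠ 1 := by
    intro e
    have h1 : Polynomial.aeval z (Polynomial.cyclotomic q (ZMod p)) = 0 := by
      obtain ⟨k, hk⟩ := hfdvd
      rw [hk, map_mul, hzf, zero_mul]
    rw [e, Polynomial.aeval_def, Polynomial.eval₂_eq_eval_map, Polynomial.map_cyclotomic,
      Polynomial.eval_one_cyclotomic_prime, CharP.cast_eq_zero_iff F p] at h1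
    exact hpq ((Nat.prime_dvd_prime_iff_eq hp.out hq.out).1 h1)
  have hjd : ¬ q ∣ j := fun h => hz1 (by rw [hz, ← orderOf_dvd_iff_pow_eq_one, hζ]; exact h)
  obtain ⟨i, hij⟩ : ∃ i, z ^ i = ζ := by
    have h1 : orderOf z = q := by
      rw [hz, orderOf_pow' _ (show j ≠ 0 by rintro rfl; exact hjd (dvd_zero q)), hζ,
        Nat.Coprime.gcd_eq_one ((hq.out.coprime_iff_not_dvd).2 hjd), Nat.div_one]
    have hzq : z ^ q = 1 := h1 ▸ pow_orderOf_eq_one z
    obtain ⟨i, -, hi⟩ := (h1 ▸ IsPrimitiveRoot.orderOf z).eq_pow_of_pow_eq_one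
      (hprim.pow_eq_one)
    exact ⟨i, hi⟩
  have hiq : ¬ q ∣ i := fun h => by
    obtain ⟨k, rfl⟩ := h
    have h1 : ζ = 1 := by
      rw [← hij, hz, ← pow_mul, mul_comm, mul_assoc, pow_mul, hprim.pow_eq_one, one_pow]
    rw [h1, orderOf_one] at hζ
    exact hq.out.one_lt.ne hζ
  have hsurjF : Function.Surjective (Polynomial.aeval z : Polynomial (ZMod p) →ₐ[ZMod p] F) := by
    intro x
    have h := hgen (Polynomial.aeval z : Polynomial (ZMod p) →ₐ[ZMod p] F).toRingHom.range
      ⟨Polynomial.X ^ i, by simp [hij]⟩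
    exact (h ▸ Subring.mem_top x : x ∈ (Polynomial.aeval z : Polynomial (ZMod p) →ₐ[ZMod p] F).toRingHom.range)
  have hkerF : ∀ k : Polynomial (ZMod p), Polynomial.aeval z k = 0 → Polynomial.aeval B k m = 0 := by
    intro k hk
    have hint : IsIntegral (ZMod p) z := IsIntegral.of_finite (ZMod p) z
    have h1 : f ∣ k := ((minpoly.irreducible hint).associated_of_dvd hfirr
      (minpoly.dvd (ZMod p) z hzf)).symm.dvd.trans (minpoly.dvd (ZMod p) z hk)
    obtain ⟨l, rfl⟩ := h1
    rw [mul_comm, map_mul, Module.End.mul_apply, hfm, map_zero]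
  let g1 : F → M := fun c => Polynomial.aeval B (Function.surjInv hsurjF c) m
  have hg1 : ∀ k, g1 (Polynomial.aeval z k) = Polynomial.aeval B k m := fun k => by
    have h := hkerF (Function.surjInv hsurjF (Polynomial.aeval z k) - k)
      (by rw [map_sub, Function.surjInv_eq hsurjF, sub_self])
    rw [map_sub, LinearMap.sub_apply, sub_eq_zero] at h
    exact h
  have hadd : ∀ c d, g1 (c + d) = g1 c + g1 d := fun c d => by
    obtain ⟨k, rfl⟩ := hsurjF c
    obtain ⟨l, rfl⟩ := hsurjF d
    rw [← map_add, hg1, hg1, hg1, map_add, LinearMap.add_apply]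
  have hmul : ∀ (n : ℕ) c, g1 (z ^ n * c) = (B ^ n) (g1 c) := fun n c => by
    obtain ⟨k, rfl⟩ := hsurjF c
    have e : z ^ n * Polynomial.aeval z k = Polynomial.aeval z (Polynomial.X ^ n * k) := by simp
    rw [e, hg1, hg1, map_mul, Module.End.mul_apply]
    simp
  have hg11 : g1 1 = m := by
    have h := hg1 1
    simpa using h
  have hsurj : Function.Surjective g1 := by
    let G₁ : F →+ M := AddMonoidHom.mk' g1 hadd
    have hWinv : ∀ x ∈ G₁.range, B x ∈ G₁.range := by
      rintro x ⟨c, rfl⟩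
      exact ⟨z ^ 1 * c, (hmul 1 c).trans (by rw [pow_one]; rfl)⟩
    by_cases hW : G₁.range = ⊤
    · intro x
      exact (hW ▸ AddSubgroup.mem_top x : x ∈ G₁.range)
    · exfalso
      have h1 : B m = m := hfixW _ hW hWinv m ⟨1, hg11⟩
      let S : Subring F :=
        { carrier := {s | ∀ c, G₁ c = 0 → G₁ (s * c) = 0}
          mul_mem' := fun {a b} ha hb c hc => by rw [mul_assoc]; exact ha _ (hb c hc)
          one_mem' := fun c hc => by rwa [one_mul]
          add_mem' := fun {a b} ha hb c hc => by rw [add_mul, map_add, ha c hc, hb c hc, add_zero]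
          zero_mem' := fun c _ => by rw [zero_mul, map_zero]
          neg_mem' := fun {a} ha c hc => by rw [neg_mul, map_neg, ha c hc, neg_zero] }
      have hzS : z ∈ S := fun c hc => by
        show g1 (z * c) = 0
        rw [show z * c = z ^ 1 * c by rw [pow_one], hmul, show g1 c = 0 from hc, map_zero]
      have h2 : G₁ (z - 1) = 0 := by
        rw [map_sub, sub_eq_zero]
        show g1 z = g1 1
        rw [show z = z ^ 1 * 1 by simp, hmul, hg11, pow_one, h1]
      have h3 : S = ⊤ := hgen S (hij ▸ pow_mem hzS i)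
      have h4 : G₁ ((z - 1)⁻¹ * (z - 1)) = 0 :=
        (h3 ▸ Subring.mem_top (z - 1)⁻¹ : (z - 1)⁻¹ ∈ S) _ h2
      rw [inv_mul_cancel₀ (sub_ne_zero.2 hz1)] at h4
      exact hm (hg11.symm.trans h4)
  exact ⟨i, g1, hiq, hadd, hsurj, fun c => by rw [← hij, hmul]⟩

/-- The orbit structure, given the fixed central subgroup. -/
theorem exists_orbit_aux {F : Type*} [Field F] [Finite F] [CharP F p] [hp : Fact p.Prime]
    [hq : Fact q.Prime] (hpq : p ≠ q) {ζ : F} (hζ : orderOf ζ = q) (hgen : Generates ζ)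
    (hβq : β ^ q = 1) (hgenQ : closure (Set.range fun u => u⁻¹ * β u) = ⊤)
    (hfix : ∀ R : Subgroup Q, R ≠ ⊤ → (∀ u ∈ R, β u ∈ R) → ∀ u ∈ R, β u = u)
    (D : Subgroup Q) [hDn : D.Normal] (hcentral : D ≤ center Q) (hfixD : ∀ d ∈ D, β d = d)
    (hDinv : ∀ v ∈ D, β v ∈ D) (hexp : ∀ d ∈ D, d ^ p = 1) (hcD : ∀ u v : Q, ⁅u, v⁆ ∈ D)
    (hpD : ∀ u : Q, u ^ p ∈ D) (hDtop : D ≠ ⊤) (hDc : D ≤ commutator Q) :
    ∃ (i : ℕ) (O : Orbit p ζ Q), ¬ q ∣ i ∧ O.β = β ^ i ∧ O.D ≤ commutator Q := by
  -- the quotient as a module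
  let π : Q →* Q ⧸ D := QuotientGroup.mk' D
  have hπ : Function.Surjective π := QuotientGroup.mk'_surjective D
  have hπc : ∀ a b : Q ⧸ D, a * b = b * a := fun a b => by
    obtain ⟨u, rfl⟩ := hπ a
    obtain ⟨v, rfl⟩ := hπ b
    rw [← commutatorElement_eq_one_iff_mul_comm, ← map_commutatorElement]
    exact (QuotientGroup.eq_one_iff _).2 (hcD u v)
  letI : CommGroup (Q ⧸ D) := { (inferInstance : Group (Q ⧸ D)) with mul_comm := hπc }
  have hM0 : ∀ x : Additive (Q ⧸ D), p • x = 0 := fun x => by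
    obtain ⟨u, hu⟩ := hπ x.toMul
    apply Additive.toMul.injective
    show x.toMul ^ p = 1
    rw [← hu, ← map_pow]
    exact (QuotientGroup.eq_one_iff _).2 (hpD u)
  haveI : Module (ZMod p) (Additive (Q ⧸ D)) := AddCommGroup.zmodModule hM0
  let β' : Additive (Q ⧸ D) →+ Additive (Q ⧸ D) :=
    MonoidHom.toAdditive (QuotientGroup.map D D β.toMonoidHom hDinv)
  have hB : ∀ u, β'.toZModLinearMap p (Additive.ofMul (π u)) = Additive.ofMul (π (β u)) :=
    fun u => rfl
  have hBn : ∀ (n : ℕ) u, (((β'.toZModLinearMap p : Module.End (ZMod p) (Additive (Q ⧸ D))) ^ n))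
      (Additive.ofMul (π u)) = Additive.ofMul (π ((β ^ n) u)) := by
    intro n
    induction n with
    | zero => intro u; simp
    | succ n ih =>
      intro u
      rw [pow_succ', pow_succ', Module.End.mul_apply, ih, hB, MulAut.mul_apply]
  have hof : ∀ x : Additive (Q ⧸ D), ∃ u, Additive.ofMul (π u) = x := fun x => by
    obtain ⟨u, hu⟩ := hπ x.toMul
    exact ⟨u, by rw [hu]; rfl⟩
  have hBq : (β'.toZModLinearMap p : Module.End (ZMod p) (Additive (Q ⧸ D))) ^ q = 1 := by
    refine LinearMap.ext fun x => ?_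
    obtain ⟨u, rfl⟩ := hof x
    rw [hBn, hβq]
    rfl
  obtain ⟨n₀, hn₀⟩ : ∃ n₀, β'.toZModLinearMap p n₀ - n₀ ≠ 0 := by
    by_contra! h
    refine hDtop (top_le_iff.1 ?_)
    rw [← hgenQ, closure_le]
    rintro _ ⟨u, rfl⟩
    have h1 := sub_eq_zero.1 (h (Additive.ofMul (π u)))
    rw [hB] at h1
    exact QuotientGroup.eq.1 (Additive.ofMul.injective h1).symm
  obtain ⟨i, g1, hiq, hadd, hsurj, hmul⟩ := exists_linear_cover hpq hζ hgen
    (β'.toZModLinearMap p) hBq n₀ hn₀ (by
      intro W hW hWinv x hx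
      let R : Subgroup Q :=
        { carrier := {u | Additive.ofMul (π u) ∈ W}
          one_mem' := by
            rw [Set.mem_setOf_eq, map_one, ofMul_one]
            exact zero_mem _
          mul_mem' := fun {a b} ha hb => by
            rw [Set.mem_setOf_eq, map_mul, ofMul_mul]
            exact add_mem ha hb
          inv_mem' := fun {a} ha => by
            rw [Set.mem_setOf_eq, map_inv, ofMul_inv]
            exact neg_mem ha }
      obtain ⟨u, rfl⟩ := hof x
      have hR : R ≠ ⊤ := fun e => hW (eq_top_iff.2 fun y _ => by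
        obtain ⟨v, rfl⟩ := hof y
        exact (e ▸ Subgroup.mem_top v : v ∈ R))
      have h := hfix R hR (fun v hv => by
        show Additive.ofMul (π (β v)) ∈ W
        rw [← hB]; exact hWinv _ hv) u hx
      rw [hB, h])
  choose sec hsec using fun c : F => hof (g1 c)
  have hmem : ∀ a b : Q, Additive.ofMul (π a) = Additive.ofMul (π b) → a⁻¹ * b ∈ D := fun a b h =>
    QuotientGroup.eq.1 (Additive.ofMul.injective h)
  have hfixi : ∀ (n : ℕ), ∀ d ∈ D, (β ^ n) d = d := by
    intro n d hd
    induction n with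
    | zero => rfl
    | succ n ih => rw [pow_succ', MulAut.mul_apply, ih, hfixD d hd]
  refine ⟨i,
    { β := β ^ i
      D := D
      central := hcentral
      fixed := hfixi i
      exp_p := hexp
      comm := hcD
      pow_mem := hpD
      sec := sec
      sec_add := fun c d => hmem _ _ (by rw [map_mul, ofMul_mul, hsec, hsec, hsec, hadd])
      sec_mul := fun c => hmem _ _ (by rw [← hBn, hsec, hsec, hmul])
      sec_surj := fun u => by
        obtain ⟨c, hc⟩ := hsurj (Additive.ofMul (π u))
        exact ⟨c, hmem _ _ ((hsec c).trans hc)⟩ }, hiq, rfl, hDc⟩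


/-- The orbit structure for a suitable power of the automorphism. -/
theorem exists_orbit {F : Type*} [Field F] [Finite F] [CharP F p] [hp : Fact p.Prime]
    [hq : Fact q.Prime] (hpq : p ≠ q) {ζ : F} (hζ : orderOf ζ = q) (hgen : Generates ζ)
    (hQ : IsPGroup p Q) (hβq : β ^ q = 1) (hβ1 : β ≠ 1)
    (hfix : ∀ R : Subgroup Q, R ≠ ⊤ → (∀ u ∈ R, β u ∈ R) → ∀ u ∈ R, β u = u) :
    ∃ (i : ℕ) (O : Orbit p ζ Q), ¬ q ∣ i ∧ O.β = β ^ i ∧ O.D ≤ commutator Q := by
  have hgenQ := closure_displacement_eq_top hpq hQ hβq hβ1 hfix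
  have hker : ∀ {A : Type u} [Group A] (h : Q →* A), (∀ u, h (β u) = h u) → ∀ u, h u = 1 := by
    intro A _ h hh
    have : closure (Set.range fun u => u⁻¹ * β u) ≤ h.ker := by
      rw [closure_le]
      rintro _ ⟨u, rfl⟩
      show h (u⁻¹ * β u) = 1
      rw [map_mul, hh, ← map_mul, inv_mul_cancel, map_one]
    rw [hgenQ] at this
    exact fun u => this (Subgroup.mem_top u)
  set D : Subgroup Q := commutator Q ⊔ closure (Set.range fun u : Q => u ^ p) with hD
  have hDn : D.Normal := Subgroup.Normal.of_commutator_le Q le_sup_left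
  have hcD : ∀ u v, ⁅u, v⁆ ∈ D := fun u v =>
    le_sup_left (b := closure (Set.range fun u : Q => u ^ p)) (commutator_mem_commutator (Subgroup.mem_top u) (Subgroup.mem_top v))
  have hpD : ∀ u : Q, u ^ p ∈ D := fun u => le_sup_right (a := commutator Q) (subset_closure ⟨u, rfl⟩)
  have hDtop : D ≠ ⊤ := by
    intro e
    haveI : Nontrivial Q := by
      by_contra hn
      rw [not_nontrivial_iff_subsingleton] at hn
      exact hβ1 (MulEquiv.ext fun u => Subsingleton.elim _ _)
    haveI := hQ.isNilpotent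
    obtain ⟨M, hM, -⟩ := (eq_top_or_exists_le_coatom (⊥ : Subgroup Q)).resolve_left bot_ne_top
    haveI : M.Normal := (Group.normalizerCondition_of_isNilpotent).normal_of_coatom M hM
    have hidx : M.index = p := by
      obtain ⟨k, hk⟩ := (hQ.to_quotient M).exists_card_eq
      rw [← index_eq_card] at hk
      rcases k with _ | k
      · rw [pow_zero, index_eq_one] at hk
        exact absurd hk hM.1
      · haveI : Finite (Q ⧸ M) := inferInstance
        obtain ⟨x, hx⟩ := exists_prime_orderOf_dvd_card' (G := Q ⧸ M) p (by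
          rw [← index_eq_card, hk]; exact dvd_pow_self p (by omega))
        have h1 : (zpowers x).comap (QuotientGroup.mk' M) = ⊤ := by
          refine hM.2 _ (lt_of_le_of_ne (fun y hy => ?_) fun e => ?_)
          · rw [mem_comap, QuotientGroup.mk'_apply, (QuotientGroup.eq_one_iff y).2 hy]; exact one_mem _
          · obtain ⟨y, rfl⟩ := QuotientGroup.mk'_surjective M x
            have hy : y ∈ (zpowers (QuotientGroup.mk' M y)).comap (QuotientGroup.mk' M) := mem_zpowers _
            rw [← e] at hy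
            rw [QuotientGroup.mk'_apply, (QuotientGroup.eq_one_iff y).2 hy, orderOf_one] at hx
            exact hp.out.one_lt.ne hx
        rw [index_eq_card, ← card_top, ← map_top_of_surjective _ (QuotientGroup.mk'_surjective M), ← h1,
          map_comap_eq_self_of_surjective (QuotientGroup.mk'_surjective M), Nat.card_zpowers, hx]
    haveI : IsMulCommutative (Q ⧸ M) :=
      haveI : IsCyclic (Q ⧸ M) := isCyclic_of_prime_card (p := p) (by rw [← index_eq_card, hidx])
      inferInstance
    refine hM.1 (top_le_iff.1 (e ▸ sup_le ?_ ?_))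
    · rw [_root_.commutator_def, Subgroup.commutator_le]
      intro u _ v _
      rw [← QuotientGroup.eq_one_iff, ← QuotientGroup.mk'_apply, map_commutatorElement,
        commutatorElement_eq_one_iff_mul_comm]
      exact mul_comm' _ _
    · rw [closure_le]
      rintro _ ⟨u, rfl⟩
      rw [SetLike.mem_coe, ← hidx]
      exact pow_index_mem M u
  have hDinv : ∀ v ∈ D, β v ∈ D := by
    have : D.map β.toMonoidHom ≤ D := by
      rw [hD, Subgroup.map_sup, MonoidHom.map_closure, _root_.commutator_def, Subgroup.map_commutator]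
      refine sup_le_sup (Subgroup.commutator_mono le_top le_top) (closure_mono ?_)
      rintro _ ⟨_, ⟨u, rfl⟩, rfl⟩
      exact ⟨β u, (map_pow β u p).symm⟩
    exact fun v hv => this (mem_map_of_mem _ hv)
  have hfixD : ∀ d ∈ D, β d = d := hfix D hDtop hDinv
  have hcentral : D ≤ center Q := by
    intro d hd
    rw [mem_center_iff]
    have : closure (Set.range fun u => u⁻¹ * β u) ≤ centralizer ({d} : Set Q) := by
      rw [closure_le]
      rintro _ ⟨u, rfl⟩
      rw [SetLike.mem_coe, mem_centralizer_singleton_iff]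
      show u⁻¹ * β u * d = d * (u⁻¹ * β u)
      symm
      have h := hfixD _ (hDn.conj_mem d hd u)
      rw [map_mul, map_mul, map_inv, hfixD d hd] at h
      calc d * (u⁻¹ * β u) = u⁻¹ * (u * d * u⁻¹) * β u := by group
        _ = u⁻¹ * β u * d := by rw [← h]; group
    rw [hgenQ] at this
    exact fun g => (mem_centralizer_singleton_iff.1 (this (Subgroup.mem_top g)))
  have hcm : commutator Q ≤ center Q := le_trans le_sup_left hcentral
  have hexpc : ∀ c ∈ commutator Q, c ^ p = 1 := by
    intro c hc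
    rw [commutator_eq_closure] at hc
    induction hc using closure_induction with
    | mem x hx =>
      obtain ⟨u, v, rfl⟩ := hx
      have hpow : ∀ n : ℕ, ⁅u ^ n, v⁆ = ⁅u, v⁆ ^ n := by
        intro n
        induction n with
        | zero => simp
        | succ n ih =>
          have h := mem_center_iff.1 (hcentral (hcD u v)) (u ^ n)
          rw [pow_succ, commutatorElement_mul_left_eq_conj_mul, h, mul_inv_cancel_right, ih, pow_succ']
      rw [← hpow, commutatorElement_eq_one_iff_mul_comm]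
      exact (mem_center_iff.1 (hcentral (hpD u)) v).symm
    | one => exact one_pow p
    | mul x y hx hy h1 h2 =>
      have hx' : x ∈ center Q := hcm (by rw [commutator_eq_closure]; exact hx)
      rw [Commute.mul_pow (mem_center_iff.1 hx' y).symm, h1, h2, one_mul]
    | inv x _ h1 => rw [inv_pow, h1, inv_one]
  have hab : ∀ u v : Q, ∃ c ∈ commutator Q, (u * v) ^ p = u ^ p * v ^ p * c := by
    intro u v
    refine ⟨(u ^ p * v ^ p)⁻¹ * (u * v) ^ p, ?_, by group⟩
    rw [← QuotientGroup.eq]
    let π := QuotientGroup.mk' (commutator Q)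
    show π (u ^ p * v ^ p) = π ((u * v) ^ p)
    rw [map_mul, map_pow, map_pow, map_pow, map_mul, Commute.mul_pow]
    rw [Commute, SemiconjBy, ← commutatorElement_eq_one_iff_mul_comm, ← map_commutatorElement,
      QuotientGroup.mk'_apply, QuotientGroup.eq_one_iff]
    exact commutator_mem_commutator (Subgroup.mem_top _) (Subgroup.mem_top _)
  have hexp : ∀ d ∈ D, d ^ p = 1 := by
    let h2 : Q →* Q :=
      { toFun := fun u => (u ^ p) ^ p
        map_one' := by simp
        map_mul' := fun u v => by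
          obtain ⟨c, hc, e⟩ := hab u v
          rw [e, Commute.mul_pow (mem_center_iff.1 (hcm hc) _), hexpc c hc, mul_one,
            Commute.mul_pow (mem_center_iff.1 (hcentral (hpD v)) _)] }
    have h3 : ∀ u : Q, (u ^ p) ^ p = 1 := hker h2 fun u => by
      show ((β u) ^ p) ^ p = (u ^ p) ^ p
      rw [← map_pow, hfixD _ (hpD u)]
    intro d hd
    rw [hD, ← Subgroup.closure_eq (commutator Q), ← Subgroup.closure_union] at hd
    induction hd using closure_induction with
    | mem x hx =>
      rcases hx with hx | ⟨u, rfl⟩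
      · exact hexpc x hx
      · exact h3 u
    | one => exact one_pow p
    | mul x y hx hy h1 h2 =>
      have hx' : x ∈ center Q := by
        rw [Subgroup.closure_union, Subgroup.closure_eq] at hx
        exact hcentral hx
      rw [Commute.mul_pow (mem_center_iff.1 hx' y).symm, h1, h2, one_mul]
    | inv x _ h1 => rw [inv_pow, h1, inv_one]
  have hDc : D ≤ commutator Q := by
    refine sup_le le_rfl ((closure_le _).2 ?_)
    rintro _ ⟨u, rfl⟩
    let π := QuotientGroup.mk' (commutator Q)
    let h' : Q →* Q ⧸ commutator Q :=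
      { toFun := fun u => π (u ^ p)
        map_one' := by simp
        map_mul' := fun u v => by
          obtain ⟨c, hc, e⟩ := hab u v
          rw [e, map_mul π, map_mul π, QuotientGroup.mk'_apply, QuotientGroup.mk'_apply,
            QuotientGroup.mk'_apply, (QuotientGroup.eq_one_iff c).2 hc, mul_one] }
    exact (QuotientGroup.eq_one_iff _).1 (hker h' (fun v => by
      show π ((β v) ^ p) = π (v ^ p)
      rw [← map_pow, hfixD _ (hpD v)]) u)
  exact exists_orbit_aux hpq hζ hgen hβq hgenQ hfix D hcentral hfixD hDinv hexp hcD hpD hDtop hDc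

end

end CfsgLib.FGS74.Schmidt
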