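import Cfsg.Agent.FGS74.SchmidtModel
import Cfsg.Agent.FGS74.SchmidtSource

/-!
# The universal Schmidt group

The semidirect product of the universal orbit group by a cyclic group of order `q^r`: it is
minimal non-`p`-nilpotent and covers every such group centrally.
-/

set_option autoImplicit false

namespace CfsgLib.FGS74.Schmidt

open Cfsg Subgroup

open scoped commutatorElement

universe u

namespace Orbit

variable {F : Type} [Field F] {p : ℕ} {ζ : F} {P : Type} [Group P] (O : Orbit p ζ P)

/-- The class map. -/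
theorem exists_class (hinj : ∀ c, O.sec c ∈ O.D → c = 0) :
    ∃ cl : P →* Multiplicative F, Function.Surjective cl ∧ cl.ker = O.D ∧
      ∀ (n : ℕ) v, (cl ((O.β ^ n) v)).toAdd = ζ ^ n * (cl v).toAdd := by
  choose f hf using O.sec_surj
  have hn : O.D.Normal := ⟨fun d hd g => by
    rwa [mem_center_iff.1 (O.central hd) g, mul_inv_cancel_right]⟩
  have huniq : ∀ {u : P} {c : F}, (O.sec c)⁻¹ * u ∈ O.D → f u = c := by
    intro u c hc
    have h1 : (O.sec c)⁻¹ * O.sec (f u) ∈ O.D := by
      have := mul_mem hc (inv_mem (hf u))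
      rwa [mul_inv_rev, inv_inv, mul_assoc, mul_inv_cancel_left] at this
    have h2 := O.sec_add c (f u - c)
    rw [add_sub_cancel] at h2
    have h3 : O.sec (f u - c) ∈ O.D := by
      have := mul_mem h1 h2
      rwa [mul_assoc, mul_inv_cancel_left, inv_mul_cancel_left] at this
    exact sub_eq_zero.1 (hinj _ h3)
  have hmem : ∀ {a b : P}, a⁻¹ * b ∈ O.D → f a = f b := fun {a b} h => (huniq (u := b) (c := f a) (by
    rw [show (O.sec (f a))⁻¹ * b = (O.sec (f a))⁻¹ * a * (a⁻¹ * b) by group]
    exact mul_mem (hf a) h)).symm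
  have hsec : ∀ c, f (O.sec c) = c := fun c => huniq (by rw [inv_mul_cancel]; exact one_mem _)
  have hadd : ∀ a b, f (a * b) = f a + f b := fun a b => by
    refine huniq ?_
    have e : (O.sec (f a + f b))⁻¹ * (a * b) = ((O.sec (f a + f b))⁻¹ * (O.sec (f a) * O.sec (f b)))
        * ((O.sec (f a))⁻¹ * a * ((O.sec (f b))⁻¹ * b)) := by
      calc (O.sec (f a + f b))⁻¹ * (a * b)
          = (O.sec (f a + f b))⁻¹ * (O.sec (f a) * (((O.sec (f a))⁻¹ * a) * O.sec (f b))
              * ((O.sec (f b))⁻¹ * b)) := by group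
        _ = _ := by rw [← mem_center_iff.1 (O.central (hf a)) (O.sec (f b))]; group
    rw [e]
    exact mul_mem (O.sec_add _ _) (mul_mem (hf a) (hf b))
  let cl : P →* Multiplicative F :=
    MonoidHom.mk' (fun u => Multiplicative.ofAdd (f u)) fun a b => by simp [hadd]
  refine ⟨cl, fun c => ⟨O.sec c.toAdd, ?_⟩, ?_, fun n v => ?_⟩
  · show Multiplicative.ofAdd (f (O.sec c.toAdd)) = c
    rw [hsec, ofAdd_toAdd]
  · ext u
    rw [MonoidHom.mem_ker]
    show Multiplicative.ofAdd (f u) = 1 ↔ _
    rw [← ofAdd_zero, Multiplicative.ofAdd.injective.eq_iff]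
    have h0 : O.sec 0 ∈ O.D := by
      have h := O.sec_add 0 0
      rwa [add_zero, inv_mul_cancel_left] at h
    constructor
    · intro h
      have := mul_mem h0 (hf u)
      rwa [h, mul_inv_cancel_left] at this
    · exact fun h => huniq (mul_mem (inv_mem h0) h)
  · show f ((O.β ^ n) v) = ζ ^ n * f v
    induction n with
    | zero => simp
    | succ n ih =>
      rw [pow_succ', MulAut.mul_apply, pow_succ', mul_assoc, ← ih]
      set w := (O.β ^ n) v
      refine huniq ?_
      rw [show (O.sec (ζ * f w))⁻¹ * O.β w = (O.sec (ζ * f w))⁻¹ * O.β (O.sec (f w))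
          * O.β ((O.sec (f w))⁻¹ * w) by rw [map_mul O.β, map_inv]; group]
      exact mul_mem (O.sec_mul _) (by rw [O.fixed _ (hf w)]; exact hf w)

/-- A subgroup invariant under a twisted generating power is everything or lies in `D`. -/
theorem invariant_dichotomy (hgen : Generates ζ) (hinj : ∀ c, O.sec c ∈ O.D → c = 0)
    (hD : O.D ≤ commutator P) (R : Subgroup P) {n m : ℕ} (hnm : (ζ ^ n) ^ m = ζ) (w : P)
    (hR : ∀ v ∈ R, w * (O.β ^ n) v * w⁻¹ ∈ R) : R = ⊤ ∨ R ≤ O.D := by
  obtain ⟨cl, hcl, hker, hmul⟩ := O.exists_class hinj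
  by_cases hne : R ≤ O.D
  · exact Or.inr hne
  refine Or.inl ?_
  let S : AddSubgroup F := Subgroup.toAddSubgroup' (R.map cl)
  have hS : ∀ {c : F}, c ∈ S ↔ ∃ v ∈ R, cl v = Multiplicative.ofAdd c := fun {c} => Iff.rfl
  let T : Subring F :=
    { carrier := {x | ∀ c ∈ S, x * c ∈ S}
      mul_mem' := fun {a b} ha hb c hc => by rw [mul_assoc]; exact ha _ (hb c hc)
      one_mem' := fun c hc => by rwa [one_mul]
      add_mem' := fun {a b} ha hb c hc => by rw [add_mul]; exact add_mem (ha c hc) (hb c hc)
      zero_mem' := fun c _ => by rw [zero_mul]; exact zero_mem _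
      neg_mem' := fun {a} ha c hc => by rw [neg_mul]; exact neg_mem (ha c hc) }
  have hT : ζ ∈ T := by
    rw [← hnm]
    refine Subring.pow_mem T (show ζ ^ n ∈ T from fun c hc => ?_) m
    obtain ⟨v, hv, e⟩ := hS.1 hc
    refine hS.2 ⟨_, hR v hv, ?_⟩
    rw [map_mul, map_mul, mul_comm (cl w), map_inv, mul_inv_cancel_right]
    apply Multiplicative.toAdd.injective
    rw [hmul, e, toAdd_ofAdd, toAdd_ofAdd]
  obtain ⟨v, hv, hvD⟩ := SetLike.not_le_iff_exists.1 hne
  have hv0 : (cl v).toAdd ≠ 0 := fun e => hvD (by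
    rw [← hker, MonoidHom.mem_ker]
    exact Multiplicative.toAdd.injective (e.trans toAdd_one.symm))
  have hall : ∀ c : F, ∃ x ∈ R, cl x = Multiplicative.ofAdd c := fun c => by
    have hx : c * (cl v).toAdd⁻¹ ∈ T := hgen T hT ▸ Subring.mem_top _
    have h := hx _ (hS.2 ⟨v, hv, (ofAdd_toAdd _).symm⟩)
    rw [inv_mul_cancel_right₀ hv0] at h
    exact hS.1 h
  have hcom : commutator P ≤ R := O.commutator_le_of_cover fun c => by
    obtain ⟨x, hx, hxc⟩ := hall (cl (O.sec c)).toAdd
    refine ⟨x, hx, ?_⟩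
    rw [← hker, MonoidHom.mem_ker, map_mul, map_inv, hxc, ofAdd_toAdd, inv_mul_cancel]
  refine eq_top_iff.2 fun u _ => ?_
  obtain ⟨x, hx, hxu⟩ := hall (cl u).toAdd
  have : x⁻¹ * u ∈ R := hcom (hD (by
    rw [← hker, MonoidHom.mem_ker, map_mul, map_inv, hxu, ofAdd_toAdd, inv_mul_cancel]))
  have := mul_mem hx this
  rwa [mul_inv_cancel_left] at this

end Orbit

/-- The universal minimal non-`p`-nilpotent group. -/
theorem exists_universal_group (p q r : ℕ) [hp : Fact p.Prime] [hq : Fact q.Prime] (hpq : p ≠ q)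
    (hr : 1 ≤ r) (a : ℕ) (ha : a = orderOf (p : ZMod q)) :
    ∃ (G₀ : Type u) (_ : Group G₀) (_ : Finite G₀),
      (¬ HasNormalPComplement p G₀ ∧ ∀ K : Subgroup G₀, K ≠ ⊤ → HasNormalPComplement p K) ∧
      Nat.card G₀ = p ^ (if a % 2 = 1 then a else 3 * a / 2) * q ^ r ∧
      ∀ (X : Type u) [Group X] [Finite X],
        (¬ HasNormalPComplement p X ∧ ∀ K : Subgroup X, K ≠ ⊤ → HasNormalPComplement p K) →
        (∃ t : ℕ, Nat.card X = p ^ t * q ^ r) →
          ∃ φ : G₀ →* X, Function.Surjective φ ∧ φ.ker ≤ center G₀ := by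
  obtain ⟨F, _, _, _, ζ, P, _, _, O, N, hζ, hgen, hF, hU, hcardN⟩ :=
    exists_universal.{u} p q a hpq ha
  have hζ1 : ζ ≠ 1 := fun e => by
    rw [e, orderOf_one] at hζ
    exact hq.out.one_lt.ne hζ
  have hζq : ζ ^ q = 1 := hζ ▸ pow_orderOf_eq_one ζ
  haveI : NeZero (q ^ r) := ⟨pow_ne_zero _ hq.out.ne_zero⟩
  have hβqr : O.β ^ (q ^ r) = 1 := by
    obtain ⟨k, hk⟩ : q ∣ q ^ r := dvd_pow_self q (by omega)
    rw [hk, pow_mul, hU.pow_eq_one, one_pow]
  let φ0 : Multiplicative (ZMod (q ^ r)) →* MulAut P :=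
    { toFun := fun c => O.β ^ c.toAdd.val
      map_one' := by simp
      map_mul' := fun c d => by
        rw [← pow_add, toAdd_mul, ZMod.val_add, ← pow_eq_pow_mod _ hβqr] }
  have hφ0 : ∀ c, φ0 c = O.β ^ c.toAdd.val := fun c => rfl
  have hCord : ∀ c : Multiplicative (ZMod (q ^ r)), c ^ (q ^ r) = 1 := fun c => by
    have h := pow_card_eq_one' (x := c)
    rwa [Nat.card_congr Multiplicative.toAdd, Nat.card_zmod] at h
  let G := P ⋊[φ0] Multiplicative (ZMod (q ^ r))
  have hmulL : ∀ v w : G, (v * w).left = v.left * φ0 v.right w.left := fun _ _ => rfl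
  have hmulR : ∀ v w : G, (v * w).right = v.right * w.right := fun _ _ => rfl
  haveI : Finite G := Finite.of_equiv _ SemidirectProduct.equivProd.symm
  have hcardG : Nat.card G = p ^ (if a % 2 = 1 then a else 3 * a / 2) * q ^ r := by
    rw [Nat.card_congr SemidirectProduct.equivProd, Nat.card_prod, hU.card_eq, hcardN,
      Nat.card_congr Multiplicative.toAdd, Nat.card_zmod]
  have hPp : IsPGroup p P := IsPGroup.of_card (hU.card_eq.trans hcardN)
  have hcopr : ∀ k, Nat.Coprime (p ^ k) (q ^ r) := fun k =>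
    Nat.Coprime.pow _ _ ((Nat.coprime_primes hp.out hq.out).2 hpq)
  -- `D` is central in `G`
  have hDfix : ∀ (n : ℕ), ∀ d ∈ O.D, (O.β ^ n) d = d := by
    intro n d hd
    induction n with
    | zero => rfl
    | succ n ih => rw [pow_succ', MulAut.mul_apply, ih, O.fixed d hd]
  have hDcen : ∀ d ∈ O.D, (SemidirectProduct.inl d : G) ∈ center G := by
    refine fun d hd => mem_center_iff.2 fun w => SemidirectProduct.ext ?_ ?_
    · simp only [hmulL, SemidirectProduct.left_inl,
        SemidirectProduct.right_inl, map_one, MulAut.one_apply]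
      rw [hφ0, hDfix _ d hd, mem_center_iff.1 (O.central hd) w.left]
    · simp [hmulR]
  -- `G` is not `p`-nilpotent
  have hnot : ¬ HasNormalPComplement p G := by
    intro h
    let γ : G := SemidirectProduct.inr (Multiplicative.ofAdd (1 : ZMod (q ^ r)))
    let R : Subgroup G := (SemidirectProduct.inl : P →* G).range
    have hR : IsPGroup p R := hPp.of_surjective _ (MonoidHom.rangeRestrict_surjective _)
    haveI : R.Normal := by
      show (SemidirectProduct.inl : P →* G).range.Normal
      rw [SemidirectProduct.range_inl_eq_ker_rightHom]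
      infer_instance
    have hγ : (orderOf γ).Coprime p := by
      refine Nat.Coprime.coprime_dvd_left (orderOf_dvd_of_pow_eq_one (n := q ^ r) ?_)
        (by simpa using (hcopr 1).symm)
      show γ ^ (q ^ r) = 1
      rw [← map_pow, hCord, map_one]
    have hc := CfsgLib.Transfer.mem_centralizer_of_hasNormalPComplement h hR
      (normalizer_eq_top R ▸ Subgroup.mem_top γ) hγ
    have hβ : O.β (O.sec 1) = O.sec 1 := by
      have h1 := hc (SemidirectProduct.inl (O.sec 1)) ⟨_, rfl⟩
      have h2 := congrArg SemidirectProduct.left h1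
      simp only [γ, hmulL, SemidirectProduct.left_inl,
        SemidirectProduct.right_inl, SemidirectProduct.left_inr, SemidirectProduct.right_inr,
        map_one, mul_one, one_mul, MulAut.one_apply] at h2
      rw [hφ0, toAdd_ofAdd, ZMod.val_one_eq_one_mod,
        Nat.mod_eq_of_lt (Nat.one_lt_pow (by omega) hq.out.one_lt), pow_one] at h2
      exact h2.symm
    obtain ⟨cl, -, hker, hmul⟩ := O.exists_class hU.sec_inj
    have h1 := hmul 1 (O.sec 1)
    rw [pow_one, hβ, pow_one] at h1
    have h2 : (cl (O.sec 1)).toAdd = 0 := by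
      by_contra hne
      exact hζ1 ((mul_eq_right₀ hne).1 h1.symm)
    have h3 : O.sec 1 ∈ O.D := by
      rw [← hker, MonoidHom.mem_ker]
      exact Multiplicative.toAdd.injective (h2.trans toAdd_one.symm)
    exact one_ne_zero (hU.sec_inj 1 h3)
  -- proper subgroups are `p`-nilpotent
  have hprop : ∀ K : Subgroup G, K ≠ ⊤ → HasNormalPComplement p K := by
    intro K hK
    refine CfsgLib.Transfer.hasNormalPComplement_of_local default fun Q hQ g hg hgp => ?_
    have hQp : IsPGroup p Q := (default : Sylow p K).isPGroup'.to_le hQ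
    have hleft : ∀ v ∈ Q, (v : G).right = 1 := fun v hv => by
      obtain ⟨k, hk⟩ := hQp ⟨v, hv⟩
      have h1 : (v : G).right ^ p ^ k = 1 := by
        have h2 := congrArg (fun x : Q => SemidirectProduct.rightHom ((x : K) : G)) hk
        simp only [Subgroup.coe_pow, map_pow, Subgroup.coe_one, map_one] at h2
        exact h2
      have h2 := pow_gcd_eq_one.2 ⟨h1, hCord (v : G).right⟩
      rwa [hcopr k, pow_one] at h2
    by_cases hK1 : ∀ w ∈ K, φ0 w.right = 1
    · -- `g` lies in the kernel of the action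
      have hg1 : (g : G).left = 1 := by
        have hl : ∀ n : ℕ, ((g : G) ^ n).left = (g : G).left ^ n := by
          intro n
          induction n with
          | zero => simp
          | succ n ih =>
            rw [pow_succ, hmulL, ih, pow_succ]
            rw [show ((g : G) ^ n).right = (g : G).right ^ n from map_pow SemidirectProduct.rightHom _ n,
              map_pow, hK1 _ g.2, one_pow, MulAut.one_apply]
        have h2 : (g : G).left ^ orderOf g = 1 := by
          rw [← hl, ← Subgroup.coe_pow, pow_orderOf_eq_one]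
          rfl
        obtain ⟨k, hk⟩ := hPp (g : G).left
        have h3 := pow_gcd_eq_one.2 ⟨h2, hk⟩
        rwa [Nat.Coprime.pow_right k hgp, pow_one] at h3
      intro v hv
      refine Subtype.ext (SemidirectProduct.ext ?_ ?_)
      · show ((v : G) * (g : G)).left = ((g : G) * (v : G)).left
        rw [hmulL, hmulL, hleft v hv, hK1 _ g.2, map_one,
          MulAut.one_apply, MulAut.one_apply, hg1, mul_one, one_mul]
      · exact mul_comm _ _
    · -- an invariant subgroup of `P`
      push_neg at hK1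
      obtain ⟨w, hw, hw1⟩ := hK1
      set n := w.right.toAdd.val with hn
      have hqn : ¬ q ∣ n := fun ⟨k, hk⟩ => hw1 (by
        rw [hφ0, ← hn, hk, pow_mul, hU.pow_eq_one, one_pow])
      obtain ⟨m, -, hm⟩ : ∃ m, m < q ∧ (ζ ^ n) ^ m = ζ := by
        have h1 : orderOf (ζ ^ n) = q := by
          rw [orderOf_pow' _ (show n ≠ 0 from fun e => hqn (by rw [e]; exact dvd_zero q)), hζ,
            Nat.Coprime.gcd_eq_one ((hq.out.coprime_iff_not_dvd).2 hqn), Nat.div_one]
        exact (h1 ▸ IsPrimitiveRoot.orderOf (ζ ^ n)).eq_pow_of_pow_eq_one hζq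
      rcases O.invariant_dichotomy hgen hU.sec_inj hU.le_commutator
          (K.comap (SemidirectProduct.inl : P →* G)) hm w.left (fun v hv => by
          rw [mem_comap] at hv ⊢
          have e : (SemidirectProduct.inl (w.left * (O.β ^ n) v * w.left⁻¹) : G)
              = w * SemidirectProduct.inl v * w⁻¹ := by
            rw [eq_mul_inv_iff_mul_eq]
            refine SemidirectProduct.ext ?_ ?_
            · simp only [hmulL, SemidirectProduct.left_inl,
                SemidirectProduct.right_inl, map_one, MulAut.one_apply]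
              rw [hφ0, ← hn]
              group
            · simp [hmulR]
          rw [e]
          exact mul_mem (mul_mem hw hv) (inv_mem hw)) with hR | hR
      · -- then `K` is everything
        exfalso
        refine hK (eq_top_iff.2 fun x _ => ?_)
        have hinl : ∀ v : P, (SemidirectProduct.inl v : G) ∈ K := fun v => by
          have : v ∈ K.comap (SemidirectProduct.inl : P →* G) := hR ▸ Subgroup.mem_top v
          exact this
        have hinr : (SemidirectProduct.inr w.right : G) ∈ K := by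
          have h := mul_mem (inv_mem (hinl w.left)) hw
          nth_rw 2 [← SemidirectProduct.inl_left_mul_inr_right w] at h
          rwa [inv_mul_cancel_left] at h
        obtain ⟨j, hj⟩ : ∃ j : ℕ, w.right ^ j = x.right := by
          have hcop : Nat.Coprime n (q ^ r) :=
            Nat.Coprime.pow_right r ((hq.out.coprime_iff_not_dvd).2 hqn).symm
          refine ⟨((ZMod.unitOfCoprime n hcop)⁻¹ : (ZMod (q ^ r))ˣ).val.val * x.right.toAdd.val, ?_⟩
          apply Multiplicative.toAdd.injective
          rw [toAdd_pow, nsmul_eq_mul, Nat.cast_mul, ZMod.natCast_zmod_val, ZMod.natCast_zmod_val,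
            mul_right_comm]
          conv_lhs => arg 1; arg 2; rw [← ZMod.natCast_zmod_val w.right.toAdd]
          rw [← hn, ← ZMod.coe_unitOfCoprime n hcop, Units.inv_mul, one_mul]
        rw [← SemidirectProduct.inl_left_mul_inr_right x, ← hj, map_pow]
        exact mul_mem (hinl _) (pow_mem hinr j)
      · -- `p`-elements of `K` are central
        intro v hv
        have hvc : (v : G) ∈ center G := by
          rw [← SemidirectProduct.inl_left_mul_inr_right (v : G), hleft v hv, map_one, mul_one]
          refine hDcen _ (hR ?_)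
          rw [mem_comap]
          have h := v.2
          rw [← SemidirectProduct.inl_left_mul_inr_right (v : G), hleft v hv, map_one, mul_one] at h
          exact h
        exact Subtype.ext (mem_center_iff.1 hvc g).symm
  refine ⟨ULift.{u} G, inferInstance, inferInstance, ⟨fun h => ?_, fun K hK => ?_⟩,
    by rw [Nat.card_congr Equiv.ulift, hcardG], ?_⟩
  · exact hnot ((CfsgLib.Transfer.hasNormalPComplement_congr MulEquiv.ulift).1 h)
  · let e : ULift.{u} G ≃* G := MulEquiv.ulift
    have hne : K.map e.toMonoidHom ≠ ⊤ := fun h => hK (by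
      rw [← K.comap_map_eq_self_of_injective (f := e.toMonoidHom) e.injective, h, comap_top])
    exact CfsgLib.Transfer.hasNormalPComplement_of_injective (hprop _ hne)
      (K.equivMapOfInjective e.toMonoidHom e.injective).toMonoidHom
      (K.equivMapOfInjective e.toMonoidHom e.injective).injective
  intro X _ _ ⟨hnc, hK⟩ ⟨t, ht⟩
  obtain ⟨Q, _, g, hQp, hg, htop, hdisj, hb1, hbq, hfix⟩ := exists_kernel hpq hr hnc hK ht
  obtain ⟨i, O₂, hqi, hβ₂, hD₂⟩ := exists_orbit hpq hζ hgen hQp hbq hb1 hfix
  obtain ⟨ψ, hψ, hψβ⟩ := O.exists_hom O₂ hζ1 hU.le_commutator hD₂ hU.card_eq fun R OR => hU.bound R OR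
  have hgq : g ^ (q ^ r) = 1 := hg ▸ pow_orderOf_eq_one g
  let θ : Multiplicative (ZMod (q ^ r)) →* X :=
    { toFun := fun c => (g ^ i) ^ c.toAdd.val
      map_one' := by simp
      map_mul' := fun c d => by
        rw [← pow_add, toAdd_mul, ZMod.val_add]
        exact (pow_eq_pow_mod _ (by rw [← pow_mul, mul_comm, pow_mul, hgq, one_pow])).symm }
  have hψn : ∀ (n : ℕ) u, ψ ((O.β ^ n) u) = (O₂.β ^ n) (ψ u) := by
    intro n
    induction n with
    | zero => intro u; rfl
    | succ n ih => intro u; rw [pow_succ', pow_succ', MulAut.mul_apply, MulAut.mul_apply, hψβ, ih]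
  let φ : G →* X := SemidirectProduct.lift (Q.subtype.comp ψ) θ fun c => MonoidHom.ext fun u => by
    show ((ψ (φ0 c u) : Q) : X) = (g ^ i) ^ c.toAdd.val * (ψ u : X) * ((g ^ i) ^ c.toAdd.val)⁻¹
    rw [hφ0, hψn, hβ₂, ← map_pow, ← map_pow, MulAut.conjNormal_apply]
  have hφl : ∀ v, φ (SemidirectProduct.inl v) = ψ v := fun v => SemidirectProduct.lift_inl _ _ _ v
  have hgi : orderOf (g ^ i) = q ^ r := by
    rw [orderOf_pow' _ (show i ≠ 0 from fun e => hqi (by rw [e]; exact dvd_zero q)), hg,
      Nat.Coprime.gcd_eq_one (Nat.Coprime.pow_left r ((hq.out.coprime_iff_not_dvd).2 hqi)), Nat.div_one]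
  have hsurj : φ.range = ⊤ := by
    rw [eq_top_iff, ← htop, sup_le_iff]
    refine ⟨fun v hv => ?_, ?_⟩
    · obtain ⟨u, hu⟩ := hψ ⟨v, hv⟩
      exact ⟨SemidirectProduct.inl u, (hφl u).trans (congrArg Subtype.val hu)⟩
    · have h1 : g ^ i ∈ φ.range := by
        refine ⟨SemidirectProduct.inr (Multiplicative.ofAdd (1 : ZMod (q ^ r))), ?_⟩
        rw [SemidirectProduct.lift_inr]
        show (g ^ i) ^ (1 : ZMod (q ^ r)).val = g ^ i
        rw [ZMod.val_one_eq_one_mod, Nat.mod_eq_of_lt (Nat.one_lt_pow (by omega) hq.out.one_lt), pow_one]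
      have h2 : zpowers (g ^ i) = zpowers g :=
        eq_of_le_of_card_ge (zpowers_le.2 (pow_mem (mem_zpowers g) i))
          (by rw [Nat.card_zpowers, Nat.card_zpowers, hgi, hg])
      rw [← h2]
      exact zpowers_le.2 h1
  have hker : φ.ker ≤ center G := by
    intro w hw
    rw [MonoidHom.mem_ker] at hw
    have he : φ w = (ψ w.left : X) * (g ^ i) ^ w.right.toAdd.val := rfl
    rw [he] at hw
    have hr1 : (g ^ i) ^ w.right.toAdd.val = 1 := by
      refine disjoint_def.1 hdisj ?_ (pow_mem (pow_mem (mem_zpowers g) i) _)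
      rw [show (g ^ i) ^ w.right.toAdd.val = (ψ w.left : X)⁻¹ from eq_inv_of_mul_eq_one_right hw]
      exact inv_mem (ψ w.left).2
    have hr2 : w.right = 1 := by
      have h1 := orderOf_dvd_of_pow_eq_one hr1
      rw [hgi] at h1
      have h2 : w.right.toAdd.val = 0 := Nat.eq_zero_of_dvd_of_lt h1 (ZMod.val_lt _)
      rw [ZMod.val_eq_zero] at h2
      exact Multiplicative.toAdd.injective (h2.trans toAdd_one.symm)
    rw [hr1, mul_one] at hw
    rcases O.invariant_dichotomy hgen hU.sec_inj hU.le_commutator ψ.ker (n := 1) (m := 1)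
        (by simp) 1 (fun v hv => by
          rw [MonoidHom.mem_ker] at hv
          rw [one_mul, inv_one, mul_one, pow_one, MonoidHom.mem_ker, hψβ, hv, map_one]) with hk | hk
    · exfalso
      refine hb1 (MulEquiv.ext fun v => ?_)
      obtain ⟨u, rfl⟩ := hψ v
      have : u ∈ ψ.ker := hk ▸ Subgroup.mem_top u
      rw [MonoidHom.mem_ker.1 this, map_one, map_one]
    · rw [← SemidirectProduct.inl_left_mul_inr_right w, hr2, map_one, mul_one]
      exact hDcen _ (hk (MonoidHom.mem_ker.2 (Subtype.ext hw)))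
  refine ⟨φ.comp (MulEquiv.ulift : ULift.{u} G ≃* G).toMonoidHom,
    (MonoidHom.range_eq_top.1 hsurj).comp (MulEquiv.ulift : ULift.{u} G ≃* G).surjective, ?_⟩
  intro w hw
  have h := mem_center_iff.1 (hker (show MulEquiv.ulift w ∈ φ.ker from hw))
  exact mem_center_iff.2 fun x => MulEquiv.ulift.injective (by rw [map_mul, map_mul]; exact h _)

end CfsgLib.FGS74.Schmidt
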