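import Mathlib
import Cfsg.Agent.FGS74.SchmidtOrbit

/-!
# The maximal Schmidt `p`-groups

Over `F = GF(p^a)`, `a` the order of `p` modulo the prime `q`: for odd `a` the additive group of
`F`, for even `a` the unitary Heisenberg group `{(u, z) : z + σ z = u σ u}`.
-/

set_option autoImplicit false

namespace CfsgLib.FGS74.Schmidt

open scoped commutatorElement

universe u

variable {F : Type} [Field F]

/-- The unitary Heisenberg group of an involution `σ`. -/
@[ext]
structure Heis (σ : F →+* F) (hσ2 : ∀ c, σ (σ c) = c) where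
  u : F
  z : F
  cond : z + σ z = u * σ u

namespace Heis

variable {σ : F →+* F} {hσ2 : ∀ c, σ (σ c) = c}

instance : Mul (Heis σ hσ2) :=
  ⟨fun a b => ⟨a.u + b.u, a.z + b.z + a.u * σ b.u, by
    simp only [map_add, map_mul, hσ2]
    linear_combination a.cond + b.cond⟩⟩

instance : One (Heis σ hσ2) := ⟨⟨0, 0, by simp⟩⟩

instance : Inv (Heis σ hσ2) :=
  ⟨fun a => ⟨-a.u, -a.z + a.u * σ a.u, by
    simp only [map_add, map_mul, map_neg, hσ2]
    linear_combination -a.cond⟩⟩

theorem mul_u (a b : Heis σ hσ2) : (a * b).u = a.u + b.u := rfl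
theorem mul_z (a b : Heis σ hσ2) : (a * b).z = a.z + b.z + a.u * σ b.u := rfl
theorem one_u : (1 : Heis σ hσ2).u = 0 := rfl
theorem one_z : (1 : Heis σ hσ2).z = 0 := rfl
theorem inv_u (a : Heis σ hσ2) : a⁻¹.u = -a.u := rfl
theorem inv_z (a : Heis σ hσ2) : a⁻¹.z = -a.z + a.u * σ a.u := rfl

instance : Group (Heis σ hσ2) where
  mul_assoc a b c := by ext <;> simp only [mul_u, mul_z, map_add] <;> ring
  one_mul a := by ext <;> simp [mul_u, mul_z, one_u, one_z]
  mul_one a := by ext <;> simp [mul_u, mul_z, one_u, one_z]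
  inv_mul_cancel a := by
    ext <;> simp only [mul_u, mul_z, one_u, one_z, inv_u, inv_z] <;> ring

instance [Finite F] : Finite (Heis σ hσ2) :=
  Finite.of_injective (fun a => (a.u, a.z)) fun a b h => by
    ext
    exacts [congrArg Prod.fst h, congrArg Prod.snd h]

theorem pow_u (a : Heis σ hσ2) (n : ℕ) : (a ^ n).u = n • a.u := by
  induction n with
  | zero => simp [one_u]
  | succ n ih => rw [pow_succ, mul_u, ih, succ_nsmul]

theorem pow_z (a : Heis σ hσ2) (h : a.u = 0) (n : ℕ) : (a ^ n).z = n • a.z := by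
  induction n with
  | zero => simp [one_z]
  | succ n ih => rw [pow_succ, mul_z, ih, pow_u, h, succ_nsmul]; simp

/-- The elements over `0`. -/
def vert (σ : F →+* F) (hσ2 : ∀ c, σ (σ c) = c) : Subgroup (Heis σ hσ2) where
  carrier := {a | a.u = 0}
  one_mem' := rfl
  mul_mem' := fun {a b} ha hb => by
    show a.u + b.u = 0
    rw [show a.u = 0 from ha, show b.u = 0 from hb, add_zero]
  inv_mem' := fun {a} ha => by
    show -a.u = 0
    rw [show a.u = 0 from ha, neg_zero]

/-- Multiplication by `ζ`, with `ζ σ ζ = 1`. -/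
def scale {ζ : F} (hσ : ζ * σ ζ = 1) : MulAut (Heis σ hσ2) where
  toFun a := ⟨ζ * a.u, a.z, by rw [map_mul]; linear_combination a.cond - a.u * σ a.u * hσ⟩
  invFun a := ⟨σ ζ * a.u, a.z, by rw [map_mul, hσ2]; linear_combination a.cond - a.u * σ a.u * hσ⟩
  left_inv a := by
    ext
    · show σ ζ * (ζ * a.u) = a.u
      linear_combination a.u * hσ
    · rfl
  right_inv a := by
    ext
    · show ζ * (σ ζ * a.u) = a.u
      linear_combination a.u * hσ
    · rfl
  map_mul' a b := by
    ext
    · show ζ * (a.u + b.u) = ζ * a.u + ζ * b.u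
      ring
    · show a.z + b.z + a.u * σ b.u = a.z + b.z + ζ * a.u * σ (ζ * b.u)
      rw [map_mul]
      linear_combination -(a.u * σ b.u) * hσ

theorem vert_central {d : Heis σ hσ2} (hd : d.u = 0) (w : Heis σ hσ2) : w * d = d * w := by
  ext <;> simp [mul_u, mul_z, hd, add_comm]

theorem commutator_u (a b : Heis σ hσ2) : (a * b * a⁻¹ * b⁻¹).u = 0 := by
  simp only [mul_u, inv_u]
  ring

theorem scale_pow_u {ζ : F} (hσ : ζ * σ ζ = 1) (a : Heis σ hσ2) (n : ℕ) :
    ((scale (hσ2 := hσ2) hσ ^ n) a).u = ζ ^ n * a.u ∧ ((scale (hσ2 := hσ2) hσ ^ n) a).z = a.z := by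
  induction n with
  | zero => simp
  | succ n ih =>
    rw [pow_succ', MulAut.mul_apply]
    refine ⟨?_, ih.2⟩
    show ζ * _ = _
    rw [ih.1]; ring

end Heis

/-- A finite field of order `p^a` is generated by an element of multiplicative order `q`, `a` the
order of `p` modulo `q`. -/
theorem generates_of_orderOf [Finite F] {p q a : ℕ} [hp : Fact p.Prime] [CharP F p] {ζ : F}
    (hζ : orderOf ζ = q) (ha : a = orderOf (p : ZMod q)) (hcard : Nat.card F = p ^ a) (hq : 0 < q) :
    Generates ζ := by
  intro S hS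
  classical
  haveI : Fintype S := Fintype.ofFinite S
  letI : Field S := Fintype.fieldOfDomain S
  haveI : CharP S p := inferInstance
  obtain ⟨⟨d, hd0⟩, -, hd⟩ := FiniteField.card S p
  have hζ0 : ζ ≠ 0 := fun e => by
    rw [e, orderOf_zero] at hζ
    omega
  have h1 : ζ ^ (p ^ d) = ζ := by
    have h := congrArg Subtype.val (FiniteField.pow_card (⟨ζ, hS⟩ : S))
    rw [hd] at h
    simpa using h
  have h2 : ζ ^ (p ^ d - 1) = 1 := by
    have hpos : 0 < p ^ d := pow_pos hp.out.pos d
    rw [show p ^ d = (p ^ d - 1) + 1 by omega, pow_succ] at h1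
    exact mul_eq_right₀ hζ0 |>.1 h1
  have h3 : q ∣ p ^ d - 1 := hζ ▸ orderOf_dvd_of_pow_eq_one h2
  have h4 : a ∣ d := by
    rw [ha]
    refine orderOf_dvd_of_pow_eq_one ?_
    rw [← Nat.cast_pow, ← sub_eq_zero, ← Nat.cast_one, ← Nat.cast_sub (Nat.one_le_pow _ _ hp.out.pos),
      ZMod.natCast_eq_zero_iff]
    exact h3
  refine SetLike.coe_injective (Set.eq_univ_of_forall fun x => ?_)
  have hle : Nat.card F ≤ Nat.card S := by
    rw [hcard, Nat.card_eq_fintype_card, hd]
    exact Nat.pow_le_pow_right hp.out.pos (Nat.le_of_dvd hd0 h4)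
  have hbij : Function.Bijective ((↑) : S → F) :=
    (Nat.bijective_iff_injective_and_card _).2
      ⟨Subtype.val_injective, le_antisymm (Nat.card_le_card_of_injective _ Subtype.val_injective) hle⟩
  obtain ⟨y, rfl⟩ := hbij.2 x
  exact y.2

/-- In odd degree every form vanishes. -/
theorem form_eq_one_of_odd [Finite F] {p q a : ℕ} [hp : Fact p.Prime] [CharP F p] [Algebra (ZMod p) F]
    [hq : Fact q.Prime] {ζ : F} (hζ : orderOf ζ = q) (hgen : Generates ζ)
    (ha : a = orderOf (p : ZMod q)) (hcard : Nat.card F = p ^ a) (hodd : a % 2 = 1)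
    {P : Type u} [Group P] (O : Orbit p ζ P) (c d : F) : O.form c d = 1 := by
  have hζ0 : ζ ≠ 0 := fun e => by
    rw [e, orderOf_zero] at hζ
    exact hq.out.ne_zero hζ.symm
  by_cases hroot : Polynomial.aeval ζ⁻¹ (minpoly (ZMod p) ζ) = 0
  swap
  · exact O.form_eq_one_of_minpoly hroot hζ0 c d
  -- an automorphism inverting `ζ`
  have hint : IsIntegral (ZMod p) ζ := IsIntegral.of_finite (ZMod p) ζ
  have hconj : IsConjRoot (ZMod p) ζ⁻¹ ζ := by
    show minpoly (ZMod p) ζ⁻¹ = minpoly (ZMod p) ζ
    exact (minpoly.eq_of_irreducible_of_monic (minpoly.irreducible hint) hroot (minpoly.monic hint)).symm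
  obtain ⟨σ, hσ⟩ := IsConjRoot.exists_algEquiv hconj
  have hσ2 : σ * σ = 1 := by
    refine AlgEquiv.ext fun x => ?_
    have h := hgen (RingHom.eqLocus ((σ * σ).toRingEquiv.toRingHom) (RingHom.id F)) (by
      show σ (σ ζ) = ζ
      rw [hσ, map_inv₀, hσ, inv_inv])
    exact (h ▸ Subring.mem_top x : x ∈ RingHom.eqLocus ((σ * σ).toRingEquiv.toRingHom) (RingHom.id F))
  have hσ1 : σ = 1 := by
    by_contra hne
    have h2 : orderOf σ = 2 := orderOf_eq_prime (by rw [pow_two, hσ2]) hne
    have h3 : orderOf σ ∣ a := by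
      refine (orderOf_dvd_natCard σ).trans (dvd_of_eq ?_)
      rw [IsGalois.card_aut_eq_finrank]
      have h4 := Module.natCard_eq_pow_finrank (K := ZMod p) (V := F)
      rw [hcard, Nat.card_zmod] at h4
      exact (Nat.pow_right_injective hp.out.two_le h4).symm
    rw [h2] at h3
    omega
  have hζ2 : ζ * ζ = 1 := by
    have h : ζ = ζ⁻¹ := by
      rw [hσ1] at hσ
      first
        | exact hσ
        | exact hσ.symm
    conv_lhs => rw [h]
    rw [← mul_inv, inv_eq_one]
    nth_rw 2 [h]
    exact mul_inv_cancel₀ hζ0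
  -- then `F` is the prime field
  have hprime : ∀ x : F, ∃ n : ℕ, x = n := by
    have h1 : ζ = 1 ∨ ζ = -1 := mul_self_eq_one_iff.1 hζ2
    intro x
    let R : Subring F :=
      { carrier := {x | ∃ n : ℕ, x = n}
        one_mem' := ⟨1, by simp⟩
        zero_mem' := ⟨0, by simp⟩
        mul_mem' := by rintro _ _ ⟨m, rfl⟩ ⟨n, rfl⟩; exact ⟨m * n, by simp⟩
        add_mem' := by rintro _ _ ⟨m, rfl⟩ ⟨n, rfl⟩; exact ⟨m + n, by simp⟩
        neg_mem' := by
          rintro _ ⟨m, rfl⟩
          refine ⟨(p - 1) * m, ?_⟩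
          rw [Nat.cast_mul, Nat.cast_sub hp.out.one_le, CharP.cast_eq_zero F p]
          simp }
    have h2 : ζ ∈ R := by
      rcases h1 with h | h
      · rw [h]; exact one_mem R
      · rw [h]; exact neg_mem (one_mem R)
    exact (hgen R h2 ▸ Subring.mem_top x : x ∈ R)
  obtain ⟨m, rfl⟩ := hprime c
  obtain ⟨n, rfl⟩ := hprime d
  have h1 : O.form 1 (n : F) = 1 := by
    induction n with
    | zero => rw [Nat.cast_zero, O.form_zero_right]
    | succ n ih => rw [Nat.cast_succ, O.form_add_right, ih, O.form_self, one_mul]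
  induction m with
  | zero => rw [Nat.cast_zero, O.form_zero_left]
  | succ m ih => rw [Nat.cast_succ, O.form_add_left, ih, h1, one_mul]

/-- The abelian orbit group. -/
def additiveOrbit (p : ℕ) [CharP F p] (ζ : F) (hζ : ζ ≠ 0) : Orbit p ζ (Multiplicative F) where
  β := AddEquiv.toMultiplicative (AddEquiv.mk' (Equiv.mulLeft₀ ζ hζ) fun c d => mul_add ζ c d)
  D := ⊥
  central := bot_le
  fixed := fun d hd => by rw [Subgroup.mem_bot.1 hd]; exact map_one _
  exp_p := fun d hd => by rw [Subgroup.mem_bot.1 hd, one_pow]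
  comm := fun u v => by
    rw [Subgroup.mem_bot, commutatorElement_eq_one_iff_mul_comm]
    exact mul_comm u v
  pow_mem := fun u => by
    rw [Subgroup.mem_bot]
    show Multiplicative.ofAdd (p • u.toAdd) = 1
    rw [nsmul_eq_mul, CharP.cast_eq_zero F p, zero_mul]
    rfl
  sec := Multiplicative.ofAdd
  sec_add := fun c d => by rw [Subgroup.mem_bot, inv_mul_eq_one]; rfl
  sec_mul := fun c => by rw [Subgroup.mem_bot, inv_mul_eq_one]; rfl
  sec_surj := fun u => ⟨u.toAdd, by rw [Subgroup.mem_bot, ofAdd_toAdd, inv_mul_cancel]⟩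

theorem additiveOrbit_pow (p : ℕ) [CharP F p] (ζ : F) (hζ : ζ ≠ 0) (n : ℕ) (u : Multiplicative F) :
    ((additiveOrbit p ζ hζ).β ^ n) u = Multiplicative.ofAdd (ζ ^ n * u.toAdd) := by
  induction n with
  | zero => simp
  | succ n ih =>
    rw [pow_succ', MulAut.mul_apply, ih]
    show Multiplicative.ofAdd (ζ * (ζ ^ n * u.toAdd)) = _
    congr 1
    ring

/-- The specification of the universal orbit group. -/
structure IsUniversal (p q : ℕ) {ζ : F} {P : Type} [Group P] (O : Orbit p ζ P) (N : ℕ) : Prop where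
  le_commutator : O.D ≤ commutator P
  sec_inj : ∀ c, O.sec c ∈ O.D → c = 0
  pow_eq_one : O.β ^ q = 1
  card_eq : Nat.card P = Nat.card F * N
  bound : ∀ (Q : Type u) [Group Q], Orbit p ζ Q → Nat.card (commutator Q) ≤ N

theorem exists_universal (p q a : ℕ) [hp : Fact p.Prime] [hq : Fact q.Prime] (hpq : p ≠ q)
    (ha : a = orderOf (p : ZMod q)) :
    ∃ (F : Type) (_ : Field F) (_ : Finite F) (_ : CharP F p) (ζ : F) (P : Type) (_ : Group P)
      (_ : Finite P) (O : Orbit p ζ P) (N : ℕ),
      orderOf ζ = q ∧ Generates ζ ∧ Nat.card F = p ^ a ∧ IsUniversal.{u} p q O N ∧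
        Nat.card F * N = p ^ (if a % 2 = 1 then a else 3 * a / 2) := by
  have hp0 : (p : ZMod q) ≠ 0 := by
    rw [Ne, ZMod.natCast_eq_zero_iff]
    intro h
    exact hpq ((Nat.prime_dvd_prime_iff_eq hq.out hp.out).1 h).symm
  have hpa : ((p : ℕ) : ZMod q) ^ a = 1 := ha ▸ pow_orderOf_eq_one _
  have ha0 : a ≠ 0 := by
    rw [ha, Ne, orderOf_eq_zero_iff', not_forall]
    refine ⟨q - 1, ?_⟩
    rw [Classical.not_imp, not_not]
    exact ⟨by have := hq.out.two_le; omega, ZMod.pow_card_sub_one_eq_one hp0⟩
  let F := GaloisField p a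
  haveI : Finite F := Nat.finite_of_card_ne_zero (by
    rw [GaloisField.card p a ha0]; exact pow_ne_zero _ hp.out.ne_zero)
  have hF : Nat.card F = p ^ a := GaloisField.card p a ha0
  obtain ⟨ζu, hζu⟩ : ∃ z : Fˣ, orderOf z = q := by
    refine exists_prime_orderOf_dvd_card' q ?_
    rw [Nat.card_units, hF, ← ZMod.natCast_eq_zero_iff, Nat.cast_sub (Nat.one_le_pow _ _ hp.out.pos),
      Nat.cast_pow, hpa, Nat.cast_one, sub_self]
  set ζ : F := (ζu : F)
  have hζ : orderOf ζ = q := by rw [orderOf_units, hζu]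
  have hζ0 : ζ ≠ 0 := ζu.ne_zero
  have hζq : ζ ^ q = 1 := hζ ▸ pow_orderOf_eq_one ζ
  have hgen : Generates ζ := generates_of_orderOf hζ ha hF hq.out.pos
  rcases Nat.mod_two_eq_zero_or_one a with hev | hod
  · -- even degree
    obtain ⟨h, rfl⟩ : ∃ h, a = 2 * h := ⟨a / 2, by omega⟩
    have hh0 : 0 < h := Nat.pos_of_ne_zero (by omega)
    haveI : ExpChar F p := ExpChar.prime hp.out
    let σ : F →+* F := iterateFrobenius F p h
    have hσa : ∀ c, σ c = c ^ p ^ h := fun c => iterateFrobenius_def p h c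
    have hσ2 : ∀ c, σ (σ c) = c := by
      intro c
      rw [hσa, hσa, ← pow_mul, ← pow_add, ← two_mul, ← hF]
      letI := Fintype.ofFinite F
      rw [Nat.card_eq_fintype_card]
      exact FiniteField.pow_card c
    have hσ : ζ * σ ζ = 1 := by
      rw [hσa, ← pow_succ', ← orderOf_dvd_iff_pow_eq_one, hζ, ← ZMod.natCast_eq_zero_iff,
        Nat.cast_add, Nat.cast_pow, Nat.cast_one]
      have hsq : ((p : ZMod q) ^ h) * ((p : ZMod q) ^ h) = 1 := by rw [← pow_add, ← two_mul, hpa]
      rcases mul_self_eq_one_iff.1 hsq with h1 | h1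
      · exfalso
        have h2 := orderOf_dvd_of_pow_eq_one h1
        rw [← ha] at h2
        have := Nat.le_of_dvd hh0 h2
        omega
      · rw [h1, neg_add_cancel]
    -- the kernel of `1 + σ` and the fixed field
    let T : F →+ F := AddMonoidHom.id F + σ.toAddMonoidHom
    let U : F →+ F := AddMonoidHom.id F - σ.toAddMonoidHom
    have hroots : ∀ s : F, ∀ G : AddSubgroup F, (∀ c ∈ G, c ^ p ^ h = s * c) → Nat.card G ≤ p ^ h := by
      intro s G hG
      classical
      let P₀ : Polynomial F := Polynomial.X ^ p ^ h - Polynomial.C s * Polynomial.X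
      have hdeg : P₀.natDegree = p ^ h := by
        refine (Polynomial.natDegree_sub_eq_left_of_natDegree_lt ?_).trans (Polynomial.natDegree_X_pow _)
        rw [Polynomial.natDegree_X_pow]
        exact lt_of_le_of_lt ((Polynomial.natDegree_C_mul_le s _).trans Polynomial.natDegree_X_le)
          (Nat.one_lt_pow hh0.ne' hp.out.one_lt)
      have hP0 : P₀ ≠ 0 := fun e => by
        rw [e, Polynomial.natDegree_zero] at hdeg
        exact (pow_pos hp.out.pos h).ne hdeg
      letI := Fintype.ofFinite G
      have hsub : (Finset.univ.image (fun c : G => (c : F))) ⊆ P₀.roots.toFinset := by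
        intro c hc
        obtain ⟨⟨c, hcG⟩, -, rfl⟩ := Finset.mem_image.1 hc
        rw [Multiset.mem_toFinset, Polynomial.mem_roots hP0]
        simp [P₀, hG c hcG]
      have h1 := Finset.card_le_card hsub
      rw [Finset.card_image_of_injective _ Subtype.val_injective, Finset.card_univ,
        ← Nat.card_eq_fintype_card] at h1
      exact h1.trans ((Multiset.toFinset_card_le _).trans (hdeg ▸ Polynomial.card_roots' P₀))
    have hkT : ∀ c, c ∈ T.ker ↔ c + σ c = 0 := fun c => Iff.rfl
    have hkU : ∀ c, c ∈ U.ker ↔ c - σ c = 0 := fun c => Iff.rfl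
    have hTle : Nat.card T.ker ≤ p ^ h := hroots (-1) _ fun c hc => by
      have := (hkT c).1 hc
      rw [hσa] at this
      linear_combination this
    have hUle : Nat.card U.ker ≤ p ^ h := hroots 1 _ fun c hc => by
      have := (hkU c).1 hc
      rw [hσa] at this
      linear_combination -this
    have hTr : T.range ≤ U.ker := by
      rintro _ ⟨c, rfl⟩
      rw [hkU]
      show c + σ c - σ (c + σ c) = 0
      rw [map_add, hσ2]; ring
    have hUr : U.range ≤ T.ker := by
      rintro _ ⟨c, rfl⟩
      rw [hkT]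
      show c - σ c + σ (c - σ c) = 0
      rw [map_sub, hσ2]; ring
    have hcT : Nat.card T.ker * Nat.card T.range = p ^ h * p ^ h := by
      rw [← AddSubgroup.index_ker, AddSubgroup.card_mul_index, hF, ← pow_add, two_mul]
    have hcU : Nat.card U.ker * Nat.card U.range = p ^ h * p ^ h := by
      rw [← AddSubgroup.index_ker, AddSubgroup.card_mul_index, hF, ← pow_add, two_mul]
    have hTr' : Nat.card T.range ≤ p ^ h :=
      (Nat.le_of_dvd Nat.card_pos (AddSubgroup.card_dvd_of_le hTr)).trans hUle
    have hkerT : Nat.card T.ker = p ^ h := by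
      refine le_antisymm hTle (Nat.le_of_mul_le_mul_right (c := p ^ h) ?_ (pow_pos hp.out.pos h))
      rw [← hcT]
      exact Nat.mul_le_mul_left _ hTr'
    have hUeq : U.range = T.ker := by
      refine AddSubgroup.eq_of_le_of_card_ge hUr ?_
      rw [hkerT]
      refine Nat.le_of_mul_le_mul_left (a := p ^ h) ?_ (pow_pos hp.out.pos h)
      rw [← hcU]
      exact Nat.mul_le_mul_right _ hUle
    obtain ⟨θ, hθ⟩ : ∃ θ, θ + σ θ ≠ 0 := by
      by_contra! hall
      have h1 : Nat.card F ≤ Nat.card T.ker :=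
        Nat.card_le_card_of_injective (fun c => (⟨c, (hkT c).2 (hall c)⟩ : T.ker))
          fun c d e => congrArg Subtype.val e
      rw [hF, hkerT] at h1
      have := Nat.pow_lt_pow_right hp.out.one_lt (show h < 2 * h by omega)
      omega
    let zf : F → F := fun c => θ * (c * σ c) / (θ + σ θ)
    have hzf : ∀ c, zf c + σ (zf c) = c * σ c := by
      intro c
      have e1 : σ (zf c) = σ θ * (σ c * c) / (σ θ + θ) := by
        simp only [zf, map_div₀, map_mul, map_add, hσ2]
      rw [e1]
      simp only [zf]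
      rw [add_comm (σ θ) θ, ← add_div, eq_comm, eq_div_iff hθ]
      ring
    let P := Heis σ hσ2
    let O : Orbit p ζ P :=
      { β := Heis.scale hσ
        D := Heis.vert σ hσ2
        central := fun d hd => Subgroup.mem_center_iff.2 fun w => by
          exact Heis.vert_central hd w
        fixed := fun d hd => by
          have hd' : d.u = 0 := hd
          ext
          · show ζ * d.u = d.u
            rw [hd', mul_zero]
          · rfl
        exp_p := fun d hd => by
          ext
          · rw [Heis.pow_u, Heis.one_u, nsmul_eq_mul, CharP.cast_eq_zero F p, zero_mul]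
          · rw [Heis.pow_z d hd, Heis.one_z, nsmul_eq_mul, CharP.cast_eq_zero F p, zero_mul]
        comm := fun u v => by
          show (⁅u, v⁆ : P).u = 0
          rw [commutatorElement_def]
          exact Heis.commutator_u u v
        pow_mem := fun u => by
          show (u ^ p).u = 0
          rw [Heis.pow_u, nsmul_eq_mul, CharP.cast_eq_zero F p, zero_mul]
        sec := fun c => ⟨c, zf c, hzf c⟩
        sec_add := fun c d => by
          show -(c + d) + (c + d) = 0
          ring
        sec_mul := fun c => by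
          show -(ζ * c) + ζ * c = 0
          ring
        sec_surj := fun w => ⟨w.u, by show -w.u + w.u = 0; ring⟩ }
    refine ⟨F, inferInstance, inferInstance, inferInstance, ζ, P, inferInstance, inferInstance, O,
      p ^ h, hζ, hgen, hF, ⟨?_, ?_, ?_, ?_, ?_⟩, ?_⟩
    · intro d hd
      have hd' : d.u = 0 := hd
      have hdc : d.z ∈ T.ker := by
        rw [hkT, d.cond, hd', zero_mul]
      rw [← hUeq] at hdc
      obtain ⟨w, hw⟩ := hdc
      have hw' : w - σ w = d.z := hw
      have heq : O.sec w * O.sec 1 = d * (O.sec 1 * O.sec w) := by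
        ext
        · show w + 1 = d.u + (1 + w)
          rw [hd', zero_add, add_comm]
        · show zf w + zf 1 + w * σ 1 = d.z + (zf 1 + zf w + 1 * σ w) + d.u * σ (1 + w)
          rw [hd', map_one]
          linear_combination hw'
      have : d = ⁅O.sec w, O.sec 1⁆ := by
        rw [commutatorElement_def, heq]
        group
      rw [this]
      exact Subgroup.commutator_mem_commutator (Subgroup.mem_top _) (Subgroup.mem_top _)
    · intro c hc
      exact hc
    · refine MulEquiv.ext fun w => ?_
      obtain ⟨h1, h2⟩ := Heis.scale_pow_u (hσ2 := hσ2) hσ w q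
      rw [MulAut.one_apply]
      ext
      · rw [h1, hζq, one_mul]
      · exact h2
    · rw [show Nat.card F * p ^ h = Nat.card (F × T.ker) by rw [Nat.card_prod, hkerT]]
      refine Nat.card_congr
        { toFun := fun w => (w.u, ⟨w.z - zf w.u, (hkT _).2 (by
            rw [map_sub]; linear_combination w.cond - hzf w.u)⟩)
          invFun := fun x => ⟨x.1, zf x.1 + x.2, by
            rw [map_add]; linear_combination hzf x.1 + (hkT _).1 x.2.2⟩
          left_inv := fun w => by ext <;> simp
          right_inv := fun x => by ext <;> simp }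
    · intro Q _ O'
      haveI : Finite F := inferInstance
      refine (O'.card_commutator_le hgen σ hσ hσ2).trans (le_of_eq ?_)
      rw [← hkerT]
      exact Nat.card_congr (Equiv.refl _)
    · rw [hF, ← pow_add, if_neg (by omega)]
      congr 1
      omega
  · -- odd degree
    refine ⟨F, inferInstance, inferInstance, inferInstance, ζ, Multiplicative F, inferInstance,
      inferInstance, additiveOrbit p ζ hζ0, 1, hζ, hgen, hF, ⟨bot_le, ?_, ?_, ?_, ?_⟩, ?_⟩
    · intro c hc
      exact Multiplicative.ofAdd.injective (Subgroup.mem_bot.1 hc)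
    · refine MulEquiv.ext fun w => ?_
      rw [additiveOrbit_pow, hζq, one_mul, ofAdd_toAdd, MulAut.one_apply]
    · rw [mul_one]
      exact Nat.card_congr Multiplicative.toAdd
    · intro Q _ O'
      rw [O'.commutator_eq_bot (form_eq_one_of_odd hζ hgen ha hF hod O'), Subgroup.card_bot]
    · rw [hF, mul_one, if_pos hod]

end CfsgLib.FGS74.Schmidt
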