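import Cfsg.Agent.S4400
import Cfsg.Agent.HallHigman.MinimalAction
import Cfsg.Agent.TwoGroupsQ.UniqueInvolution
import Cfsg.Agent.ExtraspecialBasic.Order

/-!
# 2-groups without a noncyclic abelian subgroup of order eight under coprime action

Such a group admitting a non-trivial automorphism of odd order is a four-group or `Q₈`; a 2-group
normalising it and normalised by the automorphism acts on it by inner automorphisms.
-/

set_option autoImplicit false
set_option linter.style.haveILetI false

namespace CfsgLib.FGS74.SmallEight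

open Subgroup
open scoped commutatorElement

variable {G : Type*} [Group G] [Finite G]

/-- Every abelian subgroup of order eight of `Q` is cyclic. -/
def Small (Q : Subgroup G) : Prop :=
  ∀ A : Subgroup G, A ≤ Q → IsMulCommutative A → Nat.card A = 8 → IsCyclic A

omit [Finite G] in
theorem Small.mono {Q R : Subgroup G} (h : Small Q) (hRQ : R ≤ Q) : Small R :=
  fun A hA => h A (hA.trans hRQ)

omit [Finite G] in
theorem comm_of_mem {A : Subgroup G} (hA : IsMulCommutative A) {a b : G} (ha : a ∈ A) (hb : b ∈ A) :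
    a * b = b * a :=
  congrArg Subtype.val (hA.is_comm.comm (⟨a, ha⟩ : A) ⟨b, hb⟩)

theorem not_isCyclic_of_involutions {A : Subgroup G} {u v : G} (hu : u ∈ A) (hv : v ∈ A)
    (hu2 : u ^ 2 = 1) (hv2 : v ^ 2 = 1) (hu1 : u ≠ 1) (hv1 : v ≠ 1) (huv : u ≠ v) :
    ¬ IsCyclic A := by
  intro h
  classical
  haveI := Fintype.ofFinite A
  have hle := IsCyclic.card_pow_eq_one_le (α := A) (n := 2) two_pos
  have hsub : ({1, ⟨u, hu⟩, ⟨v, hv⟩} : Finset A) ⊆ Finset.univ.filter (fun a : A => a ^ 2 = 1) := by
    intro a ha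
    simp only [Finset.mem_insert, Finset.mem_singleton] at ha
    rw [Finset.mem_filter]
    refine ⟨Finset.mem_univ _, ?_⟩
    rcases ha with rfl | rfl | rfl
    · exact one_pow 2
    · exact Subtype.ext hu2
    · exact Subtype.ext hv2
  have h3 : ({1, ⟨u, hu⟩, ⟨v, hv⟩} : Finset A).card = 3 := by
    rw [Finset.card_insert_of_notMem, Finset.card_insert_of_notMem, Finset.card_singleton]
    · simp [huv]
    · simp only [Finset.mem_insert, Finset.mem_singleton, not_or]
      exact ⟨fun e => hu1 (congrArg Subtype.val e).symm, fun e => hv1 (congrArg Subtype.val e).symm⟩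
  have := (h3.ge.trans (Finset.card_le_card hsub)).trans hle
  omega

theorem exists_involutions {A : Subgroup G} (hA : IsPGroup 2 A) (hc : IsMulCommutative A)
    (hnc : ¬ IsCyclic A) :
    ∃ u ∈ A, ∃ v ∈ A, u ^ 2 = 1 ∧ v ^ 2 = 1 ∧ u ≠ 1 ∧ v ≠ 1 ∧ u ≠ v := by
  haveI : Fact (Nat.Prime 2) := ⟨Nat.prime_two⟩
  by_contra! h
  refine hnc (CfsgLib.TwoGroupsQ.isCyclic_of_comm hA
    (CfsgLib.TwoGroupsQ.hasUniqueOrderP_two fun x y hx hx1 hy hy1 => ?_) (fun a b => hc.is_comm.comm a b))
  exact Subtype.ext (h x x.2 y y.2 (congrArg Subtype.val hx) (congrArg Subtype.val hy)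
    (fun e => hx1 (Subtype.ext e)) (fun e => hy1 (Subtype.ext e)))

/-- In a group without noncyclic abelian subgroups of order eight, noncyclic abelian subgroups
have order at most four. -/
theorem card_le_four {Q A : Subgroup G} (hQ : IsPGroup 2 Q) (hs : Small Q) (hAQ : A ≤ Q)
    (hc : IsMulCommutative A) (hnc : ¬ IsCyclic A) : Nat.card A ≤ 4 := by
  haveI : Fact (Nat.Prime 2) := ⟨Nat.prime_two⟩
  have hA := hQ.to_le hAQ
  obtain ⟨u, hu, v, hv, hu2, hv2, hu1, hv1, huv⟩ := exists_involutions hA hc hnc
  obtain ⟨k, hk⟩ := IsPGroup.iff_card.1 hA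
  by_contra hlt
  rw [hk] at hlt
  have hk3 : 3 ≤ k := by
    by_contra h
    exact hlt ((Nat.pow_le_pow_right two_pos (show k ≤ 2 by omega)).trans (by norm_num))
  let E : Subgroup A := zpowers ⟨u, hu⟩ ⊔ zpowers ⟨v, hv⟩
  have hE : Nat.card E = 2 ^ 2 := by
    have hcm : zpowers (⟨v, hv⟩ : A) ≤ normalizer ((zpowers (⟨u, hu⟩ : A) : Subgroup A) : Set A) := by
      haveI := hc
      rw [normalizer_eq_top]
      exact le_top
    have ho : ∀ x : A, x ^ 2 = 1 → x ≠ 1 → Nat.card (zpowers x) = 2 := fun x h1 h2 => by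
      rw [Nat.card_zpowers, orderOf_eq_prime h1 h2]
    have e1 := ho ⟨u, hu⟩ (Subtype.ext hu2) (fun e => hu1 (congrArg Subtype.val e))
    have e2 := ho ⟨v, hv⟩ (Subtype.ext hv2) (fun e => hv1 (congrArg Subtype.val e))
    refine (CfsgLib.Coprime.card_sup_eq hcm ?_).trans (by rw [e1, e2]; rfl)
    rw [eq_bot_iff_forall]
    rintro x ⟨hx1, hx2⟩
    by_contra hx
    have f1 : zpowers x = zpowers (⟨u, hu⟩ : A) := by
      refine eq_of_le_of_card_ge (zpowers_le.2 hx1) ?_
      rw [e1, Nat.card_zpowers]
      have := orderOf_pos x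
      have : orderOf x ≠ 1 := fun h => hx (orderOf_eq_one_iff.1 h)
      omega
    have f2 : zpowers x = zpowers (⟨v, hv⟩ : A) := by
      refine eq_of_le_of_card_ge (zpowers_le.2 hx2) ?_
      rw [e2, Nat.card_zpowers]
      have := orderOf_pos x
      have : orderOf x ≠ 1 := fun h => hx (orderOf_eq_one_iff.1 h)
      omega
    have f3 : (⟨u, hu⟩ : A) ∈ zpowers (⟨v, hv⟩ : A) := by
      rw [← f2, f1]; exact mem_zpowers _
    obtain ⟨n, hn⟩ := mem_zpowers_iff.1 f3
    have h2z : (⟨v, hv⟩ : A) ^ (2 : ℤ) = 1 := by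
      rw [zpow_two, ← pow_two]; exact Subtype.ext hv2
    rcases Int.even_or_odd n with ⟨m, rfl⟩ | ⟨m, rfl⟩
    · rw [← two_mul, zpow_mul, h2z, one_zpow] at hn
      exact hu1 (congrArg Subtype.val hn).symm
    · rw [zpow_add, zpow_mul, h2z, one_zpow, one_mul, zpow_one] at hn
      exact huv (congrArg Subtype.val hn).symm
  obtain ⟨K, hK, hEK⟩ := Sylow.exists_subgroup_card_pow_prime_le 2 (n := 2) (m := 3)
    (hk.symm ▸ pow_dvd_pow 2 hk3) E hE (by norm_num)
  refine not_isCyclic_of_involutions (A := K.map A.subtype) (u := u) (v := v) ?_ ?_ hu2 hv2 hu1 hv1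
    huv (hs _ ((map_subtype_le K).trans hAQ) ?_ ?_)
  · exact ⟨⟨u, hu⟩, hEK (mem_sup_left (mem_zpowers _)), rfl⟩
  · exact ⟨⟨v, hv⟩, hEK (mem_sup_right (mem_zpowers _)), rfl⟩
  · exact ⟨⟨fun a b => Subtype.ext (comm_of_mem hc (map_subtype_le K a.2) (map_subtype_le K b.2))⟩⟩
  · rw [card_map_of_injective A.subtype_injective, hK]; norm_num

theorem isMulCommutative_sup_zpowers {E : Subgroup G} (hE : IsMulCommutative E) {c : G}
    (hc : ∀ e ∈ E, e * c = c * e) : IsMulCommutative (E ⊔ zpowers c : Subgroup G) := by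
  rw [← closure_eq E, zpowers_eq_closure, ← Subgroup.closure_union]
  refine isMulCommutative_closure ?_
  rintro a (ha | rfl) b (hb | rfl)
  · exact comm_of_mem hE ha hb
  · exact hc a ha
  · exact (hc b hb).symm
  · rfl

/-- A four-group in a small group is self-centralizing. -/
theorem mem_of_centralizes {Q E : Subgroup G} (hQ : IsPGroup 2 Q) (hs : Small Q) (hEQ : E ≤ Q)
    (hc : IsMulCommutative E) (hnc : ¬ IsCyclic E) (hE : 4 ≤ Nat.card E) {c : G} (hcQ : c ∈ Q)
    (h : ∀ e ∈ E, e * c = c * e) : c ∈ E := by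
  have h4 := card_le_four hQ hs (sup_le hEQ (zpowers_le.2 hcQ)) (isMulCommutative_sup_zpowers hc h)
    (fun hcy => hnc (by
      haveI := hcy
      exact isCyclic_of_injective (inclusion (le_sup_left : E ≤ E ⊔ zpowers c)) (inclusion_injective _)))
  rw [eq_of_le_of_card_ge (le_sup_left : E ≤ E ⊔ zpowers c) (h4.trans hE)]
  exact mem_sup_right (mem_zpowers c)

/-- A small 2-group with a minimal non-trivial coprime action. -/
structure Core (H R : Subgroup G) : Prop where
  pgroup : IsPGroup 2 R
  small : Small R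
  norm : H ≤ normalizer (R : Set G)
  odd : (Nat.card H).Coprime 2
  nt : ⁅R, H⁆ ≠ ⊥
  min : ∀ U : Subgroup G, U < R → H ≤ normalizer (U : Set G) → ⁅U, H⁆ = ⊥

/-- A non-trivial coprime action contains a minimal one. -/
theorem exists_core {H Q : Subgroup G} (hQ : IsPGroup 2 Q) (hs : Small Q)
    (hH : H ≤ normalizer (Q : Set G)) (hodd : (Nat.card H).Coprime 2) (hnt : ⁅Q, H⁆ ≠ ⊥) :
    ∃ R ≤ Q, Core H R := by
  obtain ⟨R, ⟨hRQ, hRn, hRnt⟩, hmin⟩ := wellFounded_lt.has_min
    {R : Subgroup G | R ≤ Q ∧ H ≤ normalizer (R : Set G) ∧ ⁅R, H⁆ ≠ ⊥} ⟨Q, le_rfl, hH, hnt⟩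
  refine ⟨R, hRQ, hQ.to_le hRQ, hs.mono hRQ, hRn, hodd, hRnt, fun U hU hUn => ?_⟩
  by_contra h
  exact hmin U ⟨hU.le.trans hRQ, hUn, h⟩ hU

variable {H R : Subgroup G}

theorem Core.coprime (h : Core H R) : (Nat.card H).Coprime (Nat.card R) := by
  haveI : Fact (Nat.Prime 2) := ⟨Nat.prime_two⟩
  exact CfsgLib.HallHigman.coprime_card_of_coprime_prime h.pgroup h.odd

theorem Core.minimal (h : Core H R) :
    ⁅R, H⁆ = R ∧ R ⊓ centralizer (H : Set G) = (frattini R).map R.subtype ∧
      (Cfsg.IsElementaryAbelian 2 R ∨ Cfsg.IsSpecial 2 R) ∧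
      ∀ U : Subgroup G, R ⊓ centralizer (H : Set G) ≤ U → U ≤ R → H ≤ normalizer (U : Set G) →
        U = R ⊓ centralizer (H : Set G) ∨ U = R := by
  haveI : Fact (Nat.Prime 2) := ⟨Nat.prime_two⟩
  obtain ⟨h1, h2, h3, -, h5, -⟩ := CfsgLib.HallHigman.minimal_action h.pgroup h.norm le_rfl
    le_normalizer h.odd h.nt h.min
  exact ⟨h1, h2, h3, fun U a b c => by rw [h2] at a ⊢; exact h5 U a b c⟩

theorem Core.fixed_normal (h : Core H R) {X : Subgroup G} (hX : X ≤ normalizer (R : Set G)) :
    X ≤ normalizer ((R ⊓ centralizer (H : Set G) : Subgroup G) : Set G) := by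
  rw [h.minimal.2.1]
  exact CfsgLib.HallHigman.le_normalizer_map_char hX _

theorem Core.fixed_central (h : Core H R) {z r : G} (hz : z ∈ R ⊓ centralizer (H : Set G))
    (hr : r ∈ R) : z * r = r * z := by
  haveI : Fact (Nat.Prime 2) := ⟨Nat.prime_two⟩
  obtain ⟨h1, h2, h3, h4⟩ := h.minimal
  rw [h2] at hz
  obtain ⟨⟨z, hzR⟩, hz, rfl⟩ := hz
  have hzc : (⟨z, hzR⟩ : R) ∈ center R := (CfsgLib.HallHigman.minimal_action h.pgroup h.norm le_rfl
    le_normalizer h.odd h.nt h.min).2.2.2.1 hz
  exact (congrArg Subtype.val (mem_center_iff.1 hzc ⟨r, hr⟩)).symm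

theorem Core.commutator_mem_fixed (h : Core H R) {a b : G} (ha : a ∈ R) (hb : b ∈ R) :
    a * b * a⁻¹ * b⁻¹ ∈ R ⊓ centralizer (H : Set G) := by
  haveI : Fact (Nat.Prime 2) := ⟨Nat.prime_two⟩
  rw [h.minimal.2.1]
  exact ⟨⁅(⟨a, ha⟩ : R), ⟨b, hb⟩⁆, CfsgLib.Solvable.commutator_le_frattini h.pgroup
    (commutator_mem_commutator (mem_top _) (mem_top _)), by simp [commutatorElement_def]⟩

theorem Core.sq_mem_fixed (h : Core H R) {a : G} (ha : a ∈ R) :
    a ^ 2 ∈ R ⊓ centralizer (H : Set G) := by
  haveI : Fact (Nat.Prime 2) := ⟨Nat.prime_two⟩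
  rw [h.minimal.2.1]
  exact ⟨(⟨a, ha⟩ : R) ^ 2, CfsgLib.Solvable.pow_mem_frattini h.pgroup _, rfl⟩

/-- Some element of the acting group moves every class outside the fixed subgroup. -/
theorem Core.exists_moving (h : Core H R) {x : G} (hx : x ∈ R)
    (hxZ : x ∉ R ⊓ centralizer (H : Set G)) :
    ∃ g ∈ H, x⁻¹ * (g * x * g⁻¹) ∉ R ⊓ centralizer (H : Set G) := by
  by_contra! hall
  obtain ⟨c, hc, hcx⟩ := CfsgLib.Coprime.exists_fixed_mem_coset
    (h.fixed_normal (X := H) h.norm)
    (h.coprime.coprime_dvd_right (card_dvd_of_le inf_le_left))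
    (Or.inr (by
      haveI : Fact (Nat.Prime 2) := ⟨Nat.prime_two⟩
      haveI := (h.pgroup.to_le (inf_le_left (b := centralizer (H : Set G)))).isNilpotent
      infer_instance)) (k := x) hall
  have hcR : c ∈ R := by
    have := mul_mem hx hcx.1
    rwa [mul_inv_cancel_left] at this
  refine hxZ ?_
  rw [show x = c * (x⁻¹ * c)⁻¹ by group]
  exact mul_mem ⟨hcR, hc⟩ (inv_mem hcx)

/-- A core is a four-group or a quaternion group of order eight. -/
theorem Core.cases (h : Core H R) :
    (Cfsg.IsElementaryAbelian 2 R ∧ Nat.card R = 4 ∧ R ⊓ centralizer (H : Set G) = ⊥) ∨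
      (Nonempty (R ≃* QuaternionGroup 2) ∧ Nat.card R = 8 ∧
        Nat.card (R ⊓ centralizer (H : Set G) : Subgroup G) = 2 ∧
        ∃ i ∈ R, ∃ j ∈ R, i * j ≠ j * i) := by
  haveI : Fact (Nat.Prime 2) := ⟨Nat.prime_two⟩
  obtain ⟨hRH, hfix, hcase, hirr⟩ := h.minimal
  rcases hcase with hel | hsp
  · left
    have hbot : R ⊓ centralizer (H : Set G) = ⊥ := by
      refine le_bot_iff.1 ((CfsgLib.HallHigman.inf_centralizer_le_commutator h.norm h.coprime hRH).trans ?_)
      exact (le_bot_iff.2 (commutator_eq_bot_iff_le_centralizer.2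
        (@Subgroup.le_centralizer _ _ R hel.1)))
    have hnc : ¬ IsCyclic R := by
      intro hcy
      apply h.nt
      refine commutator_eq_bot_iff_le_centralizer.2 ?_
      obtain ⟨g, hg⟩ := hcy.exists_generator
      have hg2 : g ^ 2 = 1 := Subtype.ext (hel.2 g g.2)
      rintro x hx a ha
      by_cases hx1 : x = 1
      · rw [hx1, mul_one, one_mul]
      have hmem : a * x * a⁻¹ ∈ R := (mem_normalizer_iff.1 (h.norm ha) x).1 hx
      have htwo : ∀ y : R, y = 1 ∨ y = g := fun y => by
        obtain ⟨n, rfl⟩ := mem_zpowers_iff.1 (hg y)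
        have h2z : g ^ (2 : ℤ) = 1 := by rw [zpow_two, ← pow_two, hg2]
        rcases Int.even_or_odd n with ⟨m, rfl⟩ | ⟨m, rfl⟩
        · left; rw [← two_mul, zpow_mul, h2z, one_zpow]
        · right; rw [zpow_add, zpow_mul, h2z, one_zpow, one_mul, zpow_one]
      rcases htwo ⟨x, hx⟩ with e | e
      · exact absurd (congrArg Subtype.val e) hx1
      rcases htwo ⟨_, hmem⟩ with e' | e'
      · have := congrArg Subtype.val e'
        rw [show ((⟨a * x * a⁻¹, hmem⟩ : R) : G) = a * x * a⁻¹ from rfl, OneMemClass.coe_one,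
          conj_eq_one_iff] at this
        exact absurd this hx1
      · have e2 : a * x * a⁻¹ = x := congrArg Subtype.val (e'.trans e.symm)
        exact mul_inv_eq_iff_eq_mul.1 e2
    have h4 := card_le_four h.pgroup h.small le_rfl hel.1 hnc
    obtain ⟨k, hk⟩ := IsPGroup.iff_card.1 h.pgroup
    refine ⟨hel, ?_, hbot⟩
    rw [hk] at h4 ⊢
    rcases k with _ | _ | _ | k
    · exact absurd (isCyclic_of_card_dvd_prime (p := 2) (by rw [hk]; norm_num)) hnc
    · exact absurd (isCyclic_of_card_dvd_prime (p := 2) (by rw [hk]; norm_num)) hnc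
    · rfl
    · have : 8 ≤ 2 ^ (k + 1 + 1 + 1) :=
        (show 8 = 2 ^ 3 by norm_num).trans_le (Nat.pow_le_pow_right two_pos (by omega))
      omega
  · right
    have hab : ¬ IsMulCommutative R := by
      intro hc
      have hz : center R = ⊤ := eq_top_iff.2 fun x _ => mem_center_iff.2 fun y => hc.is_comm.comm y x
      have : frattini R = ⊤ := hsp.2.1.trans hz
      rw [this, ← MonoidHom.range_eq_map, R.range_subtype] at hfix
      exact h.nt (commutator_eq_bot_iff_le_centralizer.2 (hfix ▸ inf_le_right : R ≤ _))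
    set Z := R ⊓ centralizer (H : Set G) with hZdef
    have hZc : Z = (center R).map R.subtype := hfix.trans (by rw [hsp.2.1])
    have hsq : ∀ z ∈ center R, z ^ 2 = 1 := by
      intro z hz
      rw [← hsp.2.2, commutator_eq_closure] at hz
      have hcl : ∀ a b : R, ⁅a, b⁆ ∈ center R := fun a b =>
        hsp.2.2 ▸ commutator_mem_commutator (mem_top a) (mem_top b)
      induction hz using closure_induction with
      | mem z hz =>
        obtain ⟨a, b, rfl⟩ := hz
        rw [← CfsgLib.HallHigman.commutatorElement_pow_class_two (hcl a b),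
          commutatorElement_eq_one_iff_mul_comm]
        refine (mem_center_iff.1 ?_ b).symm
        rw [← hsp.2.1]
        exact CfsgLib.Solvable.pow_mem_frattini h.pgroup a
      | one => exact one_pow 2
      | mul a b ha hb h1 h2 =>
        have : a ∈ center R := by rw [← hsp.2.2, commutator_eq_closure]; exact ha
        rw [Commute.mul_pow (mem_center_iff.1 this b).symm, h1, h2, one_mul]
      | inv a _ h1 => rw [inv_pow, h1, inv_one]
    have hsq' : ∀ z ∈ Z, z ^ 2 = 1 := by
      intro z hz
      rw [hZc] at hz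
      obtain ⟨y, hy, rfl⟩ := hz
      exact congrArg Subtype.val (hsq y hy)
    have hZcomm : IsMulCommutative Z := by
      refine ⟨⟨fun a b => Subtype.ext (h.fixed_central a.2 b.2.1)⟩⟩
    have hZcy : IsCyclic Z := by
      by_contra hnc
      obtain ⟨u, hu, v, hv, -, -, hu1, hv1, huv⟩ :=
        exists_involutions (h.pgroup.to_le inf_le_left) hZcomm hnc
      have h4 : 4 ≤ Nat.card Z := by
        obtain ⟨k, hk⟩ := IsPGroup.iff_card.1 (h.pgroup.to_le (inf_le_left : Z ≤ R))
        rw [hk]
        have : 2 ≤ k := by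
          by_contra hk2
          refine hnc (isCyclic_of_card_dvd_prime (p := 2) ?_)
          rw [hk]
          exact (pow_dvd_pow 2 (show k ≤ 1 by omega)).trans (by norm_num)
        calc 4 = 2 ^ 2 := by norm_num
          _ ≤ _ := Nat.pow_le_pow_right two_pos this
      refine hab ⟨⟨fun a b => Subtype.ext ?_⟩⟩
      have : (a : G) ∈ Z := mem_of_centralizes h.pgroup h.small inf_le_left hZcomm hnc h4 a.2
        fun e he => h.fixed_central he a.2
      exact h.fixed_central this b.2
    have hZ2 : Nat.card Z = 2 := by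
      obtain ⟨g, hg⟩ := hZcy.exists_generator
      have h1 : Nat.card Z ∣ 2 := by
        rw [← orderOf_eq_card_of_forall_mem_zpowers hg]
        exact orderOf_dvd_of_pow_eq_one (Subtype.ext (hsq' g g.2))
      refine ((Nat.dvd_prime Nat.prime_two).1 h1).resolve_left fun h1 => ?_
      haveI : Nontrivial R := by
        by_contra hn
        rw [not_nontrivial_iff_subsingleton] at hn
        exact hab ⟨⟨fun a b => Subsingleton.elim _ _⟩⟩
      have h2 := h.pgroup.center_nontrivial
      rw [hZc, card_map_of_injective R.subtype_injective, card_eq_one] at h1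
      exact (nontrivial_iff_ne_bot _).1 h2 h1
    have hext : Cfsg.IsExtraspecial 2 R := ⟨hsp, by
      rw [← card_map_of_injective R.subtype_injective, ← hZc, hZ2]⟩
    obtain ⟨n, hn, hcard⟩ := CfsgLib.ExtraspecialBasic.exists_card_eq hext
    obtain ⟨z, hzZ, hz1⟩ : ∃ z ∈ Z, z ≠ 1 := by
      by_contra! hall
      have : Z = ⊥ := (eq_bot_iff_forall _).2 hall
      rw [this, card_bot] at hZ2
      omega
    have hZel : ∀ y ∈ Z, y = 1 ∨ y = z := by
      intro y hy
      by_contra! hc
      exact not_isCyclic_of_involutions hy hzZ (hsq' y hy) (hsq' z hzZ) hc.1 hz1 hc.2 hZcy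
    -- all involutions are central
    have hinv : ∀ x ∈ R, x ^ 2 = 1 → x ∈ Z := by
      intro x hx hx2
      by_contra hxZ
      obtain ⟨g, hg, hgx⟩ := h.exists_moving hx hxZ
      set y := g * x * g⁻¹ with hy
      have hyR : y ∈ R := (mem_normalizer_iff.1 (h.norm hg) x).1 hx
      have hy2 : y ^ 2 = 1 := by rw [hy, conj_pow, hx2, mul_one, mul_inv_cancel]
      let E : Subgroup G := Z ⊔ zpowers x
      have hEc : IsMulCommutative E := isMulCommutative_sup_zpowers hZcomm fun e he =>
        h.fixed_central he hx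
      have hxE : x ∈ E := mem_sup_right (mem_zpowers x)
      have hzE : z ∈ E := mem_sup_left hzZ
      have hEnc : ¬ IsCyclic E := not_isCyclic_of_involutions hxE hzE hx2 (hsq' z hzZ)
        (fun e => hxZ (e ▸ one_mem Z)) hz1 (fun e => hxZ (e ▸ hzZ))
      have hEel : ∀ e ∈ E, e ∈ Z ∨ e * x ∈ Z := by
        intro e he
        have hn : zpowers x ≤ normalizer (Z : Set G) := zpowers_le.2
          (h.fixed_normal (X := R) le_normalizer hx)
        obtain ⟨a, ha, b, hb, rfl⟩ := CfsgLib.Coprime.exists_mul_of_mem_sup hn he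
        obtain ⟨m, rfl⟩ := mem_zpowers_iff.1 hb
        have h2z : x ^ (2 : ℤ) = 1 := by rw [zpow_two, ← pow_two, hx2]
        rcases Int.even_or_odd m with ⟨l, rfl⟩ | ⟨l, rfl⟩
        · left; rwa [← two_mul, zpow_mul, h2z, one_zpow, mul_one]
        · right
          rwa [zpow_add, zpow_mul, h2z, one_zpow, one_mul, zpow_one, mul_assoc, ← pow_two, hx2,
            mul_one]
      have hxy : x * y ≠ y * x := by
        intro hcom
        have hyE : y ∈ E := mem_of_centralizes h.pgroup h.small (sup_le inf_le_left (zpowers_le.2 hx))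
          hEc hEnc (by
            have h4 : 2 ≤ Nat.card E := hZ2 ▸ Nat.card_le_card_of_injective (inclusion (le_sup_left : Z ≤ E))
              (inclusion_injective _)
            obtain ⟨k, hk⟩ := IsPGroup.iff_card.1 (h.pgroup.to_le (sup_le inf_le_left (zpowers_le.2 hx) : E ≤ R))
            rw [hk] at h4 ⊢
            have : 2 ≤ k := by
              by_contra hk2
              refine hEnc (isCyclic_of_card_dvd_prime (p := 2) ?_)
              rw [hk]
              exact (pow_dvd_pow 2 (show k ≤ 1 by omega)).trans (by norm_num)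
            calc 4 = 2 ^ 2 := by norm_num
              _ ≤ _ := Nat.pow_le_pow_right two_pos this) hyR (fun e he => by
            rcases hEel e he with hh | hh
            · exact h.fixed_central hh hyR
            · have e1 : e = e * x * x⁻¹ := (mul_inv_cancel_right e x).symm
              rw [e1]
              have := h.fixed_central hh hyR
              calc e * x * x⁻¹ * y = e * x * (x⁻¹ * y) := mul_assoc _ _ _
                _ = e * x * (y * x⁻¹) := by rw [(Commute.inv_left (show Commute x y from hcom)).eq]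
                _ = (e * x * y) * x⁻¹ := by group
                _ = _ := by rw [this]; group)
        rcases hEel y hyE with hh | hh
        · exact hxZ (by
            have : g⁻¹ * y * g = y := by
              rw [mul_assoc, ← mem_centralizer_iff.1 hh.2 g hg, inv_mul_cancel_left]
            rw [hy, show g⁻¹ * (g * x * g⁻¹) * g = x by group] at this
            rw [this]
            exact hh)
        · refine hgx ?_
          rw [← inv_mem_iff, mul_inv_rev, inv_inv]
          have : y⁻¹ = y := inv_eq_of_mul_eq_one_left (by rw [← pow_two, hy2])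
          rwa [this]
      -- the orbit of the class of `x`
      have hxy2 : (x * y) ^ 2 ≠ 1 := fun e => hxy (by
        have h1 : (x * y)⁻¹ = x * y := inv_eq_of_mul_eq_one_left (by rw [← pow_two, e])
        rw [← h1, mul_inv_rev, inv_eq_of_mul_eq_one_left (show y * y = 1 by rw [← pow_two, hy2]),
          inv_eq_of_mul_eq_one_left (show x * x = 1 by rw [← pow_two, hx2])])
      have hcenter8 : Nat.card R = 8 := by
        by_contra h8
        have hbig : 32 ≤ Nat.card R := by
          rw [hcard] at h8 ⊢
          have : n ≠ 1 := fun e => h8 (by rw [e]; norm_num)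
          calc 32 = 2 ^ 5 := by norm_num
            _ ≤ _ := Nat.pow_le_pow_right two_pos (by omega)
        -- the centraliser of `x` has index at most two
        let f : R → Z := fun r => ⟨(r : G) * x * (r : G)⁻¹ * x⁻¹, h.commutator_mem_fixed r.2 hx⟩
        classical
        have hle : Nat.card R ≤ Nat.card Z * Nat.card {r : R // (r : G) ∈ E} := by
          rw [← Nat.card_prod]
          let pick : Z → R := fun c => if hc : ∃ r, f r = c then hc.choose else 1
          refine Nat.card_le_card_of_surjective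
            (fun q : Z × {r : R // (r : G) ∈ E} => pick q.1 * q.2.1) fun r => ?_
          have hc : ∃ r', f r' = f r := ⟨r, rfl⟩
          set r0 := pick (f r)
          have hr0 : f r0 = f r := by
            show f (pick (f r)) = f r
            simp only [pick, dif_pos hc]
            exact hc.choose_spec
          have hmem : ((r0⁻¹ * r : R) : G) ∈ E := by
            refine mem_of_centralizes h.pgroup h.small (sup_le inf_le_left (zpowers_le.2 hx)) hEc hEnc ?_
              (r0⁻¹ * r).2 fun e he => ?_
            · obtain ⟨k, hk⟩ := IsPGroup.iff_card.1 (h.pgroup.to_le (sup_le inf_le_left (zpowers_le.2 hx) : E ≤ R))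
              rw [hk]
              have : 2 ≤ k := by
                by_contra hk2
                refine hEnc (isCyclic_of_card_dvd_prime (p := 2) ?_)
                rw [hk]
                exact (pow_dvd_pow 2 (show k ≤ 1 by omega)).trans (by norm_num)
              calc 4 = 2 ^ 2 := by norm_num
                _ ≤ _ := Nat.pow_le_pow_right two_pos this
            · have hcx : Commute x ((r0⁻¹ * r : R) : G) := by
                have h1 : (r0 : G) * x * (r0 : G)⁻¹ = r * x * (r : G)⁻¹ :=
                  mul_right_cancel (congrArg Subtype.val hr0)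
                show x * ((r0⁻¹ * r : R) : G) = ((r0⁻¹ * r : R) : G) * x
                rw [coe_mul, coe_inv]
                calc x * ((r0 : G)⁻¹ * r) = (r0 : G)⁻¹ * ((r0 : G) * x * (r0 : G)⁻¹) * r := by group
                  _ = _ := by rw [h1]; group
              rcases hEel e he with hh | hh
              · exact h.fixed_central hh (r0⁻¹ * r).2
              · have e1 : e = e * x * x⁻¹ := (mul_inv_cancel_right e x).symm
                rw [e1]
                exact Commute.mul_left (h.fixed_central hh (r0⁻¹ * r).2) hcx.inv_left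
          exact ⟨(f r, ⟨r0⁻¹ * r, hmem⟩), mul_inv_cancel_left _ _⟩
        have hE4 : Nat.card {r : R // (r : G) ∈ E} ≤ 4 := by
          refine le_trans ?_ (card_le_four h.pgroup h.small (sup_le inf_le_left (zpowers_le.2 hx)) hEc hEnc)
          exact Nat.card_le_card_of_injective (fun r => (⟨(r.1 : G), r.2⟩ : E))
            fun a b e => Subtype.ext (Subtype.ext (congrArg (fun e : E => (e : G)) e))
        rw [hZ2] at hle
        omega
      -- `R` is the union of four classes
      have hclass : ∀ r ∈ R, r ∈ Z ∨ r * x ∈ Z ∨ r * y ∈ Z ∨ r * (x * y) ∈ Z := by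
        intro r hr
        by_contra! hc
        obtain ⟨h0, h1, h2, h3⟩ := hc
        haveI hZn : (Z.subgroupOf R).Normal := by
          rw [normal_subgroupOf_iff inf_le_left]
          intro a b ha hb
          rw [show b * a * b⁻¹ = a * b * b⁻¹ by rw [h.fixed_central ha hb], mul_inv_cancel_right]
          exact ha
        let π := QuotientGroup.mk' (Z.subgroupOf R)
        have hq : Nat.card (R ⧸ Z.subgroupOf R) = 4 := by
          have := (Z.subgroupOf R).card_mul_index
          rw [Nat.card_congr (subgroupOfEquivOfLe (inf_le_left : Z ≤ R)).toEquiv, hZ2, hcenter8,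
            index_eq_card] at this
          omega
        classical
        haveI := Fintype.ofFinite (R ⧸ Z.subgroupOf R)
        have hsq4 : ∀ a : R, π a = (π a)⁻¹ := fun a => eq_inv_of_mul_eq_one_left (by
          rw [← map_mul, QuotientGroup.mk'_apply, QuotientGroup.eq_one_iff, mem_subgroupOf, coe_mul,
            ← pow_two]
          exact h.sq_mem_fixed a.2)
        have hmk : ∀ a b : R, π a = π b ↔ ((a * b : R) : G) ∈ Z := fun a b => by
          rw [hsq4 b, eq_inv_iff_mul_eq_one, ← map_mul, QuotientGroup.mk'_apply,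
            QuotientGroup.eq_one_iff, mem_subgroupOf]
        have hone : ∀ a : R, π a = 1 ↔ (a : G) ∈ Z := fun a => by
          rw [← map_one π, hmk, mul_one]
        let X : Finset (R ⧸ Z.subgroupOf R) :=
          {1, π ⟨x, hx⟩, π ⟨y, hyR⟩, π ⟨x * y, mul_mem hx hyR⟩, π ⟨r, hr⟩}
        have hx' : x ∉ Z := hxZ
        have hy' : y ∉ Z := fun hh => hxZ (by
          have : g⁻¹ * y * g = y := by
            rw [mul_assoc, ← mem_centralizer_iff.1 hh.2 g hg, inv_mul_cancel_left]
          rw [hy, show g⁻¹ * (g * x * g⁻¹) * g = x by group] at this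
          rw [this]
          exact hh)
        have hxy' : x * y ∉ Z := fun hh => hxy2 (hsq' _ hh)
        have hxxy : x * (x * y) ∉ Z := by rw [← mul_assoc, ← pow_two, hx2, one_mul]; exact hy'
        have hyxy : y * (x * y) ∉ Z := fun hh => hxZ (by
          have h' := h.fixed_normal (X := R) le_normalizer hyR
          have := (mem_normalizer_iff.1 h' _).1 hh
          rwa [show y * (y * (x * y)) * y⁻¹ = (y * y) * x by group, ← pow_two, hy2, one_mul] at this)
        have hcardX : X.card = 5 := by
          simp only [X]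
          rw [Finset.card_insert_of_notMem, Finset.card_insert_of_notMem, Finset.card_insert_of_notMem,
            Finset.card_insert_of_notMem, Finset.card_singleton]
          · rw [Finset.mem_singleton, hmk, coe_mul]
            exact fun hh => h3 (by
              rw [← inv_mem_iff] at hh
              have hs := h.sq_mem_fixed hr
              have := mul_mem hs hh
              rw [mul_inv_rev, pow_two, show r * r * (r⁻¹ * (x * y)⁻¹) = r * (x * y)⁻¹ by group] at this
              have := mul_mem this (h.sq_mem_fixed (mul_mem hx hyR))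
              rwa [pow_two, ← mul_assoc, inv_mul_cancel_right] at this)
          · simp only [Finset.mem_insert, Finset.mem_singleton, not_or, hmk, coe_mul]
            exact ⟨hyxy, fun hh => h2 (by
              have hh' : y⁻¹ * (y * r) * y⁻¹⁻¹ ∈ Z :=
                (mem_normalizer_iff.1 (inv_mem (h.fixed_normal (X := R) le_normalizer hyR)) _).1 hh
              rwa [inv_inv, inv_mul_cancel_left] at hh')⟩
          · simp only [Finset.mem_insert, Finset.mem_singleton, not_or, hmk, coe_mul]
            refine ⟨hxy', hxxy, fun hh => h1 ?_⟩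
            have hh' : x⁻¹ * (x * r) * x⁻¹⁻¹ ∈ Z :=
              (mem_normalizer_iff.1 (inv_mem (h.fixed_normal (X := R) le_normalizer hx)) _).1 hh
            rwa [inv_inv, inv_mul_cancel_left] at hh'
          · simp only [Finset.mem_insert, Finset.mem_singleton, not_or]
            exact ⟨fun e => hx' ((hone _).1 e.symm), fun e => hy' ((hone _).1 e.symm),
              fun e => hxy' ((hone _).1 e.symm), fun e => h0 ((hone _).1 e.symm)⟩
        have := hcardX.ge.trans X.card_le_univ
        rw [← Nat.card_eq_fintype_card, hq] at this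
        omega
      set w := g * y * g⁻¹ with hw
      have hwR : w ∈ R := (mem_normalizer_iff.1 (h.norm hg) y).1 hyR
      have hw2 : w ^ 2 = 1 := by rw [hw, conj_pow, hy2, mul_one, mul_inv_cancel]
      have hgn := h.fixed_normal (X := H) h.norm hg
      have hwinv : w⁻¹ = w := inv_eq_of_mul_eq_one_left (by rw [← pow_two, hw2])
      have hyinv : y⁻¹ = y := inv_eq_of_mul_eq_one_left (by rw [← pow_two, hy2])
      have hxinv : x⁻¹ = x := inv_eq_of_mul_eq_one_left (by rw [← pow_two, hx2])
      rcases hclass w hwR with hh | hh | hh | hh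
      · refine hxy ?_
        have h1 := (mem_normalizer_iff.1 (inv_mem hgn) w).1 hh
        rw [hw, inv_inv, show g⁻¹ * (g * y * g⁻¹) * g = y by group] at h1
        exact (h.fixed_central h1 hx).symm
      · -- the square of `g` would fix the class of `x`
        have h2g : g * (g * x * g⁻¹) * g⁻¹ * x ∈ Z := hh
        have hoddg : Odd (orderOf g) := by
          refine Nat.coprime_two_right.1 ?_
          refine h.odd.coprime_dvd_left ?_
          rw [← Subgroup.orderOf_mk g hg]
          exact orderOf_dvd_natCard _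
        obtain ⟨l, hl⟩ := hoddg
        obtain ⟨q, hq, hqn, hq2⟩ : ∃ q, q = g * g ∧
            q ∈ normalizer ((Z : Subgroup G) : Set G) ∧ q * x * q⁻¹ * x ∈ Z :=
          ⟨g * g, rfl, mul_mem hgn hgn, by
            rwa [show g * g * x * (g * g)⁻¹ * x = g * (g * x * g⁻¹) * g⁻¹ * x by group]⟩
        have key : ∀ m : ℕ, (g * g) ^ m * x * ((g * g) ^ m)⁻¹ * x ∈ Z := by
          rw [← hq]
          intro m
          induction m with
          | zero => rw [pow_zero, one_mul, inv_one, mul_one, ← pow_two, hx2]; exact one_mem Z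
          | succ m ih =>
            have h3 : q * (q ^ m * x * (q ^ m)⁻¹ * x) * q⁻¹ ∈ Z :=
              (mem_normalizer_iff.1 hqn _).1 ih
            have h4 := mul_mem h3 hq2
            have hxx : x * x = 1 := by rw [← pow_two, hx2]
            have e : q * (q ^ m * x * (q ^ m)⁻¹ * x) * q⁻¹ * (q * x * q⁻¹ * x)
                = q ^ (m + 1) * x * (q ^ (m + 1))⁻¹ * x := by
              have e0 : q * (q ^ m * x * (q ^ m)⁻¹ * x) * q⁻¹ * (q * x * q⁻¹ * x)
                  = q * (q ^ m * x * (q ^ m)⁻¹ * (x * x)) * q⁻¹ * x := by group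
              rw [e0, hxx, mul_one, pow_succ']
              group
            rwa [e] at h4
        have h5 := key (l + 1)
        rw [show (g * g) ^ (l + 1) = g by
          rw [← pow_two, ← pow_mul, show 2 * (l + 1) = orderOf g + 1 by omega, pow_succ,
            pow_orderOf_eq_one, one_mul]] at h5
        refine hgx ?_
        rw [← inv_mem_iff, mul_inv_rev, inv_inv, hyinv]
        exact h5
      · refine hgx ?_
        have h1 : g⁻¹ * (w * y) * g⁻¹⁻¹ ∈ Z := (mem_normalizer_iff.1 (inv_mem hgn) _).1 hh
        have hyx : g⁻¹ * y * g = x := by rw [hy]; group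
        have e : g⁻¹ * (w * y) * g⁻¹⁻¹ = y * (g⁻¹ * y * g) := by rw [hw]; group
        rw [e, hyx] at h1
        rw [← inv_mem_iff, mul_inv_rev, inv_inv, hyinv]
        exact h1
      · refine hxy2 ?_
        rcases hZel _ hh with e | e
        · have : x * y = w := by rw [← inv_eq_of_mul_eq_one_right e, hwinv]
          rw [this, hw2]
        · have e' : x * y = w * z := by
            rw [← e, ← mul_assoc w w, show w * w = 1 by rw [← pow_two, hw2], one_mul]
          rw [e', Commute.mul_pow (h.fixed_central hzZ hwR).symm, hw2, one_mul, hsq' z hzZ]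
    -- unique involution
    have hu : CfsgLib.TwoGroupsQ.HasUniqueOrderP R 2 := by
      refine CfsgLib.TwoGroupsQ.hasUniqueOrderP_two fun a b ha ha1 hb hb1 => Subtype.ext ?_
      have h1 := hinv a a.2 (congrArg Subtype.val ha)
      have h2 := hinv b b.2 (congrArg Subtype.val hb)
      rcases hZel _ h1 with e | e
      · exact absurd (Subtype.ext e) ha1
      rcases hZel _ h2 with e' | e'
      · exact absurd (Subtype.ext e') hb1
      rw [e, e']
    rcases CfsgLib.TwoGroupsQ.isCyclic_or_quaternion h.pgroup hu with hcy | ⟨-, m, hm, ⟨e⟩⟩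
    · haveI := hcy
      exact absurd ⟨⟨mul_comm'⟩⟩ hab
    · have hm1 : m = 1 := by
        haveI : NeZero (2 ^ m) := ⟨by positivity⟩
        have h1 : orderOf (e.symm (QuaternionGroup.a 1)) = 2 * 2 ^ m := by
          rw [MulEquiv.orderOf_eq, QuaternionGroup.orderOf_a_one]
        have h2 : orderOf (e.symm (QuaternionGroup.a 1)) ∣ 4 := by
          refine orderOf_dvd_of_pow_eq_one (Subtype.ext ?_)
          rw [show 4 = 2 * 2 from rfl, pow_mul, coe_pow, coe_pow]
          exact hsq' _ (h.sq_mem_fixed (e.symm (QuaternionGroup.a 1)).2)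
        rw [h1] at h2
        have h3 := Nat.le_of_dvd (by norm_num) h2
        by_contra hne
        have : 2 ^ 2 ≤ 2 ^ m := Nat.pow_le_pow_right two_pos (by omega)
        omega
      subst hm1
      have h8 : Nat.card R = 8 := by
        rw [Nat.card_congr e.toEquiv, Nat.card_eq_fintype_card, QuaternionGroup.card]
        norm_num
      refine ⟨⟨e.trans (MulEquiv.cast (show 2 ^ 1 = 2 by norm_num))⟩, h8, hZ2, ?_⟩
      by_contra! hcom
      exact hab ⟨⟨fun a b => Subtype.ext (hcom a a.2 b b.2)⟩⟩

end CfsgLib.FGS74.SmallEight
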