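import Cfsg.Agent.FGS74.SmallEightSplit
import Cfsg.Agent.Solvable.Hall
import Cfsg.Agent.PLocal.PSolvable

/-!
# Minimal solvable groups containing a noncyclic abelian subgroup of order eight
-/

set_option autoImplicit false
set_option linter.style.haveILetI false

namespace CfsgLib.FGS74.SmallEight

open Subgroup
open scoped commutatorElement

variable {G : Type*} [Group G] [Finite G] {H : Subgroup G}

theorem Core.central_mem_fixed {R : Subgroup G} (h : Core H R)
    (hne : ∃ i ∈ R, ∃ j ∈ R, i * j ≠ j * i) {r : G} (hr : r ∈ R)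
    (hc : ∀ s ∈ R, r * s = s * r) : r ∈ R ⊓ centralizer (H : Set G) := by
  by_contra hr0
  obtain ⟨g, hg, hgr⟩ := h.exists_moving hr hr0
  set y := g * r * g⁻¹ with hy
  have hyR : y ∈ R := (mem_normalizer_iff.1 (h.norm hg) r).1 hr
  have hy0 : y ∉ R ⊓ centralizer (H : Set G) := fun hh => hr0
    ((mem_normalizer_iff.1 (h.fixed_normal (X := H) h.norm hg) r).2 hh)
  have hry : r * y ∉ R ⊓ centralizer (H : Set G) := fun hh => hgr (by
    have := mul_mem (inv_mem (h.sq_mem_fixed hr)) hh
    rwa [pow_two, mul_inv_rev, mul_assoc, inv_mul_cancel_left] at this)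
  have hyc : ∀ s ∈ R, y * s = s * y := fun s hs => by
    have h1 := hc _ ((mem_normalizer_iff.1 (inv_mem (h.norm hg)) s).1 hs)
    calc y * s = g * (r * (g⁻¹ * s * g⁻¹⁻¹)) * g⁻¹ := by rw [hy]; group
      _ = _ := by rw [h1, hy]; group
  obtain ⟨i, hi, j, hj, hij⟩ := hne
  refine hij ?_
  rcases h.class_cases hr hyR hi hr0 hy0 hry with hh | hh | hh | hh
  · exact h.fixed_central hh hj
  all_goals
    have e1 := h.fixed_central hh hj
    first
      | (have e2 := hc j hj
         have : Commute (r⁻¹ * (r * i)) j := (Commute.inv_left (show Commute r j from e2)).mul_left e1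
         rwa [inv_mul_cancel_left] at this)
      | (have e2 := hyc j hj
         have : Commute (y⁻¹ * (y * i)) j := (Commute.inv_left (show Commute y j from e2)).mul_left e1
         rwa [inv_mul_cancel_left] at this)
      | (have e2 : Commute (r * y) j := (show Commute r j from hc j hj).mul_left (hyc j hj)
         have : Commute ((r * y)⁻¹ * (r * y * i)) j := e2.inv_left.mul_left e1
         rwa [inv_mul_cancel_left] at this)

theorem mem_zpowers_odd_zpow {c : G} (hc : ∃ k, c ^ 2 ^ k = 1) (n : ℤ) :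
    c ∈ zpowers (c ^ (1 - 2 * n)) := by
  obtain ⟨k, hk⟩ := hc
  have hcop : IsCoprime (1 - 2 * n) ((2 : ℤ) ^ k) :=
    IsCoprime.pow_right ⟨1, n, by ring⟩
  obtain ⟨a, b, hab⟩ := hcop
  refine mem_zpowers_iff.2 ⟨a, ?_⟩
  have hk' : c ^ ((2 : ℤ) ^ k) = 1 := by
    rw [show ((2 : ℤ) ^ k) = ((2 ^ k : ℕ) : ℤ) by push_cast; rfl, zpow_natCast, hk]
  rw [← zpow_mul, show (1 - 2 * n) * a = 1 + (-b) * 2 ^ k by linear_combination hab, zpow_add,
    mul_comm (-b), zpow_mul, hk', one_zpow, mul_one, zpow_one]

/-- The structure of a minimal 2-group. -/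
theorem structure_theorem {X : Subgroup G} (hX : IsPGroup 2 X)
    (hHX : H ≤ normalizer (X : Set G)) (hodd : (Nat.card H).Coprime 2) (hnt : ⁅X, H⁆ ≠ ⊥)
    (hA : ∃ A : Subgroup G, A ≤ X ∧ IsMulCommutative A ∧ ¬ IsCyclic A ∧ Nat.card A = 8)
    (hM : ∀ R : Subgroup G, R < X → H ≤ normalizer (R : Set G) → Small R) :
    IsMulCommutative X ∨ (Cfsg.IsExtraspecial 2 X ∧ 32 ≤ Nat.card X) ∨
      (∃ (X₀ : Subgroup G) (k : ℕ), X₀ ≤ X ∧ X₀.relIndex X = 2 ∧
        Nonempty (X₀ ≃* QuaternionGroup (2 ^ (k + 1))) ∧ X₀ ⊔ (X ⊓ centralizer (X₀ : Set G)) = X) ∨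
      (Cfsg.IsSpecial 2 X ∧ Nat.card (center X) = 4) := by
  haveI : Fact (Nat.Prime 2) := ⟨Nat.prime_two⟩
  have hcop : (Nat.card H).Coprime (Nat.card X) :=
    CfsgLib.HallHigman.coprime_card_of_coprime_prime hX hodd
  haveI := hX.isNilpotent
  have hsolv : Group.IsSolvable H ∨ Group.IsSolvable X := Or.inr inferInstance
  have hle : ⁅X, H⁆ ≤ X := CfsgLib.Coprime.commutator_le_of_le_normalizer hHX
  by_cases hlt : ⁅X, H⁆ < X
  · set R := ⁅X, H⁆ with hR
    have hRn : H ≤ normalizer (R : Set G) := normalizer_commutator_ge_right X H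
    have hXR : X ≤ normalizer (R : Set G) := normalizer_commutator_ge_left X H
    have hRsm : Small R := hM R hlt hRn
    have hRnt : ⁅R, H⁆ ≠ ⊥ := by rw [hR, CfsgLib.Coprime.commutator_commutator_eq hHX hcop]; exact hnt
    have h := core_of_small (hX.to_le hle) hRsm hRn hodd hRnt
    set C := X ⊓ centralizer (H : Set G) with hC
    have hXRC : R ⊔ C = X := CfsgLib.Coprime.commutator_sup_centralizer hHX hcop hsolv
    have hsplit := h.split hX hXR hHX
    have hCR : ∀ c ∈ C, c ∈ centralizer (R : Set G) := by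
      intro c hc
      obtain ⟨r, hr, d, hd, hrd⟩ :=
        CfsgLib.Coprime.exists_mul_of_mem_sup (centralizer_le_normalizer _) (hsplit hc.1)
      rcases h.cases with ⟨hel, -, -⟩ | ⟨-, -, -, hij⟩
      · rw [← hrd]
        exact mul_mem (mem_centralizer_iff.2 fun s hs => comm_of_mem hel.1 hs hr) hd
      · have hr0 : r ∈ R ⊓ centralizer (H : Set G) := by
          by_contra hr0
          obtain ⟨g, hg, hgr⟩ := h.exists_moving hr hr0
          refine hgr (h.central_mem_fixed hij
            (mul_mem (inv_mem hr) ((mem_normalizer_iff.1 (h.norm hg) r).1 hr)) fun s hs => ?_)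
          have h1 : g * c * g⁻¹ = c := by
            rw [mem_centralizer_iff.1 hc.2 g hg, mul_inv_cancel_right]
          have hgn : g ∈ normalizer ((centralizer (R : Set G) : Subgroup G) : Set G) := by
            rw [mem_normalizer_iff_conj_image_eq]
            refine Set.eq_of_subset_of_ncard_le ?_ ?_
            · rintro _ ⟨a, ha, rfl⟩
              refine mem_centralizer_iff.2 fun u hu => ?_
              have h2 := mem_centralizer_iff.1 ha _
                ((mem_normalizer_iff.1 (inv_mem (h.norm hg)) u).1 hu)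
              rw [MulAut.conj_apply]
              calc u * (g * a * g⁻¹) = g * (g⁻¹ * u * g⁻¹⁻¹ * a) * g⁻¹ := by group
                _ = _ := by rw [h2]; group
            · exact le_of_eq (Set.ncard_image_of_injective _ (MulAut.conj g).injective).symm
          have hd' : g * d * g⁻¹ ∈ centralizer (R : Set G) := (mem_normalizer_iff.1 hgn d).1 hd
          have e : r⁻¹ * (g * r * g⁻¹) = d * (g * d * g⁻¹)⁻¹ := by
            rw [eq_mul_inv_iff_mul_eq, mul_assoc,
              show g * r * g⁻¹ * (g * d * g⁻¹) = g * (r * d) * g⁻¹ by group, hrd, h1, ← hrd,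
              inv_mul_cancel_left]
          rw [e]
          exact (mem_centralizer_iff.1 (mul_mem hd (inv_mem hd')) s hs).symm
        rw [← hrd]
        exact mul_mem (mem_centralizer_iff.2 fun s hs => (h.fixed_central hr0 hs).symm) hd
    have hproper : ∀ D : Subgroup G, D ≤ C → R ⊓ centralizer (H : Set G) ≤ D → D ≠ C →
        D ≤ R ⊓ centralizer (H : Set G) := by
      intro D hDC hZD hne
      have hlt' : R ⊔ D < X := by
        refine lt_of_le_of_ne (sup_le hle (hDC.trans inf_le_left)) fun e => hne (le_antisymm hDC ?_)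
        intro c hc
        have hc' : c ∈ R ⊔ D := e.symm ▸ hc.1
        obtain ⟨r, hr, d, hd, hrd⟩ := CfsgLib.Coprime.exists_mul_of_mem_sup
          ((hDC.trans inf_le_left).trans hXR) hc'
        have hr0 : r ∈ R ⊓ centralizer (H : Set G) := ⟨hr, by
          rw [show r = c * d⁻¹ by rw [← hrd]; group]
          exact (centralizer (H : Set G)).mul_mem hc.2 ((centralizer (H : Set G)).inv_mem (hDC hd).2)⟩
        rw [← hrd]
        exact mul_mem (hZD hr0) hd
      have hHD : H ≤ normalizer (D : Set G) := fun g hg => by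
        rw [mem_normalizer_iff]
        intro a
        have hcm : ∀ d ∈ D, g * d * g⁻¹ = d := fun d hd => by
          rw [mem_centralizer_iff.1 (hDC hd).2 g hg, mul_inv_cancel_right]
        constructor
        · exact fun ha => by rw [hcm a ha]; exact ha
        · intro ha
          have : a = g * a * g⁻¹ := by
            have h1 := hcm _ ha
            exact mul_left_cancel (mul_right_cancel h1) |>.symm
          rw [this]; exact ha
      have hHRD : H ≤ normalizer ((R ⊔ D : Subgroup G) : Set G) := by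
        rw [← Subgroup.closure_eq R, ← Subgroup.closure_eq D, ← Subgroup.closure_union]
        intro g hg
        rw [mem_normalizer_iff_map_conj_eq, MonoidHom.map_closure, Set.image_union]
        have e1 := mem_normalizer_iff_conj_image_eq.1 (hRn hg)
        have e2 := mem_normalizer_iff_conj_image_eq.1 (hHD hg)
        rw [MonoidHom.coe_coe, e1, e2]
      have hs := hM _ hlt' hHRD
      exact fun d hd => ⟨h.centralizer_le (hX.to_le hlt'.le) hs le_sup_left (mem_sup_right hd)
        (hCR d (hDC hd)), (hDC hd).2⟩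
    rcases h.cases with ⟨hel, -, hb⟩ | ⟨⟨e⟩, h8, -, hij⟩
    · left
      have hCc : IsMulCommutative C := by
        by_cases hC1 : C = ⊥
        · rw [hC1]; exact ⟨⟨fun a b => Subsingleton.elim _ _⟩⟩
        obtain ⟨c, hc, hc1⟩ := SetLike.exists_of_lt (bot_lt_iff_ne_bot.2 hC1)
        have : zpowers c = C := by
          by_contra hne
          have := hproper (zpowers c) (zpowers_le.2 hc) (by rw [hb]; exact bot_le) hne (mem_zpowers c)
          rw [hb] at this
          exact hc1 this
        rw [← this]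
        infer_instance
      rw [← hXRC, ← Subgroup.closure_eq R, ← Subgroup.closure_eq C, ← Subgroup.closure_union]
      refine isMulCommutative_closure ?_
      rintro a (ha | ha) b (hb' | hb')
      · exact comm_of_mem hel.1 ha hb'
      · exact mem_centralizer_iff.1 (hCR b hb') a ha
      · exact (mem_centralizer_iff.1 (hCR a ha) b hb').symm
      · exact comm_of_mem hCc ha hb'
    · right; right; left
      refine ⟨R, 0, hle, ?_, ⟨e.trans (MulEquiv.cast (show 2 = 2 ^ (0 + 1) by norm_num))⟩, ?_⟩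
      · obtain ⟨c, hc, hcR⟩ : ∃ c ∈ C, c ∉ R := by
          by_contra! hall
          exact hlt.ne (le_antisymm hle (hXRC.ge.trans (sup_le le_rfl hall)))
        have hcn : zpowers c ≤ normalizer ((R ⊓ centralizer (H : Set G) : Subgroup G) : Set G) :=
          zpowers_le.2 (h.fixed_normal hXR hc.1)
        have hgenC : (R ⊓ centralizer (H : Set G)) ⊔ zpowers c = C := by
          by_contra hne
          exact hcR ((hproper _ (sup_le (inf_le_inf_right _ hle) (zpowers_le.2 hc)) le_sup_left hne)
            (mem_sup_right (mem_zpowers c))).1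
        have hc2 : c ^ 2 ∈ R := by
          by_contra hc2
          have hne : (R ⊓ centralizer (H : Set G)) ⊔ zpowers (c ^ 2) ≠ C := by
            intro e'
            have hcm : c ∈ (R ⊓ centralizer (H : Set G)) ⊔ zpowers (c ^ 2) := e'.symm ▸ hc
            obtain ⟨z, hz, b, hb, hzb⟩ := CfsgLib.Coprime.exists_mul_of_mem_sup
              (zpowers_le.2 (h.fixed_normal hXR (pow_mem hc.1 2))) hcm
            obtain ⟨n, rfl⟩ := mem_zpowers_iff.1 hb
            have hz' : z = c ^ (1 - 2 * n) := by
              rw [zpow_sub, zpow_one, zpow_mul, zpow_ofNat, eq_mul_inv_iff_mul_eq]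
              exact hzb
            refine hcR ?_
            obtain ⟨k, hk⟩ := hX ⟨c, hc.1⟩
            exact (zpowers_le.2 (hz' ▸ hz.1)) (mem_zpowers_odd_zpow ⟨k, congrArg Subtype.val hk⟩ n)
          exact hc2 ((hproper _ (sup_le (inf_le_inf_right _ hle) (zpowers_le.2 (pow_mem hc 2)))
            le_sup_left hne) (mem_sup_right (mem_zpowers _))).1
        have hform : ∀ x ∈ X, x ∈ R ∨ x * c ∈ R := by
          intro x hx
          have hx' : x ∈ R ⊔ zpowers c := by
            have : X ≤ R ⊔ zpowers c :=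
              hXRC.ge.trans (sup_le le_sup_left (hgenC.ge.trans (sup_le (inf_le_left.trans le_sup_left) le_sup_right)))
            exact this hx
          obtain ⟨r, hr, b, hb, rfl⟩ :=
            CfsgLib.Coprime.exists_mul_of_mem_sup (zpowers_le.2 (hXR hc.1)) hx'
          obtain ⟨n, rfl⟩ := mem_zpowers_iff.1 hb
          have hc2z : c ^ (2 : ℤ) ∈ R := by rw [zpow_ofNat]; exact hc2
          rcases Int.even_or_odd n with ⟨m, rfl⟩ | ⟨m, rfl⟩
          · left
            rw [← two_mul, zpow_mul]
            exact mul_mem hr (zpow_mem hc2z m)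
          · right
            rw [mul_assoc, ← zpow_add_one, show (2 * m + 1 + 1 : ℤ) = 2 * (m + 1) by ring, zpow_mul]
            exact mul_mem hr (zpow_mem hc2z _)
        rw [relIndex, index_eq_two_iff]
        refine ⟨⟨c, hc.1⟩, fun b => ?_⟩
        simp only [mem_subgroupOf, coe_mul]
        rcases hform b b.2 with hb | hb
        · exact Or.inr ⟨hb, fun hh => hcR (by simpa using mul_mem (inv_mem hb) hh)⟩
        · exact Or.inl ⟨hb, fun hh => hcR (by simpa using mul_mem (inv_mem hh) hb)⟩
      · refine le_antisymm (sup_le hle inf_le_left) ?_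
        refine hXRC.ge.trans (sup_le le_sup_left ?_)
        exact fun c hc => mem_sup_right ⟨hc.1, hCR c hc⟩
  have hXH : ⁅X, H⁆ = X := eq_of_le_of_not_lt hle hlt
  by_cases hab : IsMulCommutative X
  · exact Or.inl hab
  have hXne : X ≠ ⊥ := fun e => hnt (by rw [e, Subgroup.commutator_bot_left])
  set F := (frattini X).map X.subtype with hF
  have hFlt : F < X := CfsgLib.HallHigman.map_frattini_lt hXne
  have hXF : X ≤ normalizer (F : Set G) := CfsgLib.HallHigman.le_normalizer_map_char le_normalizer _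
  have hHF : H ≤ normalizer (F : Set G) := CfsgLib.HallHigman.le_normalizer_map_char hHX _
  have hfixF : X ⊓ centralizer (H : Set G) ≤ F := by
    refine (CfsgLib.HallHigman.inf_centralizer_le_commutator hHX hcop hXH).trans ?_
    rw [← map_subtype_commutator]
    exact map_mono (CfsgLib.Solvable.commutator_le_frattini hX)
  have hFsm : Small F := hM F hFlt hHF
  -- `F` is central
  have hFc : ∀ f ∈ F, ∀ x ∈ X, x * f = f * x := by
    suffices hcent : ⁅X, F⁆ = ⊥ by
      intro f hf x hx
      exact (mem_centralizer_iff.1 (commutator_eq_bot_iff_le_centralizer.1 hcent hx) f hf).symm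
    by_cases hFH : ⁅F, H⁆ = ⊥
    · have h1 : ⁅⁅H, F⁆, X⁆ = ⊥ := by
        rw [Subgroup.commutator_comm H, hFH, Subgroup.commutator_bot_left]
      have h2 : ⁅⁅F, X⁆, H⁆ = ⊥ := by
        rw [eq_bot_iff, ← hFH]
        refine commutator_mono ?_ le_rfl
        rw [Subgroup.commutator_comm, ← le_normalizer_iff_commutator_le_right]
        exact hXF
      have h3 := commutator_commutator_eq_bot_of_rotate (H₁ := X) (H₂ := H) (H₃ := F) h1 h2
      rwa [hXH] at h3
    · have h := core_of_small (hX.to_le hFlt.le) hFsm hHF hodd hFH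
      have hsplit := h.split hX hXF hHX
      have htop : (X ⊓ centralizer (F : Set G)).subgroupOf X ⊔ frattini X = ⊤ := by
        refine eq_top_iff.2 fun x _ => ?_
        obtain ⟨f, hf, d, hd, hfd⟩ :=
          CfsgLib.Coprime.exists_mul_of_mem_sup (centralizer_le_normalizer _) (hsplit x.2)
        obtain ⟨f', hf', rfl⟩ := hf
        have hdX : d ∈ X := by
          rw [show d = (X.subtype f')⁻¹ * (x : G) by rw [← hfd]; group]
          exact mul_mem (inv_mem f'.2) x.2
        rw [sup_comm]
        rw [show x = f' * ⟨d, hdX⟩ from Subtype.ext hfd.symm]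
        exact mul_mem_sup hf' ⟨hdX, hd⟩
      have htop' := frattini_nongenerating htop
      rw [subgroupOf_eq_top] at htop'
      exact commutator_eq_bot_iff_le_centralizer.2 (htop'.trans inf_le_right)
  have hcen : frattini X ≤ center X := fun f hf =>
    mem_center_iff.2 fun x => Subtype.ext (hFc _ ⟨f, hf, rfl⟩ x x.2)
  have hcl : ∀ a b : X, ⁅a, b⁆ ∈ center X := fun a b => hcen (CfsgLib.Solvable.commutator_le_frattini hX
    (commutator_mem_commutator (mem_top a) (mem_top b)))
  have hsqc : ∀ a : X, a ^ 2 ∈ center X := fun a => hcen (CfsgLib.Solvable.pow_mem_frattini hX a)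
  have hcomm2 : ∀ a b : X, ⁅a, b⁆ ^ 2 = 1 := fun a b => by
    rw [← CfsgLib.HallHigman.commutatorElement_pow_class_two (hcl a b), commutatorElement_eq_one_iff_mul_comm]
    exact (mem_center_iff.1 (hsqc a) b).symm
  have hmul2 : ∀ a b : X, (a * b) ^ 2 = a ^ 2 * b ^ 2 * ⁅b, a⁆ := fun a b => by
    rw [CfsgLib.HallHigman.mul_pow_class_two a b (hcl b a) 2, Nat.choose_self, pow_one]
  -- squares are involutions
  have hfour : ∀ a : X, (a ^ 2) ^ 2 = 1 := by
    by_cases hFH : ⁅F, H⁆ = ⊥
    · let T : Subgroup X :=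
        { carrier := {a | (a ^ 2) ^ 2 = 1}
          one_mem' := by simp
          mul_mem' := fun {a b} ha hb => by
            show ((a * b) ^ 2) ^ 2 = 1
            rw [hmul2, Commute.mul_pow (mem_center_iff.1 (hcl b a) _),
              Commute.mul_pow (mem_center_iff.1 (hsqc b) _),
              show (a ^ 2) ^ 2 = 1 from ha, show (b ^ 2) ^ 2 = 1 from hb, hcomm2, one_mul, one_mul]
          inv_mem' := fun {a} ha => by
            show ((a⁻¹) ^ 2) ^ 2 = 1
            rw [inv_pow, inv_pow, show (a ^ 2) ^ 2 = 1 from ha, inv_one] }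
      have hXT : X ≤ T.map X.subtype := by
        conv_lhs => rw [← hXH]
        rw [Subgroup.commutator_le]
        intro a ha g hg
        have hga : g * a⁻¹ * g⁻¹ ∈ X := (mem_normalizer_iff.1 (hHX hg) _).1 (inv_mem ha)
        refine ⟨⟨a, ha⟩ * ⟨g * a⁻¹ * g⁻¹, hga⟩, ?_, by simp [commutatorElement_def, mul_assoc]⟩
        show (((⟨a, ha⟩ : X) * ⟨g * a⁻¹ * g⁻¹, hga⟩) ^ 2) ^ 2 = 1
        rw [hmul2, Commute.mul_pow (mem_center_iff.1 (hcl _ _) _),
          Commute.mul_pow (mem_center_iff.1 (hsqc _) _), hcomm2, mul_one]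
        refine Subtype.ext ?_
        simp only [coe_mul, coe_pow, OneMemClass.coe_one]
        have hf : (a ^ 2) ^ 2 ∈ centralizer (H : Set G) := by
          refine commutator_eq_bot_iff_le_centralizer.1 hFH (pow_mem ?_ 2)
          exact ⟨⟨a, ha⟩ ^ 2, CfsgLib.Solvable.pow_mem_frattini hX _, rfl⟩
        rw [conj_pow, conj_pow, inv_pow, inv_pow, mem_centralizer_iff.1 (inv_mem hf) g hg,
          mul_inv_cancel_right, mul_inv_cancel]
      intro a
      obtain ⟨b, hb, e⟩ := hXT a.2
      rw [← Subtype.ext e]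
      exact hb
    · have h := core_of_small (hX.to_le hFlt.le) hFsm hHF hodd hFH
      rcases h.cases with ⟨hel, -, -⟩ | ⟨-, -, -, i, hi, j, hj, hij⟩
      · intro a
        refine Subtype.ext ?_
        exact hel.2 _ ⟨a ^ 2, CfsgLib.Solvable.pow_mem_frattini hX _, rfl⟩
      · exact absurd (hFc j hj i (hFlt.le hi)) hij
  -- the Frattini subgroup is elementary
  have hFel : ∀ f ∈ frattini X, f ^ 2 = 1 := by
    let N : Subgroup X :=
      { carrier := {f | f ∈ center X ∧ f ^ 2 = 1}
        one_mem' := ⟨one_mem _, one_pow 2⟩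
        mul_mem' := fun {a b} ha hb => ⟨mul_mem ha.1 hb.1, by
          rw [Commute.mul_pow (mem_center_iff.1 hb.1 a), ha.2, hb.2, one_mul]⟩
        inv_mem' := fun {a} ha => ⟨inv_mem ha.1, by rw [inv_pow, ha.2, inv_one]⟩ }
    have hN : frattini X ≤ N := CfsgLib.Solvable.frattini_le_of_elementary (p := 2) (by
      rw [_root_.commutator_def, Subgroup.commutator_le]
      exact fun a _ b _ => ⟨hcl a b, hcomm2 a b⟩) fun a => ⟨hsqc a, hfour a⟩
    exact fun f hf => (hN hf).2
  have hFel' : ∀ f ∈ F, f ^ 2 = 1 := by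
    rintro _ ⟨f, hf, rfl⟩
    exact congrArg Subtype.val (hFel f hf)
  have hFcomm : IsMulCommutative F :=
    ⟨⟨fun a b => Subtype.ext (hFc _ b.2 _ (hFlt.le a.2))⟩⟩
  have hF4 : Nat.card F ≤ 4 := by
    by_cases hcy : IsCyclic F
    · obtain ⟨g, hg⟩ := hcy.exists_generator
      rw [← orderOf_eq_card_of_forall_mem_zpowers hg]
      exact (Nat.le_of_dvd two_pos (orderOf_dvd_of_pow_eq_one (Subtype.ext (hFel' g g.2)))).trans
        (by norm_num)
    · exact card_le_four (hX.to_le hFlt.le) hFsm le_rfl hFcomm hcy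
  have hFbot : frattini X ≠ ⊥ := fun e => hab ⟨⟨fun a b => by
    rw [← commutatorElement_eq_one_iff_mul_comm, ← mem_bot (G := X), ← e]
    exact CfsgLib.Solvable.commutator_le_frattini hX (commutator_mem_commutator (mem_top a) (mem_top b))⟩⟩
  have htwo : ∀ U : Subgroup G, Nat.card U = 2 → H ≤ normalizer (U : Set G) →
      U ≤ centralizer (H : Set G) := by
    intro U hU hUn u hu
    refine mem_centralizer_iff.2 fun g hg => ?_
    by_cases hu1 : u = 1
    · rw [hu1, mul_one, one_mul]
    have hmem : g * u * g⁻¹ ∈ U := (mem_normalizer_iff.1 (hUn hg) u).1 hu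
    classical
    haveI := Fintype.ofFinite U
    have : g * u * g⁻¹ = u := by
      by_contra hne
      have h3 : ({1, ⟨u, hu⟩, ⟨_, hmem⟩} : Finset U).card = 3 := by
        rw [Finset.card_insert_of_notMem, Finset.card_insert_of_notMem, Finset.card_singleton]
        · simp [Ne.symm hne]
        · simp only [Finset.mem_insert, Finset.mem_singleton, not_or]
          exact ⟨fun e => hu1 (congrArg Subtype.val e).symm,
            fun e => hu1 (conj_eq_one_iff.1 (congrArg Subtype.val e).symm)⟩
      have := h3.ge.trans (Finset.card_le_univ _)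
      rw [← Nat.card_eq_fintype_card, hU] at this
      omega
    exact mul_inv_eq_iff_eq_mul.1 this
  -- the centre
  have hZ : frattini X = center X := by
    refine le_antisymm hcen ?_
    by_contra hne
    set Z := (center X).map X.subtype with hZ
    have hFZ : F < Z := by
      refine lt_of_le_of_ne (map_mono hcen) fun e => hne ?_
      exact map_subtype_le_map_subtype.1 e.ge
    have hZlt : Z < X := by
      refine lt_of_le_of_ne (map_subtype_le _) fun e => hab ?_
      have : center X = ⊤ := map_subtype_inj.1 (e.trans (by rw [← MonoidHom.range_eq_map, X.range_subtype]))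
      exact ⟨⟨fun a b => (mem_center_iff.1 (this ▸ mem_top b) a)⟩⟩
    have hHZ : H ≤ normalizer (Z : Set G) := CfsgLib.HallHigman.le_normalizer_map_char hHX _
    by_cases hZH : ⁅Z, H⁆ = ⊥
    · exact hFZ.not_ge fun z hz => hfixF ⟨hZlt.le hz, commutator_eq_bot_iff_le_centralizer.1 hZH hz⟩
    have h := core_of_small (hX.to_le hZlt.le) (hM Z hZlt hHZ) hHZ hodd hZH
    rcases h.cases with ⟨-, h4, hb⟩ | ⟨-, -, -, i, hi, j, hj, hij⟩
    · obtain ⟨m, hm⟩ := IsPGroup.iff_card.1 (hX.to_le hFlt.le)
      have hlt' : Nat.card F < 4 := by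
        rw [← h4]
        exact lt_of_le_of_ne (Nat.le_of_dvd Nat.card_pos (card_dvd_of_le hFZ.le))
          fun e => hFZ.ne (eq_of_le_of_card_ge hFZ.le e.ge)
      have hF2 : Nat.card F = 2 := by
        rw [hm] at hlt' ⊢
        rcases m with _ | _ | m
        · exfalso
          apply hFbot
          rw [← map_eq_bot_iff_of_injective _ X.subtype_injective, ← hF, ← card_eq_one, hm, pow_zero]
        · rfl
        · have : 4 ≤ 2 ^ (m + 1 + 1) :=
            (show 4 = 2 ^ 2 by norm_num).trans_le (Nat.pow_le_pow_right two_pos (by omega))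
          omega
      have hle' : F ≤ Z ⊓ centralizer (H : Set G) := le_inf hFZ.le (htwo F hF2 hHF)
      rw [hb, le_bot_iff] at hle'
      rw [hle', card_bot] at hF2
      omega
    · obtain ⟨i', hi', rfl⟩ := hi
      obtain ⟨j', -, rfl⟩ := hj
      exact hij (congrArg Subtype.val (mem_center_iff.1 hi' j')).symm
  have hD : commutator X = frattini X := by
    refine le_antisymm (CfsgLib.Solvable.commutator_le_frattini hX) ?_
    by_contra hne
    set D := (commutator X).map X.subtype with hDdef
    have hDF : D < F := lt_of_le_of_ne (map_mono (CfsgLib.Solvable.commutator_le_frattini hX))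
      fun e => hne (map_subtype_le_map_subtype.1 e.ge)
    obtain ⟨m, hm⟩ := IsPGroup.iff_card.1 (hX.to_le (hDF.le.trans hFlt.le))
    have hlt' : Nat.card D < 4 := lt_of_lt_of_le
      (lt_of_le_of_ne (Nat.le_of_dvd Nat.card_pos (card_dvd_of_le hDF.le))
        fun e => hDF.ne (eq_of_le_of_card_ge hDF.le e.ge)) hF4
    have hD2 : Nat.card D = 2 := by
      rw [hm] at hlt' ⊢
      rcases m with _ | _ | m
      · exfalso
        refine hab ⟨⟨fun a b => ?_⟩⟩
        have hbot : commutator X = ⊥ := by
          rw [← map_eq_bot_iff_of_injective _ X.subtype_injective, ← hDdef, ← card_eq_one, hm, pow_zero]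
        rw [← commutatorElement_eq_one_iff_mul_comm, ← mem_bot (G := X), ← hbot]
        exact commutator_mem_commutator (mem_top a) (mem_top b)
      · rfl
      · have : 4 ≤ 2 ^ (m + 1 + 1) :=
          (show 4 = 2 ^ 2 by norm_num).trans_le (Nat.pow_le_pow_right two_pos (by omega))
        omega
    have hFH : ⁅F, H⁆ = ⊥ := by
      by_contra hFH
      have h := core_of_small (hX.to_le hFlt.le) hFsm hHF hodd hFH
      rcases h.cases with ⟨-, -, hb⟩ | ⟨-, -, -, i, hi, j, hj, hij⟩
      · have hle' : D ≤ F ⊓ centralizer (H : Set G) :=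
          le_inf hDF.le (htwo D hD2 (CfsgLib.HallHigman.le_normalizer_map_char hHX _))
        rw [hb, le_bot_iff] at hle'
        rw [hle', card_bot] at hD2
        omega
      · exact hij (hFc j hj i (hFlt.le hi))
    let T : Subgroup X :=
      { carrier := {a | a ^ 2 ∈ commutator X}
        one_mem' := by simp
        mul_mem' := fun {a b} ha hb => by
          show (a * b) ^ 2 ∈ commutator X
          rw [hmul2]
          exact mul_mem (mul_mem ha hb) (commutator_mem_commutator (mem_top _) (mem_top _))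
        inv_mem' := fun {a} ha => by
          show a⁻¹ ^ 2 ∈ commutator X
          rw [inv_pow]
          exact inv_mem ha }
    have hXT : X ≤ T.map X.subtype := by
      conv_lhs => rw [← hXH]
      rw [Subgroup.commutator_le]
      intro a ha g hg
      have hga : g * a⁻¹ * g⁻¹ ∈ X := (mem_normalizer_iff.1 (hHX hg) _).1 (inv_mem ha)
      refine ⟨⟨a, ha⟩ * ⟨g * a⁻¹ * g⁻¹, hga⟩, ?_, by simp [commutatorElement_def, mul_assoc]⟩
      show ((⟨a, ha⟩ : X) * ⟨g * a⁻¹ * g⁻¹, hga⟩) ^ 2 ∈ commutator X
      rw [hmul2]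
      refine mul_mem ?_ (commutator_mem_commutator (mem_top _) (mem_top _))
      have hf : a ^ 2 ∈ centralizer (H : Set G) :=
        commutator_eq_bot_iff_le_centralizer.1 hFH
          ⟨⟨a, ha⟩ ^ 2, CfsgLib.Solvable.pow_mem_frattini hX _, rfl⟩
      have : (⟨a, ha⟩ : X) ^ 2 * (⟨g * a⁻¹ * g⁻¹, hga⟩ : X) ^ 2 = 1 := Subtype.ext (by
        simp only [coe_mul, coe_pow, OneMemClass.coe_one]
        rw [conj_pow, inv_pow, mem_centralizer_iff.1 (inv_mem hf) g hg, mul_inv_cancel_right,
          mul_inv_cancel])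
      rw [this]
      exact one_mem _
    exact hne (CfsgLib.Solvable.frattini_le_of_elementary (p := 2) le_rfl fun a => by
      obtain ⟨b, hb, e⟩ := hXT a.2
      rw [← Subtype.ext e]
      exact hb)
  have hspec : Cfsg.IsSpecial 2 X := ⟨hX, hZ, hD.trans hZ⟩
  have hZcard : Nat.card F = Nat.card (center X) := by
    rw [hF, card_map_of_injective X.subtype_injective, hZ]
  obtain ⟨m, hm⟩ := IsPGroup.iff_card.1 (hX.to_le hFlt.le)
  rw [hm] at hZcard hF4
  have hm2 : m = 1 ∨ m = 2 := by
    rcases m with _ | _ | _ | m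
    · exfalso
      apply hFbot
      rw [← map_eq_bot_iff_of_injective _ X.subtype_injective, ← hF, ← card_eq_one, hm, pow_zero]
    · exact Or.inl rfl
    · exact Or.inr rfl
    · have : 8 ≤ 2 ^ (m + 1 + 1 + 1) :=
        (show 8 = 2 ^ 3 by norm_num).trans_le (Nat.pow_le_pow_right two_pos (by omega))
      omega
  rcases hm2 with rfl | rfl
  · refine Or.inr (Or.inl ?_)
    have hext : Cfsg.IsExtraspecial 2 X := ⟨hspec, by rw [← hZcard]; norm_num⟩
    refine ⟨hext, ?_⟩
    obtain ⟨n, hn, hcard⟩ := CfsgLib.ExtraspecialBasic.exists_card_eq hext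
    rw [hcard]
    have : 2 ≤ n := by
      by_contra hlt2
      have hn1 : n = 1 := by omega
      subst hn1
      obtain ⟨A, hAX, hAc, -, hA8⟩ := hA
      have : A = X := eq_of_le_of_card_ge hAX (by rw [hA8, hcard]; norm_num)
      exact hab (this ▸ hAc)
    calc 32 = 2 ^ 5 := by norm_num
      _ ≤ _ := Nat.pow_le_pow_right two_pos (by omega)
  · exact Or.inr (Or.inr (Or.inr ⟨hspec, by rw [← hZcard]; norm_num⟩))

/-- A 2-group normalising a small self-centralising core has no larger such abelian subgroup. -/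
theorem no_abelian_eight {Q T A : Subgroup G} (h : Core H Q) (hT : IsPGroup 2 T)
    (hTQ : T ≤ normalizer (Q : Set G)) (hC : centralizer (Q : Set G) ≤ Q) (hAT : A ≤ T)
    (hAc : IsMulCommutative A) (hnc : ¬ IsCyclic A) (hA8 : Nat.card A = 8) : False := by
  haveI : Fact (Nat.Prime 2) := ⟨Nat.prime_two⟩
  have hQC : Q ⊔ centralizer (Q : Set G) = Q := sup_eq_left.2 hC
  have hin : ∀ {x y : G}, x ∈ T → y ∈ T → x ∉ Q → y ∉ Q → x⁻¹ * y ∈ Q := fun {x y} hx hy hxQ hyQ => by
    have := h.index_two hT hTQ hx hy (by rwa [hQC]) (by rwa [hQC])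
    rwa [hQC] at this
  have hAQ4 : 4 ≤ Nat.card (A ⊓ Q : Subgroup G) := by
    by_cases hle : A ≤ Q
    · rw [inf_eq_left.2 hle, hA8]; norm_num
    obtain ⟨a, ha, haQ⟩ := SetLike.not_le_iff_exists.1 hle
    have hidx : ((A ⊓ Q).subgroupOf A).index = 2 := by
      rw [index_eq_two_iff]
      refine ⟨⟨a, ha⟩⁻¹, fun b => ?_⟩
      simp only [mem_subgroupOf, coe_mul, coe_inv, mem_inf]
      by_cases hb : (b : G) ∈ Q
      · exact Or.inr ⟨⟨b.2, hb⟩, fun hh => haQ (by
          have := mul_mem (inv_mem hb) hh.2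
          rw [inv_mul_cancel_left] at this
          exact inv_mem_iff.1 this)⟩
      · refine Or.inl ⟨⟨mul_mem b.2 (inv_mem ha), ?_⟩, fun hh => hb hh.2⟩
        have := hin (hAT ha) (hAT b.2) haQ hb
        rwa [comm_of_mem hAc (inv_mem ha) b.2] at this
    have := ((A ⊓ Q).subgroupOf A).card_mul_index
    rw [hidx, Nat.card_congr (subgroupOfEquivOfLe inf_le_left).toEquiv, hA8] at this
    omega
  have hAQc : IsMulCommutative (A ⊓ Q : Subgroup G) :=
    ⟨⟨fun a b => Subtype.ext (comm_of_mem hAc a.2.1 b.2.1)⟩⟩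
  rcases h.cases with ⟨-, h4, -⟩ | ⟨-, h8, h2, hij⟩
  · have hAQ : A ⊓ Q = Q := eq_of_le_of_card_ge inf_le_right (h4.trans_le hAQ4)
    have hle : A ≤ Q := fun a ha => hC (mem_centralizer_iff.2 fun q hq =>
      comm_of_mem hAc ((hAQ.ge hq).1) ha)
    have := Nat.le_of_dvd Nat.card_pos (card_dvd_of_le hle)
    omega
  · set Z := Q ⊓ centralizer (H : Set G) with hZdef
    obtain ⟨i, hi, hi0⟩ : ∃ i ∈ A ⊓ Q, i ∉ Z := by
      by_contra! hall
      have := Nat.le_of_dvd Nat.card_pos (card_dvd_of_le (show A ⊓ Q ≤ Z from hall))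
      omega
    have hi2 : i ^ 2 ≠ 1 := by
      intro e
      -- all involutions of `Q` are central
      obtain ⟨g, hg, hgi⟩ := h.exists_moving hi.2 hi0
      have hQ8 : ∀ u : QuaternionGroup 2, u ^ 2 = 1 → ∀ v, u * v = v * u := by decide +kernel
      obtain ⟨f⟩ : Nonempty (Q ≃* QuaternionGroup 2) := by
        rcases h.cases with ⟨-, h4, -⟩ | ⟨hf, -⟩
        · omega
        · exact hf
      refine hi0 (h.central_mem_fixed hij hi.2 fun s hs => ?_)
      have := hQ8 (f ⟨i, hi.2⟩) (by rw [← map_pow]; simp [Subtype.ext_iff, e]) (f ⟨s, hs⟩)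
      rw [← map_mul, ← map_mul] at this
      exact congrArg Subtype.val (f.injective this)
    -- an involution outside `Q`
    obtain ⟨u, huA, hu2, huQ⟩ : ∃ u ∈ A, u ^ 2 = 1 ∧ u ∉ Q := by
      by_contra! hall
      obtain ⟨u, hu, v, hv, hu2, hv2, hu1, hv1, huv⟩ := exists_involutions (hT.to_le hAT) hAc hnc
      have hcen : ∀ w, w ∈ A → w ^ 2 = 1 → w ∈ Z := fun w hw hw2 => by
        have hwQ := hall w hw hw2
        obtain ⟨f⟩ : Nonempty (Q ≃* QuaternionGroup 2) := by
          rcases h.cases with ⟨-, h4, -⟩ | ⟨hf, -⟩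
          · omega
          · exact hf
        have hQ8 : ∀ u : QuaternionGroup 2, u ^ 2 = 1 → ∀ v, u * v = v * u := by decide +kernel
        refine h.central_mem_fixed hij hwQ fun s hs => ?_
        have := hQ8 (f ⟨w, hwQ⟩) (by rw [← map_pow]; simp [Subtype.ext_iff, hw2]) (f ⟨s, hs⟩)
        rw [← map_mul, ← map_mul] at this
        exact congrArg Subtype.val (f.injective this)
      classical
      haveI := Fintype.ofFinite Z
      have h3 : ({1, ⟨u, hcen u hu hu2⟩, ⟨v, hcen v hv hv2⟩} : Finset Z).card = 3 := by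
        rw [Finset.card_insert_of_notMem, Finset.card_insert_of_notMem, Finset.card_singleton]
        · simp [huv]
        · simp only [Finset.mem_insert, Finset.mem_singleton, not_or]
          exact ⟨fun e => hu1 (congrArg Subtype.val e).symm, fun e => hv1 (congrArg Subtype.val e).symm⟩
      have := h3.ge.trans (Finset.card_le_univ _)
      rw [← Nat.card_eq_fintype_card, h2] at this
      omega
    obtain ⟨g, hg, hgi⟩ := h.exists_moving hi.2 hi0
    set j := g * i * g⁻¹ with hj
    have hjQ : j ∈ Q := (mem_normalizer_iff.1 (h.norm hg) i).1 hi.2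
    have hj0 : j ∉ Z := fun hh => hi0
      ((mem_normalizer_iff.1 (h.fixed_normal (X := H) h.norm hg) i).2 hh)
    have hij0 : i * j ∉ Z := fun hh => hgi (by
      have := mul_mem (inv_mem (h.sq_mem_fixed hi.2)) hh
      rwa [pow_two, mul_inv_rev, mul_assoc, inv_mul_cancel_left] at this)
    have hui : u * i * u⁻¹ = i := by rw [comm_of_mem hAc huA hi.1, mul_inv_cancel_right]
    have huN : u ∈ normalizer (Q : Set G) := hTQ (hAT huA)
    have huz : ∀ z ∈ Z, u * z * u⁻¹ = z := by
      intro z hz
      have hmem : u * z * u⁻¹ ∈ Z :=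
        (mem_normalizer_iff.1 (h.fixed_normal (zpowers_le.2 huN) (mem_zpowers u)) z).1 hz
      classical
      haveI := Fintype.ofFinite Z
      by_contra hne
      by_cases hz1 : z = 1
      · exact hne (by rw [hz1, mul_one, mul_inv_cancel])
      have h3 : ({1, ⟨z, hz⟩, ⟨_, hmem⟩} : Finset Z).card = 3 := by
        rw [Finset.card_insert_of_notMem, Finset.card_insert_of_notMem, Finset.card_singleton]
        · simp [Ne.symm hne]
        · simp only [Finset.mem_insert, Finset.mem_singleton, not_or]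
          exact ⟨fun e => hz1 (congrArg Subtype.val e).symm,
            fun e => hz1 (conj_eq_one_iff.1 (congrArg Subtype.val e).symm)⟩
      have := h3.ge.trans (Finset.card_le_univ _)
      rw [← Nat.card_eq_fintype_card, h2] at this
      omega
    have huj : u * j * u⁻¹ ∈ Q := (mem_normalizer_iff.1 huN j).1 hjQ
    have hfixj : u * j * u⁻¹ * j⁻¹ ∈ Z → u ∈ Q := by
      intro hh
      have hsub : ∀ r ∈ Q, u * r * u⁻¹ * r⁻¹ ∈ Z := by
        intro r hr
        have hz0 : ∀ z ∈ Z, u * z * u⁻¹ * z⁻¹ ∈ Z := fun z hz => by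
          rw [huz z hz, mul_inv_cancel]; exact one_mem _
        have hmulf : ∀ a b, a ∈ Q → u * a * u⁻¹ * a⁻¹ ∈ Z → u * b * u⁻¹ * b⁻¹ ∈ Z →
            u * (a * b) * u⁻¹ * (a * b)⁻¹ ∈ Z := fun a b ha h1 h3 => by
          rw [show u * (a * b) * u⁻¹ * (a * b)⁻¹
            = u * a * u⁻¹ * a⁻¹ * (a * (u * b * u⁻¹ * b⁻¹) * a⁻¹) by group]
          exact mul_mem h1 ((mem_normalizer_iff.1 (h.fixed_normal (X := Q) le_normalizer ha) _).1 h3)
        have hinvf : ∀ a, a ∈ Q → u * a * u⁻¹ * a⁻¹ ∈ Z → u * a⁻¹ * u⁻¹ * a⁻¹⁻¹ ∈ Z := fun a ha h1 => by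
          rw [show u * a⁻¹ * u⁻¹ * a⁻¹⁻¹ = a⁻¹ * (u * a * u⁻¹ * a⁻¹)⁻¹ * a⁻¹⁻¹ by group]
          exact (mem_normalizer_iff.1 (h.fixed_normal (X := Q) le_normalizer (inv_mem ha)) _).1 (inv_mem h1)
        have hi' : u * i * u⁻¹ * i⁻¹ ∈ Z := by rw [hui, mul_inv_cancel]; exact one_mem _
        rcases h.class_cases hi.2 hjQ hr hi0 hj0 hij0 with a | a | a | a
        · exact hz0 r a
        · have := hmulf _ _ (inv_mem hi.2) (hinvf i hi.2 hi') (hz0 _ a)
          rwa [inv_mul_cancel_left] at this
        · have := hmulf _ _ (inv_mem hjQ) (hinvf j hjQ hh) (hz0 _ a)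
          rwa [inv_mul_cancel_left] at this
        · have := hmulf _ _ (inv_mem (mul_mem hi.2 hjQ))
            (hinvf _ (mul_mem hi.2 hjQ) (hmulf i j hi.2 hi' hh)) (hz0 _ a)
          rwa [inv_mul_cancel_left] at this
      have := h.inner huN hsub
      rwa [hQC] at this
    rcases h.class_cases hi.2 hjQ huj hi0 hj0 hij0 with a | a | a | a
    · exact hj0 ((mem_normalizer_iff.1 (h.fixed_normal (zpowers_le.2 huN) (mem_zpowers u)) j).2 a)
    · have h1 : u * (i * j) * u⁻¹ ∈ Z := by
        rw [show u * (i * j) * u⁻¹ = u * i * u⁻¹ * (u * j * u⁻¹) by group, hui]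
        exact a
      exact hij0 ((mem_normalizer_iff.1 (h.fixed_normal (zpowers_le.2 huN) (mem_zpowers u)) _).2 h1)
    · refine huQ (hfixj ?_)
      have := mul_mem (inv_mem (h.sq_mem_fixed hjQ)) a
      rw [pow_two, mul_inv_rev, mul_assoc, inv_mul_cancel_left] at this
      have e := (mem_normalizer_iff.1 (h.fixed_normal (X := Q) le_normalizer hjQ) _).1 this
      rwa [show j * (j⁻¹ * (u * j * u⁻¹)) * j⁻¹ = u * j * u⁻¹ * j⁻¹ by group] at e
    · obtain ⟨z, hz, hzw⟩ : ∃ z ∈ Z, u * j * u⁻¹ = (i * j)⁻¹ * z := ⟨_, a, by group⟩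
      have h1 : u * (u * j * u⁻¹) * u⁻¹ = j := by
        rw [show u * (u * j * u⁻¹) * u⁻¹ = (u * u) * j * (u * u)⁻¹ by group, ← pow_two, hu2,
          one_mul, inv_one, mul_one]
      rw [hzw, show u * ((i * j)⁻¹ * z) * u⁻¹
        = (u * i * u⁻¹ * (u * j * u⁻¹))⁻¹ * (u * z * u⁻¹) by group, hui, hzw, huz z hz,
        show (i * ((i * j)⁻¹ * z))⁻¹ * z = z⁻¹ * (i * j) * i⁻¹ * z by group] at h1
      have hzc : z⁻¹ * (i * j * i⁻¹) = (i * j * i⁻¹) * z⁻¹ :=
        h.fixed_central (inv_mem hz) (mul_mem (mul_mem hi.2 hjQ) (inv_mem hi.2))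
      rw [show z⁻¹ * (i * j) * i⁻¹ * z = z⁻¹ * (i * j * i⁻¹) * z by group, hzc,
        inv_mul_cancel_right] at h1
      -- `i` and `j` commute, so `Q` is commutative
      refine hi2 ?_
      exfalso
      have hcom : Commute i j := mul_inv_eq_iff_eq_mul.1 h1
      refine hi0 (h.central_mem_fixed hij hi.2 fun s hs => ?_)
      rcases h.class_cases hi.2 hjQ hs hi0 hj0 hij0 with b | b | b | b
      · exact (h.fixed_central b hi.2).symm
      · have := (Commute.refl i).inv_left.mul_left (show Commute (i * s) i from h.fixed_central b hi.2)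
        rw [inv_mul_cancel_left] at this
        exact this.symm
      · have := hcom.symm.inv_left.mul_left (show Commute (j * s) i from h.fixed_central b hi.2)
        rw [inv_mul_cancel_left] at this
        exact this.symm
      · have := ((Commute.refl i).mul_left hcom.symm).inv_left.mul_left
          (show Commute (i * j * s) i from h.fixed_central b hi.2)
        rw [inv_mul_cancel_left] at this
        exact this.symm

end CfsgLib.FGS74.SmallEight
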