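import Cfsg.Agent.FGS74.SmallEight

/-!
# Normalisers of cores

A 2-group normalising a core induces at most two classes of automorphisms, and only inner ones if it
is normalised by the acting group.
-/

set_option autoImplicit false
set_option linter.style.haveILetI false

namespace CfsgLib.FGS74.SmallEight

open Subgroup
open scoped commutatorElement

variable {G : Type*} [Group G] [Finite G] {H R : Subgroup G}

local notation "Z₀" => R ⊓ centralizer (H : Set G)

theorem Core.card_eq (h : Core H R) :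
    Nat.card R = 4 * Nat.card (R ⊓ centralizer (H : Set G) : Subgroup G) := by
  rcases h.cases with ⟨-, h4, hb⟩ | ⟨-, h8, h2, -⟩
  · rw [h4, hb, card_bot]
  · rw [h8, h2]

theorem Core.fixed_ne (h : Core H R) : Z₀ ≠ R := fun e => by
  have h1 := h.card_eq
  rw [e] at h1
  have := Nat.card_pos (α := R)
  omega

/-- The four classes modulo the fixed subgroup. -/
theorem Core.class_cases (h : Core H R) {i j r : G} (hi : i ∈ R) (hj : j ∈ R) (hr : r ∈ R)
    (hi0 : i ∉ Z₀) (hj0 : j ∉ Z₀) (hij : i * j ∉ Z₀) :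
    r ∈ Z₀ ∨ i * r ∈ Z₀ ∨ j * r ∈ Z₀ ∨ i * j * r ∈ Z₀ := by
  by_contra! hc
  obtain ⟨h0, h1, h2, h3⟩ := hc
  haveI hZn : ((Z₀).subgroupOf R).Normal := by
    rw [normal_subgroupOf_iff inf_le_left]
    intro a b ha hb
    rw [show b * a * b⁻¹ = a * b * b⁻¹ by rw [h.fixed_central ha hb], mul_inv_cancel_right]
    exact ha
  let π := QuotientGroup.mk' ((Z₀).subgroupOf R)
  have hq : Nat.card (R ⧸ (Z₀).subgroupOf R) = 4 := by
    have h5 := ((Z₀).subgroupOf R).card_mul_index
    rw [Nat.card_congr (subgroupOfEquivOfLe (inf_le_left : Z₀ ≤ R)).toEquiv, index_eq_card,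
      h.card_eq, mul_comm] at h5
    exact Nat.eq_of_mul_eq_mul_right Nat.card_pos h5
  classical
  haveI := Fintype.ofFinite (R ⧸ (Z₀).subgroupOf R)
  have hsq4 : ∀ a : R, π a = (π a)⁻¹ := fun a => eq_inv_of_mul_eq_one_left (by
    rw [← map_mul, QuotientGroup.mk'_apply, QuotientGroup.eq_one_iff, mem_subgroupOf, coe_mul,
      ← pow_two]
    exact h.sq_mem_fixed a.2)
  have hmk : ∀ a b : R, π a = π b ↔ ((a * b : R) : G) ∈ Z₀ := fun a b => by
    rw [hsq4 b, eq_inv_iff_mul_eq_one, ← map_mul, QuotientGroup.mk'_apply,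
      QuotientGroup.eq_one_iff, mem_subgroupOf]
  let X : Finset (R ⧸ (Z₀).subgroupOf R) :=
    {π 1, π ⟨i, hi⟩, π ⟨j, hj⟩, π ⟨i * j, mul_mem hi hj⟩, π ⟨r, hr⟩}
  have hz : ∀ {a b : G}, a ∈ R → b ∈ R → a * a * b ∈ Z₀ → b ∈ Z₀ := fun {a b} ha _ hh => by
    have := mul_mem (inv_mem (pow_two a ▸ h.sq_mem_fixed ha)) hh
    rwa [inv_mul_cancel_left] at this
  have hji : ∀ {a b : G}, a ∈ R → b ∈ R → b * a ∈ Z₀ → a * b ∈ Z₀ := fun {a b} ha hb hh => by
    have := mul_mem (h.commutator_mem_fixed ha hb) hh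
    rwa [show a * b * a⁻¹ * b⁻¹ * (b * a) = a * b by group] at this
  have hcardX : X.card = 5 := by
    simp only [X]
    rw [Finset.card_insert_of_notMem, Finset.card_insert_of_notMem, Finset.card_insert_of_notMem,
      Finset.card_insert_of_notMem, Finset.card_singleton]
    · rw [Finset.mem_singleton, hmk, coe_mul]
      exact h3
    · simp only [Finset.mem_insert, Finset.mem_singleton, not_or, hmk, coe_mul]
      refine ⟨fun hh => hi0 (hz hj hi ?_), h2⟩
      have := hji (a := j * j) (b := i) (mul_mem hj hj) hi (by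
        have e := hji (mul_mem hi hj) hj hh
        rwa [mul_assoc] at e)
      exact this
    · simp only [Finset.mem_insert, Finset.mem_singleton, not_or, hmk, coe_mul]
      exact ⟨hij, fun hh => hj0 (hz hi hj (by rwa [mul_assoc])), h1⟩
    · simp only [Finset.mem_insert, Finset.mem_singleton, not_or, hmk, coe_mul, OneMemClass.coe_one,
        one_mul]
      exact ⟨hi0, hj0, hij, h0⟩
  have := hcardX.ge.trans X.card_le_univ
  rw [← Nat.card_eq_fintype_card, hq] at this
  omega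

/-- A 2-group normalising a core fixes one of its non-trivial classes. -/
theorem Core.exists_fixed_class (h : Core H R) {X : Subgroup G} (hX : IsPGroup 2 X)
    (hXR : X ≤ normalizer (R : Set G)) :
    ∃ i ∈ R, i ∉ Z₀ ∧ ∀ x ∈ X, x * i * x⁻¹ * i⁻¹ ∈ Z₀ := by
  haveI : Fact (Nat.Prime 2) := ⟨Nat.prime_two⟩
  let P : Subgroup G := R ⊔ X
  have hPR : P ≤ normalizer (R : Set G) := sup_le le_normalizer hXR
  have hP : IsPGroup 2 P := h.pgroup.to_sup_of_normal_left' hX hXR
  haveI : ((Z₀).subgroupOf P).Normal :=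
    normal_subgroupOf_of_le_normalizer (h.fixed_normal hPR)
  haveI hRn : (R.subgroupOf P).Normal := normal_subgroupOf_of_le_normalizer hPR
  let π := QuotientGroup.mk' ((Z₀).subgroupOf P)
  have hne : (R.subgroupOf P).map π ≠ ⊥ := by
    intro e
    refine h.fixed_ne (le_antisymm inf_le_left fun r hr => ?_)
    have h1 : π ⟨r, le_sup_left (b := X) hr⟩ ∈ (R.subgroupOf P).map π := mem_map_of_mem π hr
    rw [e, mem_bot, QuotientGroup.mk'_apply, QuotientGroup.eq_one_iff] at h1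
    exact h1
  obtain ⟨z, hz, hz1, hzc⟩ := Cfsg.Agent.S4400.exists_central_mem (hP.to_quotient _) _
    (hNn := hRn.map π (QuotientGroup.mk'_surjective _)) hne
  obtain ⟨⟨i, hiP⟩, hi, rfl⟩ := hz
  refine ⟨i, hi, fun hh => hz1 ((QuotientGroup.eq_one_iff _).2 hh), fun x hx => ?_⟩
  have h1 : π ⁅(⟨x, le_sup_right (a := R) hx⟩ : P), ⟨i, hiP⟩⁆ = 1 := by
    rw [map_commutatorElement, commutatorElement_eq_one_iff_mul_comm]
    exact mem_center_iff.1 hzc _
  rw [QuotientGroup.mk'_apply, QuotientGroup.eq_one_iff, mem_subgroupOf] at h1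
  simpa [commutatorElement_def] using h1

/-- Elements fixing all classes act by inner automorphisms. -/
theorem Core.inner (h : Core H R) {x : G} (hx : x ∈ normalizer (R : Set G))
    (hfix : ∀ r ∈ R, x * r * x⁻¹ * r⁻¹ ∈ Z₀) : x ∈ R ⊔ centralizer (R : Set G) := by
  rcases h.cases with ⟨-, -, hb⟩ | ⟨-, h8, h2, i, hi, j, hj, hij⟩
  · refine mem_sup_right (mem_centralizer_iff.2 fun r hr => ?_)
    have h1 := hfix r hr
    rw [hb, mem_bot, mul_inv_eq_one, mul_inv_eq_iff_eq_mul] at h1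
    exact h1.symm
  obtain ⟨z, hz, hz1⟩ : ∃ z ∈ Z₀, z ≠ 1 := by
    by_contra! hall
    rw [(eq_bot_iff_forall _).2 hall, card_bot] at h2
    omega
  have hZ : ∀ y ∈ Z₀, y = 1 ∨ y = z := by
    intro y hy
    by_contra! hc
    classical
    haveI := Fintype.ofFinite (Z₀ : Subgroup G)
    have h3 : ({1, ⟨y, hy⟩, ⟨z, hz⟩} : Finset (Z₀ : Subgroup G)).card = 3 := by
      rw [Finset.card_insert_of_notMem, Finset.card_insert_of_notMem, Finset.card_singleton]
      · simp [hc.2]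
      · simp only [Finset.mem_insert, Finset.mem_singleton, not_or]
        exact ⟨fun e => hc.1 (congrArg Subtype.val e).symm, fun e => hz1 (congrArg Subtype.val e).symm⟩
    have := h3.ge.trans (Finset.card_le_univ _)
    rw [← Nat.card_eq_fintype_card, h2] at this
    omega
  have hzz : z * z = 1 := by
    rcases hZ _ (mul_mem hz hz) with e | e
    · exact e
    · exact absurd (left_eq_mul.1 e.symm) hz1
  have hiZ : i ∉ Z₀ := fun hh => hij (h.fixed_central hh hj)
  have hjZ : j ∉ Z₀ := fun hh => hij (h.fixed_central hh hi).symm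
  have hijZ : i * j ∉ Z₀ := fun hh => hij (by
    have h1 := h.fixed_central hh hi
    rw [mul_assoc] at h1
    exact (mul_left_cancel h1).symm)
  have hzc : ∀ {r : G}, r ∈ R → r * z = z * r := fun {r} hr => (h.fixed_central hz hr).symm
  have hji : j * i = z * (i * j) := by
    rcases hZ _ (h.commutator_mem_fixed hj hi) with e | e
    · rw [mul_inv_eq_one, mul_inv_eq_iff_eq_mul] at e
      exact absurd e.symm hij
    · rw [mul_inv_eq_iff_eq_mul, mul_inv_eq_iff_eq_mul] at e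
      rw [e, mul_assoc]
  obtain ⟨r, hr, h1, h3⟩ : ∃ r ∈ R, x * i * x⁻¹ = r * i * r⁻¹ ∧ x * j * x⁻¹ = r * j * r⁻¹ := by
    have e1 : j * i * j⁻¹ = z * i := by rw [hji]; group
    have e2 : i * j * i⁻¹ = z * j := by
      have : i * j = z * (j * i) := by rw [hji, ← mul_assoc, hzz, one_mul]
      rw [this]; group
    rcases hZ _ (hfix i hi) with a | a <;> rcases hZ _ (hfix j hj) with b | b <;>
      rw [mul_inv_eq_iff_eq_mul] at a b
    · exact ⟨1, one_mem R, by rw [a]; group, by rw [b]; group⟩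
    · exact ⟨i, hi, by rw [a]; group, by rw [b, e2]⟩
    · exact ⟨j, hj, by rw [a, e1], by rw [b]; group⟩
    · refine ⟨i * j, mul_mem hi hj, ?_, ?_⟩
      · rw [a, show i * j * i * (i * j)⁻¹ = i * (j * i * j⁻¹) * i⁻¹ by group, e1,
          ← mul_assoc, hzc hi]
        group
      · rw [b, show i * j * j * (i * j)⁻¹ = i * j * i⁻¹ by group, e2]
  rw [show x = r * (r⁻¹ * x) by group]
  refine mul_mem_sup hr (mem_centralizer_iff.2 fun s hs => ?_)
  have hi' : Commute i (r⁻¹ * x) := by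
    show i * (r⁻¹ * x) = r⁻¹ * x * i
    calc i * (r⁻¹ * x) = r⁻¹ * (r * i * r⁻¹) * x := by group
      _ = _ := by rw [← h1]; group
  have hj' : Commute j (r⁻¹ * x) := by
    show j * (r⁻¹ * x) = r⁻¹ * x * j
    calc j * (r⁻¹ * x) = r⁻¹ * (r * j * r⁻¹) * x := by group
      _ = _ := by rw [← h3]; group
  have hzx : Commute z (r⁻¹ * x) := by
    have e : z = j * i * (i * j)⁻¹ := by rw [hji]; group
    rw [e]
    exact (hj'.mul_left hi').mul_left (hi'.mul_left hj').inv_left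
  have hc : ∀ y ∈ Z₀, Commute y (r⁻¹ * x) := fun y hy => by
    rcases hZ y hy with rfl | rfl
    · exact Commute.one_left _
    · exact hzx
  have key : ∀ {w : G}, Commute w (r⁻¹ * x) → w * s ∈ Z₀ → Commute s (r⁻¹ * x) := fun {w} hw hh => by
    have := hw.inv_left.mul_left (hc _ hh)
    rwa [inv_mul_cancel_left] at this
  rcases h.class_cases hi hj hs hiZ hjZ hijZ with hh | hh | hh | hh
  · exact hc s hh
  · exact key hi' hh
  · exact key hj' hh
  · exact key (hi'.mul_left hj') hh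

/-- If the acting group normalises the 2-group, it induces inner automorphisms only. -/
theorem Core.split (h : Core H R) {X : Subgroup G} (hX : IsPGroup 2 X)
    (hXR : X ≤ normalizer (R : Set G)) (hHX : H ≤ normalizer (X : Set G)) :
    X ≤ R ⊔ centralizer (R : Set G) := by
  let K : Subgroup G :=
    { carrier := {r | r ∈ R ∧ ∀ x ∈ X, x * r * x⁻¹ * r⁻¹ ∈ Z₀}
      one_mem' := ⟨one_mem R, fun x _ => by
        rw [mul_one, mul_inv_cancel, inv_one, mul_one]; exact one_mem _⟩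
      mul_mem' := fun {a b} ha hb => ⟨mul_mem ha.1 hb.1, fun x hx => by
        rw [show x * (a * b) * x⁻¹ * (a * b)⁻¹
          = x * a * x⁻¹ * a⁻¹ * (a * (x * b * x⁻¹ * b⁻¹) * a⁻¹) by group]
        exact mul_mem (ha.2 x hx)
          ((mem_normalizer_iff.1 (h.fixed_normal (X := R) le_normalizer ha.1) _).1 (hb.2 x hx))⟩
      inv_mem' := fun {a} ha => ⟨inv_mem ha.1, fun x hx => by
        rw [show x * a⁻¹ * x⁻¹ * a⁻¹⁻¹ = a⁻¹ * (x * a * x⁻¹ * a⁻¹)⁻¹ * a⁻¹⁻¹ by group]
        exact (mem_normalizer_iff.1 (h.fixed_normal (X := R) le_normalizer (inv_mem ha.1)) _).1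
          (inv_mem (ha.2 x hx))⟩ }
  have hKH : H ≤ normalizer (K : Set G) := by
    intro g hg
    rw [mem_normalizer_iff_conj_image_eq]
    refine Set.eq_of_subset_of_ncard_le ?_ ?_
    · rintro _ ⟨a, ha, rfl⟩
      refine ⟨(mem_normalizer_iff.1 (h.norm hg) a).1 ha.1, fun x hx => ?_⟩
      rw [MulAut.conj_apply, show x * (g * a * g⁻¹) * x⁻¹ * (g * a * g⁻¹)⁻¹
        = g * (g⁻¹ * x * g⁻¹⁻¹ * a * (g⁻¹ * x * g⁻¹⁻¹)⁻¹ * a⁻¹) * g⁻¹ by group]
      exact (mem_normalizer_iff.1 (h.fixed_normal (X := H) h.norm hg) _).1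
        (ha.2 _ ((mem_normalizer_iff.1 (hHX (inv_mem hg)) x).1 hx))
    · exact le_of_eq (Set.ncard_image_of_injective _ (MulAut.conj g).injective).symm
  have hK0 : Z₀ ≤ K := fun a ha => ⟨ha.1, fun x hx =>
    mul_mem ((mem_normalizer_iff.1 (h.fixed_normal hXR hx) a).1 ha) (inv_mem ha)⟩
  have hKR : K = R := by
    refine (h.minimal.2.2.2 K hK0 (fun a ha => ha.1) hKH).resolve_left fun e => ?_
    obtain ⟨i, hi, hi0, hfix⟩ := h.exists_fixed_class hX hXR
    exact hi0 (e ▸ (⟨hi, hfix⟩ : i ∈ K))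
  exact fun x hx => h.inner (hXR hx) fun r hr => (show r ∈ K from hKR.symm ▸ hr).2 x hx

/-- Of two elements not inducing inner automorphisms, the quotient does. -/
theorem Core.index_two (h : Core H R) {X : Subgroup G} (hX : IsPGroup 2 X)
    (hXR : X ≤ normalizer (R : Set G)) {x y : G} (hx : x ∈ X) (hy : y ∈ X)
    (hxo : x ∉ R ⊔ centralizer (R : Set G)) (hyo : y ∉ R ⊔ centralizer (R : Set G)) :
    x⁻¹ * y ∈ R ⊔ centralizer (R : Set G) := by
  obtain ⟨i, hi, hi0, hfix⟩ := h.exists_fixed_class hX hXR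
  obtain ⟨j, hj, hj0, hij⟩ : ∃ j ∈ R, j ∉ Z₀ ∧ i * j ∉ Z₀ := by
    obtain ⟨g, hg, hgi⟩ := h.exists_moving hi hi0
    refine ⟨g * i * g⁻¹, (mem_normalizer_iff.1 (h.norm hg) i).1 hi, fun hh => hi0 ?_, fun hh => hgi ?_⟩
    · exact (mem_normalizer_iff.1 (h.fixed_normal (X := H) h.norm hg) i).2 hh
    · have := mul_mem (inv_mem (h.sq_mem_fixed hi)) hh
      rwa [pow_two, mul_inv_rev, mul_assoc, inv_mul_cancel_left] at this
  have hn : ∀ {a : G}, a ∈ X → ∀ z ∈ Z₀, a * z * a⁻¹ ∈ Z₀ := fun {a} ha z hz =>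
    (mem_normalizer_iff.1 (h.fixed_normal hXR ha) z).1 hz
  have hnr : ∀ {a : G}, a ∈ R → ∀ z ∈ Z₀, a * z * a⁻¹ ∈ Z₀ := fun {a} ha z hz =>
    (mem_normalizer_iff.1 (h.fixed_normal (X := R) le_normalizer ha) z).1 hz
  -- fixing `i` and `j` means inner
  have hinn : ∀ {a : G}, a ∈ X → a * j * a⁻¹ * j⁻¹ ∈ Z₀ → a ∈ R ⊔ centralizer (R : Set G) := by
    intro a ha haj
    refine h.inner (hXR ha) fun r hr => ?_
    have hmulfix : ∀ u v : G, u ∈ R → a * u * a⁻¹ * u⁻¹ ∈ Z₀ → a * v * a⁻¹ * v⁻¹ ∈ Z₀ →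
        a * (u * v) * a⁻¹ * (u * v)⁻¹ ∈ Z₀ := fun u v hu h1 h2 => by
      rw [show a * (u * v) * a⁻¹ * (u * v)⁻¹
        = a * u * a⁻¹ * u⁻¹ * (u * (a * v * a⁻¹ * v⁻¹) * u⁻¹) by group]
      exact mul_mem h1 (hnr hu _ h2)
    have hZfix : ∀ z ∈ Z₀, a * z * a⁻¹ * z⁻¹ ∈ Z₀ := fun z hz => mul_mem (hn ha z hz) (inv_mem hz)
    have hinv : ∀ u, u ∈ R → a * u * a⁻¹ * u⁻¹ ∈ Z₀ → a * u⁻¹ * a⁻¹ * u⁻¹⁻¹ ∈ Z₀ := fun u hu h1 => by
      rw [show a * u⁻¹ * a⁻¹ * u⁻¹⁻¹ = u⁻¹ * (a * u * a⁻¹ * u⁻¹)⁻¹ * u⁻¹⁻¹ by group]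
      exact hnr (inv_mem hu) _ (inv_mem h1)
    rcases h.class_cases hi hj hr hi0 hj0 hij with hh | hh | hh | hh
    · exact hZfix r hh
    · simpa using hmulfix _ _ (inv_mem hi) (hinv i hi (hfix a ha)) (hZfix _ hh)
    · simpa using hmulfix _ _ (inv_mem hj) (hinv j hj haj) (hZfix _ hh)
    · have h1 := hmulfix _ _ (inv_mem (mul_mem hi hj))
        (hinv _ (mul_mem hi hj) (hmulfix i j hi (hfix a ha) haj)) (hZfix _ hh)
      rwa [inv_mul_cancel_left] at h1
  -- the other elements send the class of `j` to that of `i * j`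
  have hout : ∀ {a : G}, a ∈ X → a ∉ R ⊔ centralizer (R : Set G) → i * j * (a * j * a⁻¹) ∈ Z₀ := by
    intro a ha hao
    have haj : a * j * a⁻¹ ∈ R := (mem_normalizer_iff.1 (hXR ha) j).1 hj
    rcases h.class_cases hi hj haj hi0 hj0 hij with hh | hh | hh | hh
    · exact absurd ((mem_normalizer_iff.1 (h.fixed_normal hXR ha) j).2 hh) hj0
    · refine absurd ?_ hij
      have h1 := mul_mem (inv_mem (hfix a ha)) (mul_mem (one_mem _) (one_mem Z₀))
      have h2 : a * (i * j) * a⁻¹ ∈ Z₀ := by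
        rw [show a * (i * j) * a⁻¹ = a * i * a⁻¹ * i⁻¹ * (i * (a * j * a⁻¹)) by group]
        exact mul_mem (hfix a ha) hh
      exact (mem_normalizer_iff.1 (h.fixed_normal hXR ha) _).2 h2
    · refine absurd (hinn ha ?_) hao
      have := mul_mem (inv_mem (h.sq_mem_fixed hj)) hh
      rw [pow_two, mul_inv_rev, mul_assoc, inv_mul_cancel_left] at this
      have e := hnr hj _ this
      rwa [show j * (j⁻¹ * (a * j * a⁻¹)) * j⁻¹ = a * j * a⁻¹ * j⁻¹ by group] at e
    · exact hh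
  refine hinn (mul_mem (inv_mem hx) hy) ?_
  have h1 := mul_mem (inv_mem (hout hx hxo)) (hout hy hyo)
  have h2 := hn (inv_mem hx) _ h1
  rw [show x⁻¹ * ((i * j * (x * j * x⁻¹))⁻¹ * (i * j * (y * j * y⁻¹))) * x⁻¹⁻¹
    = j⁻¹ * (x⁻¹ * y * j * (x⁻¹ * y)⁻¹) by group] at h2
  have e := hnr hj _ h2
  rwa [show j * (j⁻¹ * (x⁻¹ * y * j * (x⁻¹ * y)⁻¹)) * j⁻¹ = x⁻¹ * y * j * (x⁻¹ * y)⁻¹ * j⁻¹ by group] at e

/-- Centralisers of cores in small groups. -/
theorem Core.centralizer_le (h : Core H R) {Q : Subgroup G} (hQ : IsPGroup 2 Q) (hs : Small Q)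
    (hRQ : R ≤ Q) {c : G} (hc : c ∈ Q) (hcR : c ∈ centralizer (R : Set G)) : c ∈ R := by
  haveI : Fact (Nat.Prime 2) := ⟨Nat.prime_two⟩
  rcases h.cases with ⟨hel, h4, -⟩ | ⟨⟨e⟩, h8, h2, -⟩
  · refine mem_of_centralizes hQ hs hRQ hel.1 (fun hcy => ?_) h4.ge hc fun r hr =>
      mem_centralizer_iff.1 hcR r hr
    obtain ⟨g, hg⟩ := hcy.exists_generator
    have h1 : Nat.card R ∣ 2 := by
      rw [← orderOf_eq_card_of_forall_mem_zpowers hg]
      exact orderOf_dvd_of_pow_eq_one (Subtype.ext (hel.2 g g.2))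
    rw [h4] at h1
    norm_num at h1
  · by_contra hcr
    obtain ⟨k, hk⟩ := hQ ⟨c, hc⟩
    have hck : c ^ 2 ^ k = 1 := congrArg Subtype.val hk
    classical
    have hex : ∃ m, c ^ 2 ^ m ∈ R := ⟨k, hck ▸ one_mem R⟩
    obtain ⟨m, hm⟩ : ∃ m, Nat.find hex = m + 1 := by
      refine Nat.exists_eq_succ_of_ne_zero fun e0 => hcr ?_
      have := Nat.find_spec hex
      rwa [e0, pow_zero, pow_one] at this
    set d := c ^ 2 ^ m with hd
    have hdR : d ∉ R := Nat.find_min hex (by omega)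
    have hd2 : d ^ 2 ∈ R := by
      have := Nat.find_spec hex
      rwa [hm, pow_succ, pow_mul] at this
    have hdc : d ∈ centralizer (R : Set G) := pow_mem hcR _
    set q := e.symm (QuaternionGroup.a 1)
    set i : G := (q : G)
    have hoi : orderOf i = 4 := by
      rw [show i = (q : G) from rfl, orderOf_coe, MulEquiv.orderOf_eq, QuaternionGroup.orderOf_a_one]
    have hQ8 : ∀ u : QuaternionGroup 2, (∀ v, v * u = u * v) →
        u = 1 ∨ u = QuaternionGroup.a 1 * QuaternionGroup.a 1 := by decide +kernel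
    have hcases : d ^ 2 = 1 ∨ d ^ 2 = i ^ 2 := by
      rcases hQ8 (e ⟨d ^ 2, hd2⟩) (fun v => by
        obtain ⟨v, rfl⟩ := e.surjective v
        rw [← map_mul, ← map_mul]
        exact congrArg e (Subtype.ext (mem_centralizer_iff.1 (pow_mem hdc 2) v v.2))) with hh | hh
      · left
        rw [← map_one e] at hh
        exact congrArg Subtype.val (e.injective hh)
      · right
        have : (⟨d ^ 2, hd2⟩ : R) = q * q := e.injective (by rw [map_mul]; simpa [q] using hh)
        rw [pow_two i]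
        exact congrArg Subtype.val this
    have hid : i * d = d * i := mem_centralizer_iff.1 hdc i q.2
    have hA : IsMulCommutative (zpowers i ⊔ zpowers d : Subgroup G) :=
      isMulCommutative_sup_zpowers inferInstance fun e he => by
        obtain ⟨n, rfl⟩ := mem_zpowers_iff.1 he
        exact (Commute.zpow_left hid n).eq
    have hi2 : i ^ 2 ≠ 1 := fun e0 => by
      have := orderOf_dvd_of_pow_eq_one e0
      rw [hoi] at this
      norm_num at this
    have hi4 : (i ^ 2) ^ 2 = 1 := by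
      rw [← pow_mul]
      exact orderOf_dvd_iff_pow_eq_one.1 (by rw [hoi])
    have hnc : ¬ IsCyclic (zpowers i ⊔ zpowers d : Subgroup G) := by
      rcases hcases with hd1 | hd1
      · exact not_isCyclic_of_involutions (mem_sup_left (pow_mem (mem_zpowers i) 2))
          (mem_sup_right (mem_zpowers d)) hi4 hd1 hi2 (fun e0 => hdR (e0 ▸ one_mem R))
          (fun e0 => hdR (e0 ▸ pow_mem q.2 2))
      · have hidR : i * d⁻¹ ∉ R := fun hh => hdR (by
          have := mul_mem (inv_mem hh) q.2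
          rwa [mul_inv_rev, inv_inv, inv_mul_cancel_right] at this)
        refine not_isCyclic_of_involutions (mem_sup_left (pow_mem (mem_zpowers i) 2))
          (mul_mem (mem_sup_left (mem_zpowers i)) (inv_mem (mem_sup_right (mem_zpowers d))))
          hi4 ?_ hi2 (fun e0 => hidR (e0 ▸ one_mem R)) (fun e0 => hidR (e0 ▸ pow_mem q.2 2))
        rw [Commute.mul_pow (Commute.inv_right hid), inv_pow, hd1, mul_inv_cancel]
    have h4 := card_le_four hQ hs
      (sup_le (zpowers_le.2 (hRQ q.2)) (zpowers_le.2 (pow_mem hc _))) hA hnc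
    refine hdR ?_
    have he : zpowers i = zpowers i ⊔ zpowers d :=
      eq_of_le_of_card_ge le_sup_left (by rw [Nat.card_zpowers, hoi]; exact h4)
    exact zpowers_le.2 q.2 (he.symm ▸ mem_sup_right (mem_zpowers d))

/-- A small group with non-trivial coprime action is a core. -/
theorem core_of_small {Q : Subgroup G} (hQ : IsPGroup 2 Q) (hs : Small Q)
    (hH : H ≤ normalizer (Q : Set G)) (hodd : (Nat.card H).Coprime 2) (hnt : ⁅Q, H⁆ ≠ ⊥) :
    Core H Q := by
  haveI : Fact (Nat.Prime 2) := ⟨Nat.prime_two⟩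
  obtain ⟨R, hRQ, h⟩ := exists_core hQ hs hH hodd hnt
  suffices hRe : R = Q by rw [← hRe]; exact h
  haveI := hQ.isNilpotent
  by_contra hne
  obtain ⟨⟨x, hxQ⟩, hx, hxR⟩ := SetLike.exists_of_lt
    (Group.normalizerCondition_of_isNilpotent (R.subgroupOf Q)
      (lt_top_iff_ne_top.2 fun e => hne (le_antisymm hRQ (subgroupOf_eq_top.1 e))))
  have hxN : x ∈ normalizer (R : Set G) := by
    rw [mem_normalizer_iff_conj_image_eq]
    refine Set.eq_of_subset_of_ncard_le ?_ ?_
    · rintro _ ⟨r, hr, rfl⟩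
      exact (mem_normalizer_iff.1 hx ⟨r, hRQ hr⟩).1 hr
    · exact le_of_eq (Set.ncard_image_of_injective _ (MulAut.conj x).injective).symm
  have hHN : H ≤ normalizer ((Q ⊓ normalizer (R : Set G) : Subgroup G) : Set G) := by
    refine le_trans (le_inf hH (h.norm.trans le_normalizer)) ?_
    exact inf_normalizer_le_normalizer_inf
  have hsplit := h.split (X := Q ⊓ normalizer (R : Set G)) (hQ.to_le inf_le_left) inf_le_right hHN
    (show x ∈ Q ⊓ normalizer (R : Set G) from ⟨hxQ, hxN⟩)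
  have hn : centralizer (R : Set G) ≤ normalizer (R : Set G) := centralizer_le_normalizer _
  obtain ⟨r, hr, c, hc, hrc⟩ := CfsgLib.Coprime.exists_mul_of_mem_sup hn hsplit
  refine hxR (mem_subgroupOf.2 ?_)
  have hcQ : c ∈ Q := by
    rw [show c = r⁻¹ * x by rw [← hrc]; group]
    exact mul_mem (inv_mem (hRQ hr)) hxQ
  show x ∈ R
  rw [← hrc]
  exact mul_mem hr (h.centralizer_le hQ hs hRQ hcQ hc)

end CfsgLib.FGS74.SmallEight
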