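import Mathlib
import Cfsg.Prelude.Def_Transfer
import Cfsg.Prelude.Def_CaseTheorems
import Cfsg.Agent.JComp.Small

/-!
# An element of order three with commutator space of order four

`M` is a normal elementary abelian `2`-subgroup of a finite group, `x` an element of odd order
with `V = [x, M]` of order `4`. Normal abelian subgroups of odd `p`-groups containing `x`
normalize `V`; a `p`-group (`p ≥ 5`) normalized by `x` has a subgroup of index at most `p`
centralizing `V`.
-/

set_option autoImplicit false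

namespace CfsgLib.FGS74.TwoDim

open Subgroup
open scoped commutatorElement

variable {S : Type*} [Group S] {M : Subgroup S} [hM : M.Normal]

/-- `[y, M]` for an abelian normal subgroup `M`. -/
def im (hMc : ∀ a ∈ M, ∀ b ∈ M, a * b = b * a) (y : S) : Subgroup S where
  carrier := {w | ∃ m ∈ M, ⁅y, m⁆ = w}
  one_mem' := ⟨1, one_mem _, commutatorElement_one_right y⟩
  mul_mem' := by
    rintro _ _ ⟨m, hm, rfl⟩ ⟨n, hn, rfl⟩
    refine ⟨m * n, mul_mem hm hn, ?_⟩
    have h1 : ⁅y, n⁆ ∈ M := by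
      rw [commutatorElement_def]
      exact mul_mem (hM.conj_mem n hn y) (inv_mem hn)
    rw [commutatorElement_mul_right_eq_mul_conj, mul_assoc ⁅y, m⁆, hMc m hm _ h1, mul_assoc,
      mul_inv_cancel_right]
  inv_mem' := by
    rintro _ ⟨m, hm, rfl⟩
    refine ⟨m⁻¹, inv_mem hm, ?_⟩
    rw [commutatorElement_def, commutatorElement_def, inv_inv]
    have h1 : y * m⁻¹ * y⁻¹ ∈ M := hM.conj_mem _ (inv_mem hm) y
    rw [hMc _ h1 m hm]
    group

variable (hMc : ∀ a ∈ M, ∀ b ∈ M, a * b = b * a)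

theorem comm_mem {m : S} (y : S) (hm : m ∈ M) : ⁅y, m⁆ ∈ im hMc y := ⟨m, hm, rfl⟩

theorem im_le (y : S) : im hMc y ≤ M := by
  rintro _ ⟨m, hm, rfl⟩
  rw [commutatorElement_def]
  exact mul_mem (hM.conj_mem m hm y) (inv_mem hm)

theorem im_conj (g y : S) :
    im hMc (g * y * g⁻¹) = (im hMc y).map (MulAut.conj g).toMonoidHom := by
  refine le_antisymm ?_ ?_
  · rintro _ ⟨m, hm, rfl⟩
    refine ⟨_, comm_mem hMc y (hM.conj_mem m hm g⁻¹), ?_⟩
    show g * _ * g⁻¹ = _
    simp only [commutatorElement_def]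
    group
  · rintro _ ⟨_, ⟨m, hm, rfl⟩, rfl⟩
    refine ⟨_, hM.conj_mem m hm g, ?_⟩
    show _ = g * _ * g⁻¹
    simp only [commutatorElement_def]
    group

include hMc in
theorem comm_mul_of_mem {c : S} (hc : c ∈ centralizer (M : Set S)) (y : S) {m : S} (hm : m ∈ M) :
    ⁅y * c, m⁆ = ⁅y, m⁆ := by
  rw [commutatorElement_def, commutatorElement_def, mul_assoc y c m,
    ← mem_centralizer_iff.1 hc m hm]
  group

theorem im_mul_of_mem {c : S} (hc : c ∈ centralizer (M : Set S)) (y : S) :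
    im hMc (y * c) = im hMc y := by
  refine le_antisymm ?_ ?_ <;> rintro _ ⟨m, hm, rfl⟩
  · exact ⟨m, hm, (comm_mul_of_mem hMc hc y hm).symm⟩
  · exact ⟨m, hm, comm_mul_of_mem hMc hc y hm⟩

theorem conj_mem_im_self (y : S) {w : S} (hw : w ∈ im hMc y) : y * w * y⁻¹ ∈ im hMc y := by
  have h := im_conj hMc y y
  rw [mul_inv_cancel_right] at h
  rw [h]
  exact mem_map_of_mem _ hw

theorem conj_mem_of_im_le {W : Subgroup S} {y : S} (hWM : W ≤ M) (h : im hMc y ≤ W) {w : S}
    (hw : w ∈ W) : y * w * y⁻¹ ∈ W := by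
  have h1 := mul_mem (h (comm_mem hMc y (hWM hw))) hw
  rwa [commutatorElement_def, inv_mul_cancel_right] at h1

theorem im_inv [Finite S] (y : S) : im hMc y⁻¹ = im hMc y := by
  have key : ∀ z : S, im hMc z⁻¹ ≤ im hMc z := by
    intro z
    rintro _ ⟨m, hm, rfl⟩
    have h : ⁅z⁻¹, m⁆ = (⁅z, z⁻¹ * m * z⁆)⁻¹ := by
      simp only [commutatorElement_def]
      group
    rw [h]
    exact inv_mem (comm_mem hMc z (by simpa using hM.conj_mem m hm z⁻¹))
  exact le_antisymm (key y) (by simpa using key y⁻¹)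

theorem comm_pow_mem (y : S) {m : S} (hm : m ∈ M) (n : ℕ) : ⁅y ^ n, m⁆ ∈ im hMc y := by
  induction n with
  | zero => rw [pow_zero, commutatorElement_one_left]; exact one_mem _
  | succ n ih =>
    rw [pow_succ', commutatorElement_mul_left_eq_conj_mul]
    exact mul_mem (conj_mem_im_self hMc y ih) (comm_mem hMc y hm)

include hMc in
/-- An element of odd order has no nontrivial fixed points on its commutator space. -/
theorem fix_eq_one [Finite S] (hM2 : ∀ m ∈ M, m ^ 2 = 1) {y : S} (hy : Odd (orderOf y)) {m : S}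
    (hm : m ∈ M) (h : y * ⁅y, m⁆ * y⁻¹ = ⁅y, m⁆) : ⁅y, m⁆ = 1 := by
  have key : ∀ n : ℕ, ⁅y ^ n, m⁆ = ⁅y, m⁆ ^ n := by
    intro n
    induction n with
    | zero => simp
    | succ n ih =>
      rw [pow_succ', commutatorElement_mul_left_eq_conj_mul, ih, ← conj_pow, h, pow_succ]
  have h1 := key (orderOf y)
  rw [pow_orderOf_eq_one, commutatorElement_one_left] at h1
  obtain ⟨k, hk⟩ := hy
  have h2 : ⁅y, m⁆ ^ 2 = 1 := hM2 _ (im_le hMc y (comm_mem hMc y hm))
  rwa [hk, pow_succ, pow_mul, h2, one_pow, one_mul, eq_comm] at h1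

/-- An `r`-group (`r` odd) of automorphisms of an elementary abelian `2`-group of order at most
`16` has order at most `r` if the order is at most `4` or `r ≥ 5`; for order at most `4`
it is trivial if `r ≥ 5`. -/
theorem range_card_le {P U : Type*} [Group P] [Finite P] [Group U] [Finite U] {r : ℕ}
    [hr : Fact r.Prime] (hr2 : r ≠ 2) (hP : IsPGroup r P) (hU : ∀ x : U, x ^ 2 = 1)
    (φ : P →* MulAut U) (hcard : Nat.card U ≤ 4 ∨ (5 ≤ r ∧ Nat.card U ≤ 16)) :
    Nat.card φ.range ≤ r ∧ (5 ≤ r → Nat.card U ≤ 4 → φ.range = ⊥) := by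
  have h2 : Fact (Nat.Prime 2) := ⟨Nat.prime_two⟩
  have hcomm : ∀ x y : U, x * y = y * x := fun x y =>
    Commute.of_orderOf_dvd_two (fun g => orderOf_dvd_of_pow_eq_one (hU g)) x y
  obtain ⟨d, hd⟩ := IsPGroup.iff_card.mp (fun x : U => ⟨1, by simpa using hU x⟩ : IsPGroup 2 U)
  obtain ⟨f⟩ := CfsgLib.FusionEssential.exists_mulEquiv_fin_of_elementary hcomm hU hd
  let ψ := ((CfsgLib.FusionEssential.autMatrix f).comp φ.range.subtype).toHomUnits
  have hψ : Function.Injective ψ := fun x y h =>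
    Subtype.ext (CfsgLib.FusionEssential.autMatrix_injective f (congrArg Units.val h))
  have hdvd := Subgroup.card_dvd_of_injective ψ hψ
  rw [Matrix.card_GL_field, ZMod.card] at hdvd
  have hPR : IsPGroup r φ.range := hP.of_surjective φ.rangeRestrict φ.rangeRestrict_surjective
  obtain ⟨k, hk⟩ := IsPGroup.iff_card.mp hPR
  rw [hk] at hdvd
  have h16 : Nat.card U ≤ 16 := by omega
  have hd4 : d ≤ 4 := by
    have : 2 ^ d ≤ 2 ^ 4 := by rw [← hd]; simpa using h16
    exact (Nat.pow_le_pow_iff_right (by norm_num)).mp this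
  have hr3 : 3 ≤ r := by have := hr.out.two_le; omega
  constructor
  · rw [hk]
    suffices k ≤ 1 by simpa using Nat.pow_le_pow_right hr.out.pos this
    by_contra hne
    have hsq : r ^ 2 ∣ ∏ i : Fin d, (2 ^ d - 2 ^ (i : ℕ)) :=
      (pow_dvd_pow r (by omega)).trans hdvd
    have hd' : d ≤ 2 ∨ 5 ≤ r := by
      rcases hcard with h | h
      · left
        have : 2 ^ d ≤ 2 ^ 2 := by rw [← hd]; simpa using h
        exact (Nat.pow_le_pow_iff_right (by norm_num)).mp this
      · exact Or.inr h.1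
    rcases hd' with hd2 | h5
    · have h6 : r ^ 2 ∣ 6 := by
        refine hsq.trans ?_
        interval_cases d <;> simp [Fin.prod_univ_succ]
      have := Nat.le_of_dvd (by norm_num) h6
      nlinarith
    · have hbig : r ^ 2 ∣ 576 * 35 := by
        refine hsq.trans ?_
        interval_cases d <;> norm_num [Fin.prod_univ_succ]
      have hco : Nat.Coprime (r ^ 2) 576 := by
        refine Nat.Coprime.pow_left 2 ((hr.out.coprime_iff_not_dvd).2 fun h => ?_)
        rw [show (576 : ℕ) = 2 ^ 6 * 3 ^ 2 by norm_num] at h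
        rcases hr.out.dvd_mul.1 h with h | h
        · have := (Nat.prime_dvd_prime_iff_eq hr.out Nat.prime_two).1 (hr.out.dvd_of_dvd_pow h)
          omega
        · have := (Nat.prime_dvd_prime_iff_eq hr.out Nat.prime_three).1 (hr.out.dvd_of_dvd_pow h)
          omega
      have h35 := hco.dvd_of_dvd_mul_left hbig
      have := Nat.le_of_dvd (by norm_num) h35
      have : r ≤ 5 := by nlinarith
      obtain rfl : r = 5 := by omega
      norm_num at h35
  · intro h5 h4
    have hd2 : d ≤ 2 := by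
      have : 2 ^ d ≤ 2 ^ 2 := by rw [← hd]; simpa using h4
      exact (Nat.pow_le_pow_iff_right (by norm_num)).mp this
    refine Subgroup.card_eq_one.1 ?_
    rw [hk]
    by_contra hne
    have hk0 : k ≠ 0 := fun e => hne (by rw [e, pow_zero])
    have h6 : r ∣ 6 := by
      refine ((dvd_pow_self r hk0).trans hdvd).trans ?_
      interval_cases d <;> simp [Fin.prod_univ_succ]
    have := Nat.le_of_dvd (by norm_num) h6
    interval_cases r
    · norm_num at h6
    · exact absurd hr.out (by norm_num)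

/-- Conjugation action of a subgroup on a subgroup it normalizes. -/
noncomputable def act {P U : Subgroup S} (h : P ≤ normalizer (U : Set S)) : P →* MulAut U :=
  (Subgroup.normalizerMonoidHom U).comp (Subgroup.inclusion h)

theorem mem_centralizer_of_act_eq_one {P U : Subgroup S} (h : P ≤ normalizer (U : Set S)) {g : P}
    (hg : act h g = 1) : (g : S) ∈ centralizer (U : Set S) := by
  have h1 : Subgroup.inclusion h g ∈ (Subgroup.normalizerMonoidHom U).ker := hg
  rwa [Subgroup.normalizerMonoidHom_ker, Subgroup.mem_subgroupOf] at h1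

theorem act_eq_one {P U : Subgroup S} (h : P ≤ normalizer (U : Set S)) {g : P}
    (hg : (g : S) ∈ centralizer (U : Set S)) : act h g = 1 := by
  have h1 : Subgroup.inclusion h g ∈ (Subgroup.normalizerMonoidHom U).ker := by
    rw [Subgroup.normalizerMonoidHom_ker, Subgroup.mem_subgroupOf]
    exact hg
  exact h1

/-- A finite `r`-group normalizing a small elementary abelian `2`-group has a subgroup of index
at most `r` centralizing it. -/
theorem card_le_mul_centralizer [Finite S] {r : ℕ} [Fact r.Prime] (hr2 : r ≠ 2) {P U : Subgroup S}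
    (hP : IsPGroup r P) (hU : ∀ u ∈ U, u ^ 2 = 1) (h : P ≤ normalizer (U : Set S))
    (hcard : Nat.card U ≤ 4 ∨ (5 ≤ r ∧ Nat.card U ≤ 16)) :
    Nat.card P ≤ r * Nat.card (P ⊓ centralizer (U : Set S) : Subgroup S) ∧
      (5 ≤ r → Nat.card U ≤ 4 → P ≤ centralizer (U : Set S)) := by
  obtain ⟨h1, h2⟩ := range_card_le hr2 hP
    (fun u : U => Subtype.ext (by simpa using hU u u.2)) (act h) hcard
  constructor
  · rw [← card_mul_index (act h).ker, index_ker, mul_comm]
    refine Nat.mul_le_mul h1 ?_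
    rw [← card_map_of_injective P.subtype_injective]
    refine Nat.le_of_dvd Nat.card_pos (card_dvd_of_le ?_)
    rintro _ ⟨g, hg, rfl⟩
    exact ⟨g.2, mem_centralizer_of_act_eq_one h hg⟩
  · intro h5 h4 g hg
    exact mem_centralizer_of_act_eq_one h (g := ⟨g, hg⟩)
      (mem_bot.1 (h2 h5 h4 ▸ ⟨⟨g, hg⟩, rfl⟩))

section Setting

variable [Finite S]

/-- The hypotheses: `M` has exponent `2`, `x` has odd order, `|[x, M]| = 4`. -/
structure Hyp (x : S) : Prop where
  sq : ∀ m ∈ M, m ^ 2 = 1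
  odd : Odd (orderOf x)
  card_im : Nat.card (im hMc x) = 4

variable {hMc} {x : S} (hx : Hyp hMc x)

include hx

/-- `[x, M]` is irreducible under `x`. -/
theorem eq_im {Y : Subgroup S} (hY : Y ≤ im hMc x) (hinv : ∀ w ∈ Y, x * w * x⁻¹ ∈ Y) (hne : Y ≠ ⊥) :
    Y = im hMc x := by
  refine eq_of_le_of_card_ge hY ?_
  rw [hx.card_im]
  have hd : Nat.card Y ∣ 2 ^ 2 := (card_dvd_of_le hY).trans (by rw [hx.card_im]; norm_num)
  obtain ⟨i, hi, hi'⟩ := (Nat.dvd_prime_pow Nat.prime_two).1 hd
  rcases Nat.lt_or_ge i 2 with h | h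
  · exfalso
    interval_cases i
    · exact hne (card_eq_one.1 hi')
    · obtain ⟨⟨w, hwY⟩, hw1, hw2⟩ := (Nat.card_eq_two_iff' (1 : Y)).1 hi'
      obtain ⟨m, hm, hmw⟩ := hY hwY
      have hfix : x * w * x⁻¹ = w := by
        by_cases h1 : (⟨x * w * x⁻¹, hinv w hwY⟩ : Y) = 1
        · exfalso
          have h2 : x * w * x⁻¹ = 1 := congrArg Subtype.val h1
          rw [mul_inv_eq_one, mul_eq_left] at h2
          exact hw1 (Subtype.ext h2)
        · exact congrArg Subtype.val (hw2 _ h1)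
      subst hmw
      exact hw1 (Subtype.ext (fix_eq_one hMc hx.sq hx.odd hm hfix))
  · rw [hi']; exact Nat.pow_le_pow_right two_pos h

theorem conj_card (g : S) : Nat.card (im hMc (g * x * g⁻¹)) = 4 := by
  rw [im_conj, card_map_of_injective (MulAut.conj g).injective, hx.card_im]

theorem card_sup_le (g : S) : Nat.card (im hMc x ⊔ im hMc (g * x * g⁻¹) : Subgroup S) ≤ 16 := by
  have hn : im hMc x ≤ normalizer (im hMc (g * x * g⁻¹) : Set S) := fun a ha =>
    mem_normalizer_iff.2 fun w => by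
      constructor
      · intro hw
        rwa [hMc a (im_le hMc _ ha) w (im_le hMc _ hw), mul_inv_cancel_right]
      · intro hw
        have hwM : w ∈ M := by
          have := mul_mem (mul_mem (inv_mem (im_le hMc _ ha)) (im_le hMc _ hw)) (im_le hMc _ ha)
          simpa [mul_assoc] using this
        rwa [hMc a (im_le hMc _ ha) w hwM, mul_inv_cancel_right] at hw
  calc Nat.card (im hMc x ⊔ im hMc (g * x * g⁻¹) : Subgroup S)
      ≤ Nat.card (im hMc x) * Nat.card (im hMc (g * x * g⁻¹)) := by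
        rw [← SetLike.coe_sort_coe, coe_mul_of_left_le_normalizer_right _ _ hn, ← Nat.card_prod]
        refine Nat.card_le_card_of_surjective
          (fun z : im hMc x × im hMc (g * x * g⁻¹) =>
            ⟨(z.1 : S) * z.2, Set.mul_mem_mul z.1.2 z.2.2⟩) ?_
        rintro ⟨_, a, ha, b, hb, rfl⟩
        exact ⟨(⟨a, ha⟩, ⟨b, hb⟩), rfl⟩
    _ = 16 := by rw [hx.card_im, conj_card hx]

/-- Two conjugates of `x` in a `3`-group commute modulo `C(M)`. -/
theorem commutator_mem {R : Subgroup S} (hR : IsPGroup 3 R) (hxR : x ∈ R) {g : S} (hg : g ∈ R) :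
    ⁅x, g * x * g⁻¹⁆ ∈ centralizer (M : Set S) := by
  set x' := g * x * g⁻¹ with hx'
  set W := im hMc x ⊔ im hMc x' with hW
  set K := closure ({x, x'} : Set S) with hK
  have hWM : W ≤ M := sup_le (im_le hMc _) (im_le hMc _)
  have hKR : K ≤ R := (closure_le _).2 (by
    rintro y (rfl | rfl)
    exacts [hxR, mul_mem (mul_mem hg hxR) (inv_mem hg)])
  have hKn : K ≤ normalizer (W : Set S) := (closure_le _).2 (by
    intro y hy
    refine mem_normalizer_fintype (S := (W : Set S)) fun w hw => ?_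
    rcases hy with rfl | rfl
    · exact conj_mem_of_im_le hMc hWM le_sup_left hw
    · exact conj_mem_of_im_le hMc hWM le_sup_right hw)
  haveI : Finite (MulAut W) := inferInstance
  have hab := CfsgLib.JComp.commute_of_threeGroup_small (P := (act hKn).range) (U := W)
    ((hR.to_le hKR).of_surjective (act hKn).rangeRestrict (act hKn).rangeRestrict_surjective)
    (fun w => Subtype.ext (by simpa using hx.sq w (hWM w.2))) (card_sup_le hx g)
    (act hKn).range.subtype (Subgroup.subtype_injective _)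
  have hxK : x ∈ K := subset_closure (by simp)
  have hx'K : x' ∈ K := subset_closure (by simp)
  have hc : act hKn ⁅(⟨x, hxK⟩ : K), (⟨x', hx'K⟩ : K)⁆ = 1 := by
    rw [map_commutatorElement, commutatorElement_eq_one_iff_mul_comm]
    exact congrArg Subtype.val (hab ((act hKn).rangeRestrict (⟨x, hxK⟩ : K))
      ((act hKn).rangeRestrict (⟨x', hx'K⟩ : K)))
  have hfix : ⁅x, x'⁆ ∈ centralizer (W : Set S) := mem_centralizer_of_act_eq_one hKn hc
  have hcR : ⁅x, x'⁆ ∈ R := hKR (mul_mem (mul_mem (mul_mem hxK hx'K) (inv_mem hxK)) (inv_mem hx'K))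
  have hodd : Odd (orderOf ⁅x, x'⁆) := by
    obtain ⟨k, hk⟩ := IsPGroup.iff_orderOf.1 hR ⟨_, hcR⟩
    rw [orderOf_mk] at hk
    rw [hk]
    exact (show Odd 3 by decide).pow
  refine mem_centralizer_iff.2 fun m hm => ?_
  have hmem : ⁅⁅x, x'⁆, m⁆ ∈ W := by
    have hgen : ∀ k ∈ K, ∀ m ∈ M, ⁅k, m⁆ ∈ W := by
      intro k hk
      induction hk using closure_induction with
      | mem y hy =>
        intro m hm
        rcases hy with rfl | rfl
        · exact mem_sup_left (comm_mem hMc _ hm)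
        · exact mem_sup_right (comm_mem hMc _ hm)
      | one => intro m _; rw [commutatorElement_one_left]; exact one_mem _
      | mul a b ha hb iha ihb =>
        intro m hm
        rw [commutatorElement_mul_left_eq_conj_mul]
        exact mul_mem ((mem_normalizer_iff.1 (hKn ha) _).1 (ihb m hm)) (iha m hm)
      | inv a ha iha =>
        intro m hm
        have h : ⁅a⁻¹, m⁆ = (⁅a, a⁻¹ * m * a⁆)⁻¹ := by
          simp only [commutatorElement_def]
          group
        rw [h]
        exact inv_mem (iha _ (by simpa using hM.conj_mem m hm a⁻¹))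
    exact hgen _ (mul_mem (mul_mem (mul_mem hxK hx'K) (inv_mem hxK)) (inv_mem hx'K)) m hm
  have h1 := fix_eq_one hMc hx.sq hodd hm
    (mul_inv_eq_iff_eq_mul.2 (mem_centralizer_iff.1 hfix _ hmem).symm)
  exact (commutatorElement_eq_one_iff_mul_comm.1 h1).symm

omit hx in
/-- Elements commuting modulo `C(M)` normalize each other's commutator spaces. -/
theorem conj_mem_of_commutator_mem {y z : S} (h : ⁅z, y⁆ ∈ centralizer (M : Set S)) {w : S}
    (hw : w ∈ im hMc y) : z * w * z⁻¹ ∈ im hMc y := by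
  have hzy : z * y * z⁻¹ = y * (y⁻¹ * ⁅z, y⁆ * y) := by rw [commutatorElement_def]; group
  have h2 : im hMc (z * y * z⁻¹) = im hMc y := by
    rw [hzy, im_mul_of_mem hMc (by simpa using
      (inferInstance : (centralizer (M : Set S)).Normal).conj_mem _ h y⁻¹)]
  rw [← h2, im_conj]
  exact mem_map_of_mem _ hw

/-- In a `3`-group containing `x`, every element of an abelian normal subgroup normalizes
`[x, M]`. -/
theorem normalizes_of_normal_abelian {R F : Subgroup S} (hR : IsPGroup 3 R) (hxR : x ∈ R)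
    (hFR : F ≤ R) (hFn : R ≤ normalizer (F : Set S)) (hFc : ∀ a ∈ F, ∀ b ∈ F, a * b = b * a)
    {a : S} (ha : a ∈ F) : a ∈ normalizer (im hMc x : Set S) := by
  set V := im hMc x with hV
  set x' := a * x * a⁻¹ with hx'
  set x'' := a * x' * a⁻¹ with hx''
  have hconj : ∀ g y : S, ∀ w ∈ im hMc y, g * w * g⁻¹ ∈ im hMc (g * y * g⁻¹) := fun g y w hw => by
    rw [im_conj]; exact mem_map_of_mem _ hw
  have hback : ∀ g y : S, ∀ w ∈ im hMc (g * y * g⁻¹), g⁻¹ * w * g ∈ im hMc y := fun g y w hw => by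
    rw [im_conj] at hw
    obtain ⟨v, hv, rfl⟩ := hw
    simpa [mul_assoc] using hv
  have hxx' : ⁅x, x'⁆ ∈ centralizer (M : Set S) := commutator_mem hx hR hxR (hFR ha)
  have hxx'' : ⁅x, x''⁆ ∈ centralizer (M : Set S) := by
    have := commutator_mem hx hR hxR (mul_mem (hFR ha) (hFR ha))
    rwa [show a * a * x * (a * a)⁻¹ = x'' by rw [hx'', hx']; group] at this
  have hx'x : ⁅x', x⁆ ∈ centralizer (M : Set S) := by
    rw [← commutatorElement_inv]; exact inv_mem hxx'
  suffices h : im hMc x' = V by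
    exact mem_normalizer_fintype (S := (V : Set S)) fun w hw => by
      show a * w * a⁻¹ ∈ V
      rw [← h]
      exact hconj a x w hw
  by_contra hne
  set V' := im hMc x' with hV'
  have hxV' : ∀ w ∈ V', x * w * x⁻¹ ∈ V' := fun w hw => conj_mem_of_commutator_mem hxx' hw
  have hx'V : ∀ w ∈ V, x' * w * x'⁻¹ ∈ V := fun w hw => conj_mem_of_commutator_mem hx'x hw
  have hdis : V ⊓ V' = ⊥ := by
    by_contra hb
    have h1 := eq_im hx (Y := V ⊓ V') inf_le_left
      (fun w hw => ⟨conj_mem_im_self hMc x hw.1, hxV' w hw.2⟩) hb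
    refine hne (eq_of_le_of_card_ge (inf_eq_left.1 h1) ?_).symm
    rw [hV', hV, conj_card hx, hx.card_im]
  have hfixV : ∀ v ∈ V, x' * v * x'⁻¹ = v := fun v hv => by
    have h1 : ⁅x', v⁆ ∈ V ⊓ V' := Subgroup.mem_inf.2 ⟨by
      rw [commutatorElement_def]; exact mul_mem (hx'V v hv) (inv_mem hv),
      comm_mem hMc x' (im_le hMc _ hv)⟩
    rw [hdis, mem_bot, commutatorElement_eq_one_iff_mul_comm] at h1
    rw [h1, mul_inv_cancel_right]
  have hfixV' : ∀ v ∈ V', x * v * x⁻¹ = v := fun v hv => by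
    have h1 : ⁅x, v⁆ ∈ V ⊓ V' := Subgroup.mem_inf.2 ⟨comm_mem hMc x (im_le hMc _ hv), by
      rw [commutatorElement_def]; exact mul_mem (hxV' v hv) (inv_mem hv)⟩
    rw [hdis, mem_bot, commutatorElement_eq_one_iff_mul_comm] at h1
    rw [h1, mul_inv_cancel_right]
  set c := ⁅x, a⁆ with hc
  have hcx : c = x * x'⁻¹ := by rw [hc, hx', commutatorElement_def]; group
  have hcF : c ∈ F := by
    rw [hc, commutatorElement_def]
    exact mul_mem ((mem_normalizer_iff.1 (hFn hxR) a).1 ha) (inv_mem ha)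
  have hca : a * c * a⁻¹ = c := by rw [hFc a ha c hcF, mul_inv_cancel_right]
  set W := V ⊔ V' with hW
  have himc : im hMc c ≤ W := by
    rintro _ ⟨m, hm, rfl⟩
    rw [hcx, commutatorElement_mul_left_eq_conj_mul]
    refine mul_mem (conj_mem_of_im_le hMc (sup_le (im_le hMc _) (im_le hMc _)) le_sup_left ?_)
      (mem_sup_left (comm_mem hMc x hm))
    exact mem_sup_right (im_inv hMc x' ▸ comm_mem hMc x'⁻¹ hm)
  have hVc : V ≤ im hMc c := by
    have h1 : ∀ v ∈ V, ⁅c, v⁆ = ⁅x, v⁆ := by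
      intro v hv
      have h2 : x'⁻¹ * v * x' = v := by
        conv_lhs => rw [← hfixV v hv]
        group
      rw [hcx, commutatorElement_def, commutatorElement_def,
        show x * x'⁻¹ * v * (x * x'⁻¹)⁻¹ = x * (x'⁻¹ * v * x') * x⁻¹ by group, h2]
    set Y := (im hMc c) ⊓ V with hY
    have hcV : ∀ v ∈ V, c * v * c⁻¹ = x * v * x⁻¹ := fun v hv => by
      have := h1 v hv
      simpa [commutatorElement_def] using this
    have hinv : ∀ w ∈ Y, x * w * x⁻¹ ∈ Y := fun w hw =>
      ⟨hcV w hw.2 ▸ conj_mem_im_self hMc c hw.1, conj_mem_im_self hMc x hw.2⟩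
    have hYne : Y ≠ ⊥ := by
      intro hb
      obtain ⟨⟨v, hv⟩, hv1⟩ : ∃ v : V, v ≠ 1 := by
        by_contra! hall
        haveI : Subsingleton V := ⟨fun p q => (hall p).trans (hall q).symm⟩
        have := hx.card_im
        rw [← hV, Nat.card_of_subsingleton (1 : V)] at this
        omega
      have hin : ⁅x, v⁆ ∈ Y := ⟨h1 v hv ▸ comm_mem hMc c (im_le hMc _ hv),
        comm_mem hMc x (im_le hMc _ hv)⟩
      rw [hb, mem_bot] at hin
      obtain ⟨m, hm, rfl⟩ := hv
      refine hv1 (Subtype.ext (fix_eq_one hMc hx.sq hx.odd hm ?_))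
      rw [commutatorElement_eq_one_iff_mul_comm.1 hin, mul_inv_cancel_right]
    exact inf_eq_right.1 (eq_im hx (Y := Y) inf_le_right hinv hYne)
  have hV'c : V' ≤ im hMc c := by
    intro w hw
    have h1 := hconj a c _ (hVc (hback a x w hw))
    rw [hca] at h1
    simpa [mul_assoc] using h1
  set V'' := im hMc x'' with hV''
  have hV''W : V'' ≤ W := by
    intro w hw
    have h1 := hconj a c _ (hV'c (hback a x' w hw))
    rw [hca] at h1
    exact himc (by simpa [mul_assoc] using h1)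
  have hV''inv : ∀ w ∈ V'', x * w * x⁻¹ ∈ V'' := fun w hw => conj_mem_of_commutator_mem hxx'' hw
  by_cases hYne : V ⊓ V'' = ⊥
  · have hfix : ∀ w ∈ V'', x * w * x⁻¹ = w := fun w hw => by
      have h1 : ⁅x, w⁆ ∈ V ⊓ V'' := Subgroup.mem_inf.2 ⟨comm_mem hMc x (im_le hMc _ hw), by
        rw [commutatorElement_def]; exact mul_mem (hV''inv w hw) (inv_mem hw)⟩
      rw [hYne, mem_bot, commutatorElement_eq_one_iff_mul_comm] at h1
      rw [h1, mul_inv_cancel_right]
    have hle : V'' ≤ V' := by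
      intro w hw
      have hwW := hV''W hw
      have hn : V ≤ normalizer (V' : Set S) := fun p hp => mem_normalizer_fintype fun q hq => by
        show p * q * p⁻¹ ∈ V'
        rwa [hMc p (im_le hMc _ hp) q (im_le hMc _ hq), mul_inv_cancel_right]
      rw [hW, ← SetLike.mem_coe, coe_mul_of_left_le_normalizer_right _ _ hn] at hwW
      obtain ⟨p, hp, q, hq, rfl⟩ := hwW
      have h1 := hfix _ hw
      rw [show x * (p * q) * x⁻¹ = x * p * x⁻¹ * (x * q * x⁻¹) by group, hfixV' q hq,
        mul_left_inj] at h1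
      obtain ⟨m, hm, rfl⟩ := hp
      show ⁅x, m⁆ * q ∈ V'
      rw [fix_eq_one hMc hx.sq hx.odd hm h1, one_mul]
      exact hq
    refine hne (eq_of_le_of_card_ge (fun w hw => ?_) (by rw [hV', conj_card hx, hV, hx.card_im]))
    have h1 := hle (hconj a x' w hw)
    have h2 := hback a x _ h1
    rw [show a⁻¹ * (a * w * a⁻¹) * a = w by group] at h2
    exact h2
  · have h1 := eq_im hx (Y := V ⊓ V'') inf_le_left
      (fun w hw => ⟨conj_mem_im_self hMc x hw.1, hV''inv w hw.2⟩) hYne
    have h2 : V = V'' := by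
      refine eq_of_le_of_card_ge (inf_eq_left.1 h1) ?_
      rw [hV'', hV, show x'' = a * a * x * (a * a)⁻¹ by rw [hx'', hx']; group, conj_card hx,
        hx.card_im]
    have ha2 : a ^ 2 ∈ normalizer (V : Set S) := mem_normalizer_fintype fun w hw => by
      show a ^ 2 * w * (a ^ 2)⁻¹ ∈ V
      have := hconj (a * a) x w hw
      rwa [show a * a * x * (a * a)⁻¹ = x'' by rw [hx'', hx']; group, ← hV'', ← h2, ← sq] at this
    obtain ⟨k, hk⟩ := IsPGroup.iff_orderOf.1 hR ⟨a, hFR ha⟩
    rw [orderOf_mk] at hk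
    obtain ⟨j, hj⟩ : Odd (orderOf a) := hk ▸ (show Odd 3 by decide).pow
    have haV : a ∈ normalizer (V : Set S) := by
      have := pow_mem ha2 (j + 1)
      rwa [← pow_mul, show 2 * (j + 1) = orderOf a + 1 by omega, pow_succ, pow_orderOf_eq_one,
        one_mul] at this
    refine hne (eq_of_le_of_card_ge (fun w hw => ?_) (by rw [hV', conj_card hx, hV, hx.card_im]))
    have := (mem_normalizer_iff.1 haV _).1 (hback a x w hw)
    simpa [mul_assoc] using this

/-- A `p`-group (`p ≥ 5`) normalized by `x` has a subgroup of index at most `p` centralizing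
`[x, M]`. -/
theorem exists_small_normalized {p : ℕ} [hp : Fact p.Prime] (h5 : 5 ≤ p) {T : Subgroup S}
    (hT : IsPGroup p T) (hxT : x ∈ normalizer (T : Set S)) :
    ∀ E : Subgroup S, E ≤ T → Nat.card E ≤ p * Nat.card (E ⊓ centralizer (im hMc x : Set S) : Subgroup S) := by
  intro E hE
  set V := im hMc x with hV
  have hp2 : p ≠ 2 := by omega
  have hVM : V ≤ M := im_le hMc x
  have hxc : x ∉ centralizer (M : Set S) := by
    intro h
    have h1 : V = ⊥ := eq_bot_iff.2 (by
      rintro _ ⟨m, hm, rfl⟩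
      rw [mem_bot, commutatorElement_eq_one_iff_mul_comm]
      exact (mem_centralizer_iff.1 h m hm).symm)
    have := hx.card_im
    rw [← hV, h1, card_bot] at this
    omega
  obtain ⟨U, ⟨hUM, hTU, hxU, hUx⟩, hUmin⟩ := wellFounded_lt.has_min
    {U : Subgroup S | U ≤ M ∧ T ≤ normalizer (U : Set S) ∧ x ∈ normalizer (U : Set S) ∧
      x ∉ centralizer (U : Set S)}
    ⟨M, le_rfl, by rw [normalizer_eq_top_iff.2 inferInstance]; exact le_top,
      by rw [normalizer_eq_top_iff.2 inferInstance]; exact mem_top _, hxc⟩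
  have hxUc : ∀ w ∈ U, x * w * x⁻¹ ∈ U := fun w hw => (mem_normalizer_iff.1 hxU w).1 hw
  have hVU : V ≤ U := by
    have hne : V ⊓ U ≠ ⊥ := by
      intro hb
      refine hUx (mem_centralizer_iff.2 fun u hu => ?_)
      have h1 : ⁅x, u⁆ ∈ V ⊓ U := Subgroup.mem_inf.2 ⟨comm_mem hMc x (hUM hu), by
        rw [commutatorElement_def]; exact mul_mem (hxUc u hu) (inv_mem hu)⟩
      rw [hb, mem_bot, commutatorElement_eq_one_iff_mul_comm] at h1
      exact h1.symm
    exact inf_eq_left.1 (eq_im hx (Y := V ⊓ U) inf_le_left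
      (fun w hw => ⟨conj_mem_im_self hMc x hw.1, hxUc w hw.2⟩) hne)
  suffices hcard : T ≤ centralizer (U : Set S) ∨ Nat.card U ≤ 16 by
    have hEU : E ⊓ centralizer (U : Set S) ≤ E ⊓ centralizer (V : Set S) :=
      inf_le_inf_left _ (centralizer_le hVU)
    refine le_trans ?_ (Nat.mul_le_mul_left p (Nat.le_of_dvd Nat.card_pos (card_dvd_of_le hEU)))
    rcases hcard with h | h
    · rw [inf_eq_left.2 (hE.trans h)]
      exact Nat.le_mul_of_pos_left _ hp.out.pos
    · exact (card_le_mul_centralizer hp2 (hT.to_le hE) (fun u hu => hx.sq u (hUM hu))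
        (hE.trans hTU) (Or.inr ⟨h5, h⟩)).1
  by_cases hTc : T ≤ centralizer (U : Set S)
  · exact Or.inl hTc
  right
  -- elements of `T` central modulo the kernel of the action on `U`
  set φ := act hTU with hφ
  let Z : Subgroup T := (center φ.range).comap φ.rangeRestrict
  have hRp : IsPGroup p φ.range := hT.of_surjective φ.rangeRestrict φ.rangeRestrict_surjective
  obtain ⟨z₀, hz₀Z, hz₀⟩ : ∃ z : T, z ∈ Z ∧ φ z ≠ 1 := by
    haveI : Nontrivial φ.range := by
      rw [nontrivial_iff_ne_bot, Ne, MonoidHom.range_eq_bot_iff]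
      intro e
      exact hTc fun t ht => mem_centralizer_of_act_eq_one hTU (g := ⟨t, ht⟩)
        (DFunLike.congr_fun e _)
    haveI := hRp.center_nontrivial
    obtain ⟨⟨⟨_, z, rfl⟩, hz⟩, hz1⟩ := exists_ne (1 : center φ.range)
    refine ⟨z, hz, fun e => hz1 (Subtype.ext (Subtype.ext e))⟩
  have hZiff : ∀ z : T, z ∈ Z ↔ ∀ t : T, φ t * φ z = φ z * φ t := by
    intro z
    rw [mem_comap, mem_center_iff]
    exact ⟨fun h t => congrArg Subtype.val (h ⟨φ t, t, rfl⟩), fun h => by
      rintro ⟨_, t, rfl⟩; exact Subtype.ext (h t)⟩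
  let xc : T → T := fun t => ⟨x * t * x⁻¹, (mem_normalizer_iff.1 hxT t).1 t.2⟩
  let xi : T → T := fun t => ⟨x⁻¹ * t * x, by
    have := (mem_normalizer_iff.1 (inv_mem hxT) t).1 t.2
    simpa using this⟩
  have hact : ∀ (t : T) (u : U), ((φ t u : U) : S) = t * u * (t : S)⁻¹ := fun t u => rfl
  have hxcZ : ∀ z : T, z ∈ Z → xc z ∈ Z := by
    intro z hz
    rw [hZiff] at hz ⊢
    intro t
    refine MulEquiv.ext fun u => Subtype.ext ?_
    have hu' : x⁻¹ * (u : S) * x ∈ U := by
      have := (mem_normalizer_iff.1 (inv_mem hxU) u).1 u.2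
      simpa using this
    have h := congrArg (fun σ : MulAut U => ((σ ⟨_, hu'⟩ : U) : S)) (hz (xi t))
    simp only [MulAut.mul_apply, hact, xi] at h
    simp only [MulAut.mul_apply, hact, xc]
    calc _ = x * (x⁻¹ * t * x * (z * (x⁻¹ * u * x) * (z : S)⁻¹) * (x⁻¹ * t * x)⁻¹) * x⁻¹ := by group
      _ = _ := by rw [h]; group
  by_cases hall : ∀ z : T, z ∈ Z → φ (xc z) = φ z
  · exfalso
    have hzV : ∀ z : T, z ∈ Z → (z : S) ∈ centralizer (V : Set S) := by
      intro z hz
      have hd : ∀ u ∈ U, x * (z * (x⁻¹ * u * x) * (z : S)⁻¹) * x⁻¹ = z * u * (z : S)⁻¹ := by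
        intro u hu
        have h := congrArg (fun σ : MulAut U => ((σ ⟨u, hu⟩ : U) : S)) (hall z hz)
        simp only [hact, xc] at h
        rw [← h]
        group
      have hnorm : (z : S) ∈ normalizer (V : Set S) := by
        refine mem_normalizer_fintype fun v hv => ?_
        show z * v * (z : S)⁻¹ ∈ V
        have hb : ∀ u ∈ U, ⁅x, (z : S) * u * (z : S)⁻¹⁆ = z * ⁅x, u⁆ * (z : S)⁻¹ := by
          intro u hu
          have h := hd (x * u * x⁻¹) (hxUc u hu)
          rw [show x⁻¹ * (x * u * x⁻¹) * x = u by group] at h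
          rw [commutatorElement_def, h, commutatorElement_def]
          group
        have hsurj : ∃ u ∈ U, ⁅x, u⁆ = v := by
          let Y : Subgroup S := im hMc x ⊓ U
          obtain ⟨m, hm, rfl⟩ := hv
          by_contra hno
          push Not at hno
          let δ : U → U := fun u => ⟨⁅x, (u : S)⁆, by
            rw [commutatorElement_def]; exact mul_mem (hxUc u u.2) (inv_mem u.2)⟩
          have hinj : Function.Injective (fun v : V => (⟨⁅x, (v : S)⁆, comm_mem hMc x (hVM v.2)⟩ : V)) := by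
            intro v w hvw
            have hvw' : ⁅x, (v : S)⁆ = ⁅x, (w : S)⁆ := congrArg Subtype.val hvw
            obtain ⟨n, hn, hnw⟩ := (mul_mem v.2 (inv_mem w.2) : (v : S) * (w : S)⁻¹ ∈ V)
            have h1 : x * ((v : S) * (w : S)⁻¹) * x⁻¹ = (v : S) * (w : S)⁻¹ := by
              simp only [commutatorElement_def] at hvw'
              calc x * ((v : S) * (w : S)⁻¹) * x⁻¹
                  = (x * v * x⁻¹ * (v : S)⁻¹) * v * ((x * w * x⁻¹ * (w : S)⁻¹) * w)⁻¹ := by group
                _ = _ := by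
                  rw [hvw']
                  have h2 : (v : S) * (w : S)⁻¹ ∈ M := mul_mem (hVM v.2) (inv_mem (hVM w.2))
                  have h3 : x * w * x⁻¹ * (w : S)⁻¹ ∈ M :=
                    mul_mem (hM.conj_mem _ (hVM w.2) x) (inv_mem (hVM w.2))
                  rw [mul_inv_rev, mul_assoc _ (v : S), ← mul_assoc (v : S),
                    ← mul_assoc _ ((v : S) * (w : S)⁻¹), hMc _ h3 _ h2, mul_inv_cancel_right]
            rw [← hnw] at h1
            exact Subtype.ext (mul_inv_eq_one.1 (hnw.symm.trans (fix_eq_one hMc hx.sq hx.odd hn h1)))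
          obtain ⟨⟨w, hw⟩, hw'⟩ := Finite.injective_iff_surjective.1 hinj ⟨⁅x, m⁆, comm_mem hMc x hm⟩
          exact hno w (hVU hw) (congrArg Subtype.val hw')
        obtain ⟨u, hu, rfl⟩ := hsurj
        rw [← hb u hu]
        exact comm_mem hMc x (hUM ((mem_normalizer_iff.1 (hTU z.2) u).1 hu))
      exact (card_le_mul_centralizer hp2 (hT.to_le (zpowers_le.2 z.2)) (fun v hv => hx.sq v (hVM hv))
        (zpowers_le.2 hnorm) (Or.inl hx.card_im.le)).2 h5 hx.card_im.le (mem_zpowers _)
    let C : Subgroup S := U ⊓ centralizer ((fun z : T => (z : S)) '' (Z : Set T))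
    have hCmem : ∀ w, w ∈ C ↔ w ∈ U ∧ ∀ z : T, z ∈ Z → (z : S) * w * (z : S)⁻¹ = w := by
      intro w
      simp only [C, mem_inf, mem_centralizer_iff, Set.forall_mem_image, SetLike.mem_coe,
        mul_inv_eq_iff_eq_mul]
    have hVC : V ≤ C := fun v hv => (hCmem v).2 ⟨hVU hv, fun z hz => by
      rw [mul_inv_eq_iff_eq_mul]
      exact (mem_centralizer_iff.1 (hzV z hz) v hv).symm⟩
    have hCx : x ∉ centralizer (C : Set S) := by
      intro h
      have h1 : V = ⊥ := eq_bot_iff.2 (by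
        intro v hv
        obtain ⟨m, hm, rfl⟩ := hv
        rw [mem_bot]
        refine fix_eq_one hMc hx.sq hx.odd hm ?_
        rw [← mem_centralizer_iff.1 h _ (hVC (comm_mem hMc x hm)), mul_inv_cancel_right])
      have := hx.card_im
      rw [← hV, h1, card_bot] at this
      omega
    have hCT : T ≤ normalizer (C : Set S) := fun t ht => mem_normalizer_fintype fun w hw => by
      show t * w * t⁻¹ ∈ C
      obtain ⟨hwU, hwz⟩ := (hCmem w).1 hw
      refine (hCmem _).2 ⟨(mem_normalizer_iff.1 (hTU ht) w).1 hwU, fun z hz => ?_⟩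
      have h := congrArg (fun σ : MulAut U => ((σ ⟨w, hwU⟩ : U) : S)) ((hZiff z).1 hz ⟨t, ht⟩)
      simp only [MulAut.mul_apply, hact] at h
      rw [← h, hwz z hz]
    have hCxn : x ∈ normalizer (C : Set S) := mem_normalizer_fintype fun w hw => by
      show x * w * x⁻¹ ∈ C
      obtain ⟨hwU, hwz⟩ := (hCmem w).1 hw
      refine (hCmem _).2 ⟨hxUc w hwU, fun z hz => ?_⟩
      have h := congrArg (fun σ : MulAut U => ((σ ⟨_, hxUc w hwU⟩ : U) : S)) (hall z hz)
      simp only [hact, xc] at h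
      rw [← h]
      calc x * z * x⁻¹ * (x * w * x⁻¹) * (x * z * x⁻¹)⁻¹ = x * (z * w * (z : S)⁻¹) * x⁻¹ := by group
        _ = _ := by rw [hwz z hz]
    have hCU : C = U := by
      by_contra hne
      exact hUmin C ⟨inf_le_left.trans hUM, hCT, hCxn, hCx⟩ (lt_of_le_of_ne inf_le_left hne)
    refine hz₀ (MulEquiv.ext fun u => Subtype.ext ?_)
    rw [hact]
    exact ((hCmem _).1 (hCU.symm ▸ u.2)).2 z₀ hz₀Z
  push Not at hall
  obtain ⟨z, hz, hne⟩ := hall
  let d : T := xc z * z⁻¹
  have hdZ : d ∈ Z := mul_mem (hxcZ z hz) (inv_mem hz)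
  have hd1 : φ d ≠ 1 := by
    intro e
    rw [map_mul, map_inv, mul_inv_eq_one] at e
    exact hne e
  set W := V ⊔ im hMc ((z : S) * x * (z : S)⁻¹) with hW
  have hWM : W ≤ M := sup_le hVM (im_le hMc _)
  have hdW : ∀ u ∈ U, ⁅(d : S), u⁆ ∈ W := by
    intro u hu
    have hde : (d : S) = x * ((z : S) * x * (z : S)⁻¹)⁻¹ := by
      show x * z * x⁻¹ * (z : S)⁻¹ = _
      group
    rw [hde, commutatorElement_mul_left_eq_conj_mul]
    exact mul_mem (conj_mem_of_im_le hMc hWM le_sup_left
      (mem_sup_right (im_inv hMc ((z : S) * x * (z : S)⁻¹) ▸ comm_mem hMc _ (hUM hu))))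
      (mem_sup_left (comm_mem hMc x (hUM hu)))
  set K := T ⊔ zpowers x with hK
  have hKU : K ≤ normalizer (U : Set S) := sup_le hTU (zpowers_le.2 hxU)
  let D : Subgroup S :=
    { carrier := {w | ∀ g ∈ K, g * w * g⁻¹ ∈ U ⊓ W}
      one_mem' := fun g _ => by simp
      mul_mem' := fun {a b} ha hb g hg => by
        have := mul_mem (ha g hg) (hb g hg)
        rwa [show g * a * g⁻¹ * (g * b * g⁻¹) = g * (a * b) * g⁻¹ by group] at this
      inv_mem' := fun {a} ha g hg => by
        have := inv_mem (ha g hg)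
        rwa [show (g * a * g⁻¹)⁻¹ = g * a⁻¹ * g⁻¹ by group] at this }
  have hDle : D ≤ U ⊓ W := fun w hw => by simpa using hw 1 (one_mem K)
  have hDK : K ≤ normalizer (D : Set S) := fun k hk => mem_normalizer_fintype fun w hw => by
    intro g hg
    have := hw (g * k) (mul_mem hg hk)
    rwa [show g * k * w * (g * k)⁻¹ = g * (k * w * k⁻¹) * g⁻¹ by group] at this
  have hTstab : ∀ t ∈ T, ∀ u ∈ U, ∃ u' ∈ U, t * ⁅(d : S), u⁆ * t⁻¹ = ⁅(d : S), u'⁆ := by
    intro t ht u hu
    refine ⟨t * u * t⁻¹, (mem_normalizer_iff.1 (hTU ht) u).1 hu, ?_⟩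
    have h := congrArg (fun σ : MulAut U => ((σ ⟨u, hu⟩ : U) : S)) ((hZiff d).1 hdZ ⟨t, ht⟩)
    simp only [MulAut.mul_apply, hact] at h
    rw [commutatorElement_def, commutatorElement_def, ← h]
    group
  have hdD : ∀ u ∈ U, ⁅(d : S), u⁆ ∈ D := by
    intro u hu g hg
    have hxn : zpowers x ≤ normalizer (T : Set S) := zpowers_le.2 hxT
    rw [hK, sup_comm, ← SetLike.mem_coe, coe_mul_of_left_le_normalizer_right _ _ hxn] at hg
    obtain ⟨y, hy, t, ht, rfl⟩ := hg
    obtain ⟨u', hu', he⟩ := hTstab t ht u hu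
    rw [show y * t * ⁅(d : S), u⁆ * (y * t)⁻¹ = y * (t * ⁅(d : S), u⁆ * t⁻¹) * y⁻¹ by group, he]
    have hdU : ⁅(d : S), u'⁆ ∈ U := by
      rw [commutatorElement_def]
      exact mul_mem ((mem_normalizer_iff.1 (hTU d.2) u').1 hu') (inv_mem hu')
    have hxW : x ∈ normalizer (W : Set S) := mem_normalizer_fintype fun w hw =>
      conj_mem_of_im_le hMc hWM le_sup_left hw
    exact ⟨(mem_normalizer_iff.1 (zpowers_le.2 hxU hy) _).1 hdU,
      (mem_normalizer_iff.1 (zpowers_le.2 hxW hy) _).1 (hdW u' hu')⟩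
  have hxD : x ∉ centralizer (D : Set S) := by
    intro h
    refine hd1 (act_eq_one hTU (mem_centralizer_iff.2 fun u hu => ?_))
    have hw := hdD u hu
    have hodd : Odd (orderOf (d : S)) := by
      obtain ⟨k, hk⟩ := IsPGroup.iff_orderOf.1 hT d
      rw [orderOf_coe, hk]
      exact (hp.out.odd_of_ne_two hp2).pow
    have hzD : (z : S) * ⁅(d : S), u⁆ * (z : S)⁻¹ ∈ D :=
      (mem_normalizer_iff.1 (hDK (mem_sup_left z.2)) _).1 hw
    have hxfix : ∀ w ∈ D, x * w * x⁻¹ = w := fun w hw => by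
      rw [← mem_centralizer_iff.1 h w hw, mul_inv_cancel_right]
    have hzinv : (z : S)⁻¹ * ⁅(d : S), u⁆ * z ∈ D := by
      have := (mem_normalizer_iff.1 (hDK (inv_mem (mem_sup_left z.2 : (z : S) ∈ K))) _).1 hw
      simpa using this
    have hxinv : ∀ w ∈ D, x⁻¹ * w * x = w := fun w hw => by
      conv_lhs => rw [← hxfix w hw]
      group
    have hfix : (d : S) * ⁅(d : S), u⁆ * (d : S)⁻¹ = ⁅(d : S), u⁆ := by
      show x * z * x⁻¹ * (z : S)⁻¹ * _ * (x * z * x⁻¹ * (z : S)⁻¹)⁻¹ = _
      calc _ = x * (z * (x⁻¹ * ((z : S)⁻¹ * ⁅(d : S), u⁆ * z) * x) * (z : S)⁻¹) * x⁻¹ := by group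
        _ = x * ⁅(d : S), u⁆ * x⁻¹ := by rw [hxinv _ hzinv]; group
        _ = _ := hxfix _ hw
    exact (commutatorElement_eq_one_iff_mul_comm.1
      (fix_eq_one hMc hx.sq hodd (hUM hu) hfix)).symm
  have hDU : D = U := by
    by_contra hne
    exact hUmin D ⟨(hDle.trans inf_le_left).trans hUM, fun t ht => hDK (mem_sup_left ht),
      hDK (mem_sup_right (mem_zpowers x)), hxD⟩ (lt_of_le_of_ne (hDle.trans inf_le_left) hne)
  exact le_trans (Nat.le_of_dvd Nat.card_pos (card_dvd_of_le
    (hDU ▸ hDle.trans inf_le_right : U ≤ W))) (card_sup_le hx z)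

end Setting

end CfsgLib.FGS74.TwoDim
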