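import Mathlib
import Cfsg.Agent.FGS74.FrobeniusFree

/-!
# Weight idempotents of a normal subgroup with abelian action

`wt ρ N χ` is the projection onto the `χ`-eigenspace of `N`; they are permuted by conjugation.
Also: fixed points commute with extension of the ground field.
-/

set_option autoImplicit false

open scoped TensorProduct commutatorElement
open Module

namespace CfsgLib.FGS74.Weights

open FrobFree

universe u v w

variable {K : Type u} [Field K] {A : Type w} [Group A] [Finite A] {W : Type v} [AddCommGroup W]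
  [Module K W] (ρ : Representation K A W) (N : Subgroup A)

/-- The eigenspace projection of a linear character. -/
noncomputable def wt (χ : N →* Kˣ) : Module.End K W :=
  letI := Fintype.ofFinite N
  (Nat.card N : K)⁻¹ • ∑ x : N, ((χ x⁻¹ : Kˣ) : K) • ρ (x : A)

theorem rho_mul_wt (χ : N →* Kˣ) (y : N) :
    ρ (y : A) * wt ρ N χ = ((χ y : Kˣ) : K) • wt ρ N χ := by
  letI := Fintype.ofFinite N
  simp only [wt, mul_smul_comm, Finset.mul_sum, smul_comm ((χ y : Kˣ) : K), Finset.smul_sum,
    ← map_mul]
  refine Fintype.sum_equiv (Equiv.mulLeft y) _ _ (fun x => ?_)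
  simp only [Equiv.coe_mulLeft, mul_inv_rev, map_mul, Units.val_mul, Subgroup.coe_mul,
    smul_smul]
  congr 1
  rw [map_inv χ y, mul_assoc]
  congr 1
  rw [← Units.val_mul, mul_comm ((χ y)⁻¹), mul_inv_cancel, Units.val_one, mul_one]

theorem wt_mul (hcard : (Nat.card N : K) ≠ 0) (χ ψ : N →* Kˣ) [Decidable (χ = ψ)] :
    wt ρ N χ * wt ρ N ψ = if χ = ψ then wt ρ N ψ else 0 := by
  classical
  letI := Fintype.ofFinite N
  have h1 : wt ρ N χ * wt ρ N ψ
      = ((Nat.card N : K)⁻¹ * ∑ x : N, (((χ⁻¹ * ψ) x : Kˣ) : K)) • wt ρ N ψ := by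
    conv_lhs => rw [show wt ρ N χ = (Nat.card N : K)⁻¹ • ∑ x : N, ((χ x⁻¹ : Kˣ) : K) • ρ (x : A)
      from rfl]
    rw [smul_mul_assoc, Finset.sum_mul, mul_smul, Finset.sum_smul]
    refine congrArg _ (Finset.sum_congr rfl fun x _ => ?_)
    rw [smul_mul_assoc, rho_mul_wt, smul_smul]
    simp [MonoidHom.inv_apply]
  rw [h1]
  split_ifs with h
  · subst h
    simp [Nat.card_eq_fintype_card] at hcard ⊢
    simp [hcard]
  · have hne : χ⁻¹ * ψ ≠ 1 := fun e' => h (inv_mul_eq_one.1 e')
    have h2 : (Units.coeHom K).comp (χ⁻¹ * ψ) ≠ 1 := fun e' => hne (by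
      ext x
      exact congrArg (fun f : N →* K => f x) e')
    have h3 := sum_hom_units_eq_zero ((Units.coeHom K).comp (χ⁻¹ * ψ)) h2
    simp only [MonoidHom.comp_apply, Units.coeHom_apply] at h3
    rw [h3, mul_zero, zero_smul]

theorem wt_one (hfix : fixedSub ρ N = ⊥) : wt ρ N 1 = 0 := by
  letI := Fintype.ofFinite N
  have : wt ρ N 1 = avg ρ N := by
    simp only [wt, avg, MonoidHom.one_apply, Units.val_one, one_smul]
  rw [this, avg_eq_zero ρ hfix]

theorem sum_wt [HasEnoughRootsOfUnity K (Monoid.exponent (Abelianization N))]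
    [Fintype (N →* Kˣ)]
    (hcard : (Nat.card N : K) ≠ 0) (hcomm : ∀ a ∈ ⁅N, N⁆, ρ a = 1) :
    ∑ χ : N →* Kˣ, wt ρ N χ = 1 := by
  classical
  letI := Fintype.ofFinite N
  have hdual : ∀ x : N, (∑ χ : N →* Kˣ, ((χ x⁻¹ : Kˣ) : K))
      = if x ∈ commutator N then ((Nat.card (N →* Kˣ) : K)) else 0 := by
    intro x
    split_ifs with hx
    · rw [Finset.sum_congr rfl (fun χ _ => by
        rw [show χ x⁻¹ = 1 from Abelianization.commutator_subset_ker χ (inv_mem hx),
          Units.val_one])]
      simp [Nat.card_eq_fintype_card]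
    · have hx' : Abelianization.of x⁻¹ ≠ 1 := by
        intro e'
        rw [map_inv, inv_eq_one] at e'
        exact hx ((QuotientGroup.eq_one_iff x).1 e')
      obtain ⟨φ, hφ⟩ :=
        CommGroup.exists_apply_ne_one_of_hasEnoughRootsOfUnity (Abelianization N) K hx'
      have h1 : ∑ χ : N →* Kˣ, (((φ.comp Abelianization.of * χ) x⁻¹ : Kˣ) : K)
          = ∑ χ : N →* Kˣ, ((χ x⁻¹ : Kˣ) : K) :=
        Fintype.sum_equiv (Equiv.mulLeft (φ.comp Abelianization.of)) _ _ (fun _ => rfl)
      simp only [MonoidHom.mul_apply, MonoidHom.comp_apply, Units.val_mul,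
        ← Finset.mul_sum] at h1
      by_contra hne
      refine hφ (Units.ext ?_)
      exact mul_right_cancel₀ hne (h1.trans (one_mul _).symm)
  simp only [wt, ← Finset.smul_sum]
  rw [Finset.sum_comm]
  simp only [← Finset.sum_smul, hdual, ite_smul, zero_smul]
  rw [← Finset.sum_filter]
  have hρ1 : ∀ x ∈ Finset.univ.filter (fun x : N => x ∈ commutator N),
      (Nat.card (N →* Kˣ) : K) • ρ (x : A) = (Nat.card (N →* Kˣ) : K) • (1 : Module.End K W) := by
    intro x hx
    rw [hcomm]
    rw [← Subgroup.map_subtype_commutator]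
    exact ⟨x, (Finset.mem_filter.1 hx).2, rfl⟩
  rw [Finset.sum_congr rfl hρ1, Finset.sum_const, ← Nat.cast_smul_eq_nsmul K, smul_smul,
    smul_smul]
  have hc : Nat.card (N →* Kˣ) = Nat.card (Abelianization N) :=
    (Nat.card_congr (Abelianization.lift (G := N) (A := Kˣ))).trans
      (CommGroup.card_monoidHom_of_hasEnoughRootsOfUnity (Abelianization N) K)
  have hf : (Finset.univ.filter (fun x : N => x ∈ commutator N)).card
      = Nat.card (commutator N) := by
    rw [Nat.card_eq_fintype_card, Fintype.card_subtype]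
  rw [hc, hf, mul_assoc, ← Nat.cast_mul,
    show Nat.card (commutator N) * Nat.card (Abelianization N) = Nat.card N from
      (commutator N).card_mul_index, inv_mul_cancel₀ hcard, one_smul]

/-- Conjugation of linear characters. -/
def act [N.Normal] (a : A) (χ : N →* Kˣ) : N →* Kˣ :=
  χ.comp (MulAut.conjNormal a⁻¹ : N ≃* N).toMonoidHom

theorem wt_conj [N.Normal] (h : A) (χ : N →* Kˣ) :
    ρ h * wt ρ N χ * ρ h⁻¹ = wt ρ N (act N h χ) := by
  letI := Fintype.ofFinite N
  simp only [wt, mul_smul_comm, smul_mul_assoc, Finset.mul_sum, Finset.sum_mul, ← map_mul]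
  congr 1
  refine Fintype.sum_equiv (MulAut.conjNormal h : N ≃* N).toEquiv _ _ (fun x => ?_)
  have hval : ((MulAut.conjNormal h x : N) : A) = h * x * h⁻¹ :=
    MulAut.conjNormal_apply _ _
  congr 1
  · congr 1
    show χ x⁻¹ = χ (MulAut.conjNormal h⁻¹ (MulAut.conjNormal h x)⁻¹)
    congr 1
    rw [← map_inv (MulAut.conjNormal h) x]
    apply Subtype.ext
    simp [MulAut.conjNormal_apply, mul_assoc]

theorem act_one [N.Normal] (χ : N →* Kˣ) : act N (1 : A) χ = χ :=
  MonoidHom.ext fun x => congrArg χ (Subtype.ext (by simp [MulAut.conjNormal_apply]))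

theorem act_mul [N.Normal] (a b : A) (χ : N →* Kˣ) : act N (a * b) χ = act N a (act N b χ) :=
  MonoidHom.ext fun x => congrArg χ (Subtype.ext (by simp [mul_assoc]))

section BaseChange

variable {k : Type u} [Field k] {V : Type v} [AddCommGroup V] [Module k V] [FiniteDimensional k V]
  (K' : Type u) [Field K'] [Algebra k K'] (σ : Representation k A V)

/-- Extension of the ground field. -/
noncomputable def extend : Representation K' A (K' ⊗[k] V) where
  toFun := fun a => (σ a).baseChange K'
  map_one' := by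
    rw [map_one, Module.End.one_eq_id, LinearMap.baseChange_id]; rfl
  map_mul' := fun a b => by
    rw [map_mul, Module.End.mul_eq_comp, LinearMap.baseChange_comp]; rfl

theorem fixedSub_extend (H : Subgroup A) :
    fixedSub (extend K' σ) H = LinearMap.range ((fixedSub σ H).subtype.baseChange K') := by
  classical
  letI := Fintype.ofFinite H
  let Φ : V →ₗ[k] (H → V) := LinearMap.pi fun h => σ (h : A) - 1
  have hΦ : LinearMap.ker Φ = fixedSub σ H := by
    ext x
    simp only [LinearMap.mem_ker, mem_fixedSub]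
    constructor
    · intro hx a ha
      exact sub_eq_zero.1 (congrFun hx ⟨a, ha⟩)
    · intro hx
      funext h
      exact sub_eq_zero.2 (hx h h.2)
  have hΦ' : LinearMap.ker (Φ.baseChange K') = fixedSub (extend K' σ) H := by
    ext x
    have key : ∀ (y : K' ⊗[k] V) (h : H),
        TensorProduct.piRight k K' K' (fun _ : H => V) (Φ.baseChange K' y) h
          = extend K' σ (h : A) y - y := by
      intro y h
      induction y using TensorProduct.induction_on with
      | zero => simp
      | tmul c z => simp [Φ, extend, TensorProduct.tmul_sub]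
      | add y z hy hz =>
        simp only [map_add, Pi.add_apply, hy, hz]
        abel
    simp only [LinearMap.mem_ker, mem_fixedSub]
    constructor
    · intro hx a ha
      have := key x ⟨a, ha⟩
      rw [hx, map_zero] at this
      exact sub_eq_zero.1 this.symm
    · intro hx
      apply (TensorProduct.piRight k K' K' (fun _ : H => V)).injective
      rw [map_zero]
      funext h
      rw [key, hx h h.2, sub_self]
      rfl
  rw [← hΦ', ← hΦ]
  exact LinearMap.exact_iff.1 (Module.Flat.lTensor_exact K' Φ.exact_subtype_ker_map)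

theorem finrank_fixedSub_extend (H : Subgroup A) :
    finrank K' (fixedSub (extend K' σ) H) = finrank k (fixedSub σ H) := by
  rw [fixedSub_extend, LinearMap.finrank_range_of_inj, Module.finrank_baseChange]
  exact Module.Flat.lTensor_preserves_injective_linearMap _ (fixedSub σ H).subtype_injective

theorem extend_apply_mem (H : Subgroup A) (a : A)
    (ha : ∀ v ∈ fixedSub σ H, σ a v ∈ fixedSub σ H) {y : K' ⊗[k] V}
    (hy : y ∈ fixedSub (extend K' σ) H) : extend K' σ a y ∈ fixedSub (extend K' σ) H := by
  rw [fixedSub_extend] at hy ⊢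
  obtain ⟨z, rfl⟩ := hy
  induction z using TensorProduct.induction_on with
  | zero => simp
  | tmul c v => exact ⟨c ⊗ₜ[k] ⟨σ a v, ha v v.2⟩, by simp [extend]⟩
  | add y z hy hz => rw [map_add, map_add]; exact add_mem hy hz

theorem fixedSub_extend_eq_bot (H : Subgroup A) (h : fixedSub σ H = ⊥) :
    fixedSub (extend K' σ) H = ⊥ := by
  rw [← Submodule.finrank_eq_zero (R := K'), finrank_fixedSub_extend, h, finrank_bot]

end BaseChange

end CfsgLib.FGS74.Weights
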