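import Mathlib

/-!
# A model of `D₈ ≀ 2`

`W8 = (D₈ × D₈) ⋊ C₂` with its base, its two normal elementary abelian subgroups of order 16 and
the finite facts used for its overgroups.
-/

set_option autoImplicit false
set_option maxRecDepth 100000
set_option synthInstance.maxSize 2000
set_option synthInstance.maxHeartbeats 200000

namespace CfsgLib.FGS74.W8

/-- The dihedral group of order eight. -/
abbrev D := DihedralGroup 4

/-- The swap of the two factors. -/
def swapHom : Multiplicative (ZMod 2) →* MulAut (D × D) where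
  toFun s := if s = 1 then 1 else MulEquiv.prodComm
  map_one' := if_pos rfl
  map_mul' := by
    intro s s'
    have h : ∀ a b : Multiplicative (ZMod 2), a = 1 ∨ b = 1 ∨ a * b = 1 := by decide
    by_cases hs : s = 1
    · subst hs; rw [one_mul, if_pos rfl, one_mul]
    by_cases hs' : s' = 1
    · subst hs'; rw [mul_one, if_pos rfl, mul_one]
    rw [if_neg hs, if_neg hs', if_pos ((h s s').resolve_left hs |>.resolve_left hs')]
    exact MulEquiv.ext fun x => rfl

/-- The model. -/
abbrev W := (D × D) ⋊[swapHom] Multiplicative (ZMod 2)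

instance : DecidableEq W := fun a b =>
  decidable_of_iff (a.left = b.left ∧ a.right = b.right)
    ⟨fun h => SemidirectProduct.ext h.1 h.2, fun h => h ▸ ⟨rfl, rfl⟩⟩

instance : Fintype W := Fintype.ofEquiv _ SemidirectProduct.equivProd.symm

/-- The first generator. -/
def gA : W := ⟨(DihedralGroup.sr 0, 1), 1⟩
/-- The second generator. -/
def gB : W := ⟨(DihedralGroup.sr 1, 1), 1⟩
/-- The swapping involution. -/
def gT : W := ⟨1, Multiplicative.ofAdd 1⟩
/-- The conjugate of `gA`. -/
def gA' : W := ⟨(1, DihedralGroup.sr 0), 1⟩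
/-- The conjugate of `gB`. -/
def gB' : W := ⟨(1, DihedralGroup.sr 1), 1⟩
/-- The central element of the first factor. -/
def cA : W := ⟨(DihedralGroup.r 2, 1), 1⟩
/-- The central element of the second factor. -/
def cB : W := ⟨(1, DihedralGroup.r 2), 1⟩
/-- The central involution. -/
def cZ : W := ⟨(DihedralGroup.r 2, DihedralGroup.r 2), 1⟩

/-- Exponent of `sr 0` modulo the centre. -/
def bitA : D → ZMod 2
  | .r i => (i.val : ZMod 2)
  | .sr i => (i.val : ZMod 2) + 1

/-- Exponent of `sr 1` modulo the centre. -/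
def bitB : D → ZMod 2
  | .r i => (i.val : ZMod 2)
  | .sr i => (i.val : ZMod 2)

/-- Class of a base element modulo the centre of the base. -/
def cls (v : W) : (ZMod 2 × ZMod 2) × (ZMod 2 × ZMod 2) :=
  ((bitA v.left.1, bitB v.left.1), (bitA v.left.2, bitB v.left.2))

/-- The action of an element outside `W` on the base modulo its centre. -/
def swapCls (c : (ZMod 2 × ZMod 2) × (ZMod 2 × ZMod 2)) : (ZMod 2 × ZMod 2) × (ZMod 2 × ZMod 2) :=
  ((c.2.2, c.2.1), (c.1.2, c.1.1))

/-- In `V₁`. -/
abbrev InV1 (v : W) : Prop := v.right = 1 ∧ bitB v.left.1 = 0 ∧ bitB v.left.2 = 0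

/-- In `V₂`. -/
abbrev InV2 (v : W) : Prop := v.right = 1 ∧ bitA v.left.1 = 0 ∧ bitA v.left.2 = 0

/-- In the centre of the base. -/
abbrev InZb (v : W) : Prop := v.right = 1 ∧ cls v = 0

theorem bitA_mul : ∀ a b : D, bitA (a * b) = bitA a + bitA b := by decide +kernel
theorem bitB_mul : ∀ a b : D, bitB (a * b) = bitB a + bitB b := by decide +kernel

theorem cls_mul {u v : W} (hu : u.right = 1) : cls (u * v) = cls u + cls v := by
  unfold cls
  rw [SemidirectProduct.mul_left, hu, map_one]
  simp [bitA_mul, bitB_mul]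

theorem inv_mem_InV1 : ∀ v, InV1 v → InV1 v⁻¹ := by decide +kernel
theorem inv_mem_InV2 : ∀ v, InV2 v → InV2 v⁻¹ := by decide +kernel

theorem mul_mem_InV1 {u v : W} (hu : InV1 u) (hv : InV1 v) : InV1 (u * v) := by
  refine ⟨?_, ?_, ?_⟩
  · rw [SemidirectProduct.mul_right, hu.1, hv.1, one_mul]
  all_goals rw [SemidirectProduct.mul_left, hu.1, map_one, MulAut.one_apply]
  · rw [Prod.fst_mul, bitB_mul, hu.2.1, hv.2.1, add_zero]
  · rw [Prod.snd_mul, bitB_mul, hu.2.2, hv.2.2, add_zero]

theorem mul_mem_InV2 {u v : W} (hu : InV2 u) (hv : InV2 v) : InV2 (u * v) := by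
  refine ⟨?_, ?_, ?_⟩
  · rw [SemidirectProduct.mul_right, hu.1, hv.1, one_mul]
  all_goals rw [SemidirectProduct.mul_left, hu.1, map_one, MulAut.one_apply]
  · rw [Prod.fst_mul, bitA_mul, hu.2.1, hv.2.1, add_zero]
  · rw [Prod.snd_mul, bitA_mul, hu.2.2, hv.2.2, add_zero]

/-- The first normal elementary abelian subgroup of order 16. -/
def V1 : Subgroup W where
  carrier := {v | InV1 v}
  one_mem' := by decide +kernel
  mul_mem' := fun hu hv => mul_mem_InV1 hu hv
  inv_mem' := fun hu => inv_mem_InV1 _ hu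

/-- The second normal elementary abelian subgroup of order 16. -/
def V2 : Subgroup W where
  carrier := {v | InV2 v}
  one_mem' := by decide +kernel
  mul_mem' := fun hu hv => mul_mem_InV2 hu hv
  inv_mem' := fun hu => inv_mem_InV2 _ hu

theorem mem_V1 {v : W} : v ∈ V1 ↔ InV1 v := Iff.rfl
theorem mem_V2 {v : W} : v ∈ V2 ↔ InV2 v := Iff.rfl

theorem card_W : Nat.card W = 128 := by
  rw [Nat.card_eq_fintype_card]; decide +kernel

theorem card_V1 : Nat.card V1 = 16 := by
  show Nat.card {v : W // InV1 v} = 16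
  rw [Nat.card_eq_fintype_card]; decide +kernel

theorem card_V2 : Nat.card V2 = 16 := by
  show Nat.card {v : W // InV2 v} = 16
  rw [Nat.card_eq_fintype_card]; decide +kernel

theorem center_cases : ∀ v : W,
    v * gA = gA * v → v * gB = gB * v → v * gT = gT * v → v = 1 ∨ v = cZ := by decide +kernel

theorem cZ_comm : ∀ g : W, g * cZ = cZ * g := by decide +kernel

theorem closure_abelian_cases : ∀ v : W, v * v = 1 →
    (∀ g : W, g * v * g⁻¹ * v = v * (g * v * g⁻¹)) → InV1 v ∨ InV2 v := by decide +kernel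

theorem mixed_noncomm : ∀ v : W, InV1 v → ¬ InV2 v → ∀ w : W, InV2 w → ¬ InV1 w →
    ∃ g : W, g * v * g⁻¹ * w ≠ w * (g * v * g⁻¹) := by decide +kernel

/-- Normal elementary abelian subgroups of order 16. -/
theorem eq_V1_or_V2 (V : Subgroup W) (hn : V.Normal) (hsq : ∀ v ∈ V, v * v = 1)
    (hc : ∀ v ∈ V, ∀ w ∈ V, v * w = w * v) (hcard : Nat.card V = 16) : V = V1 ∨ V = V2 := by
  have hcases : ∀ v ∈ V, InV1 v ∨ InV2 v := fun v hv =>
    closure_abelian_cases v (hsq v hv) fun g => hc _ (hn.conj_mem v hv g) v hv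
  have hle : V ≤ V1 ∨ V ≤ V2 := by
    by_contra h
    push Not at h
    obtain ⟨v, hv, hv1⟩ := SetLike.not_le_iff_exists.1 h.1
    obtain ⟨w, hw, hw2⟩ := SetLike.not_le_iff_exists.1 h.2
    obtain ⟨g, hg⟩ := mixed_noncomm w ((hcases w hw).resolve_right hw2) hw2 v
      ((hcases v hv).resolve_left hv1) hv1
    exact hg (hc _ (hn.conj_mem w hw g) v hv)
  exact hle.imp (fun h => Subgroup.eq_of_le_of_card_ge h (card_V1.le.trans hcard.ge))
    (fun h => Subgroup.eq_of_le_of_card_ge h (card_V2.le.trans hcard.ge))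

theorem normal_V1 : V1.Normal := ⟨by
  have h : ∀ v, InV1 v → ∀ g : W, InV1 (g * v * g⁻¹) := by decide +kernel
  exact h⟩

theorem normal_V2 : V2.Normal := ⟨by
  have h : ∀ v, InV2 v → ∀ g : W, InV2 (g * v * g⁻¹) := by decide +kernel
  exact h⟩

theorem sq_V1 : ∀ v, InV1 v → v * v = 1 := by decide +kernel
theorem sq_V2 : ∀ v, InV2 v → v * v = 1 := by decide +kernel
theorem comm_V1 : ∀ v, InV1 v → ∀ w, InV1 w → v * w = w * v := by decide +kernel
theorem comm_V2 : ∀ v, InV2 v → ∀ w, InV2 w → v * w = w * v := by decide +kernel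

theorem four_tuple : ∀ x, InV1 x → ∀ y, InV2 y → x * y ≠ y * x → ∀ x', InV1 x' → x' * y = y * x' →
    ∀ y', InV2 y' → x' * y' ≠ y' * x' → x * y' = y' * x →
      (cls x = cls gA ∧ cls y = cls gB ∧ cls x' = cls gA' ∧ cls y' = cls gB') ∨
      (cls x = cls gA' ∧ cls y = cls gB' ∧ cls x' = cls gA ∧ cls y' = cls gB) := by decide +kernel

theorem gen_data : InV1 gA ∧ InV2 gB ∧ InV1 gA' ∧ InV2 gB' ∧ gA * gB ≠ gB * gA ∧
    gA' * gB = gB * gA' ∧ gA' * gB' ≠ gB' * gA' ∧ gA * gB' = gB' * gA ∧
    gT * gT = 1 ∧ gT * gA * gT = gA' ∧ gT * gB * gT = gB' ∧ gA * gA = 1 ∧ gB * gB = 1 ∧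
    (gA * gB) * (gA * gB) = cA ∧ (gA' * gB') * (gA' * gB') = cB ∧ cA * cB = cZ ∧
    gT * cA * gT = cB ∧ cA ≠ cB ∧ gT.right ≠ 1 ∧ cls cA = 0 ∧ cls cB = 0 ∧ cls (1 : W) = 0 := by
  decide +kernel

/-- Optional factor. -/
def pw (v : W) (i : Bool) : W := if i then v else 1

theorem base_word : ∀ v : W, v.right = 1 → ∃ i j k l m n : Bool,
    v = pw gA i * pw gB j * pw gA' k * pw gB' l * pw cA m * pw cB n := by decide +kernel

theorem zb_comm : ∀ z, InZb z → ∀ v : W, v.right = 1 → z * v = v * z := by decide +kernel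

theorem zb_cases : ∀ v : W, InZb v → v = 1 ∨ v = cA ∨ v = cB ∨ v = cZ := by decide +kernel

theorem commutator_cls_cases : ∀ u v : W, u.right = 1 → v.right = 1 →
    (cls u = cls gA → cls v = cls gB → (u * v) * (u * v) = cA) ∧
    (cls u = cls gA' → cls v = cls gB' → (u * v) * (u * v) = cB) ∧
    (cls u = cls gB → cls v = cls gA → (u * v) * (u * v) = cA) ∧
    (cls u = cls gB' → cls v = cls gA' → (u * v) * (u * v) = cB) := by decide +kernel

theorem centralizer_base : ∀ p : W, p * gA = gA * p → p * gB = gB * p → p * gA' = gA' * p →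
    p * gB' = gB' * p → InZb p := by decide +kernel

theorem centralizer_base_cls : ∀ p : W, cls (p * gA * p⁻¹) = cls gA → p.right = 1 := by decide +kernel

theorem swap_fixed : ∀ p : W, p.right = 1 → swapCls (cls p) = cls p →
    ∃ i j : Bool, cls p = cls (pw gA i * pw gB j) + swapCls (cls (pw gA i * pw gB j)) := by
  decide +kernel

theorem gamma_cases : ∀ g : W, g.right = 1 → gT * g * gT * g = 1 → swapCls (cls g) = cls g →
    cls g = 0 ∨ cls g = cls gA + cls gB + cls gA' + cls gB' := by decide +kernel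

theorem gamma_sq : ∀ g : W, g.right = 1 → cls g = cls gA + cls gB + cls gA' + cls gB' →
    g * g = cZ := by decide +kernel

theorem conj_gT : ∀ v : W, v.right = 1 →
    (gT * v * gT).right = 1 ∧ cls (gT * v * gT) = ((cls v).2, (cls v).1) := by decide +kernel

theorem cls_eq_zero_inv : ∀ v : W, v.right = 1 → v⁻¹.right = 1 ∧ cls v⁻¹ = cls v := by decide +kernel

theorem card_zb : Nat.card {v : W // InZb v} = 4 := by
  rw [Nat.card_eq_fintype_card]; decide +kernel

theorem card_base : Nat.card {v : W // v.right = 1} = 64 := by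
  rw [Nat.card_eq_fintype_card]; decide +kernel

section Hom

variable {G : Type*} [Group G]

/-- The map of `D₈` given by two involutions. -/
theorem exists_dihedral_hom (a b : G) (ha : a * a = 1) (hb : b * b = 1) (hab : (a * b) ^ 4 = 1) :
    ∃ h : D →* G, h (DihedralGroup.sr 0) = a ∧ h (DihedralGroup.sr 1) = b ∧
      ∀ g : G, Commute g a → Commute g b → ∀ u, Commute g (h u) := by
  set c := a * b with hc
  have hmod : ∀ n, c ^ (n % 4) = c ^ n := fun n => (pow_eq_pow_mod n hab).symm
  have hadd : ∀ i j : ZMod 4, c ^ (i + j).val = c ^ i.val * c ^ j.val := fun i j => by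
    rw [ZMod.val_add, hmod, pow_add]
  have hflip : ∀ i : ZMod 4, c ^ i.val * a = a * (c ^ i.val)⁻¹ := by
    intro i
    have hA : a⁻¹ = a := inv_eq_of_mul_eq_one_left ha
    have h1 : a * c * a⁻¹ = c⁻¹ := by
      rw [hc, hA, mul_inv_rev, hA, inv_eq_of_mul_eq_one_left hb, ← mul_assoc, ha, one_mul]
    have h2 : a * c ^ i.val * a⁻¹ = (c ^ i.val)⁻¹ := by rw [← conj_pow, h1, inv_pow]
    rw [← h2, hA, ← mul_assoc, ← mul_assoc, ha, one_mul]
  have hsub : ∀ i j : ZMod 4, c ^ (j - i).val = (c ^ i.val)⁻¹ * c ^ j.val := fun i j => by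
    rw [eq_inv_mul_iff_mul_eq, ← hadd, add_sub_cancel]
  let F : D → G := fun u => match u with
    | .r i => c ^ i.val
    | .sr i => a * c ^ i.val
  refine ⟨MonoidHom.mk' F ?_, ?_, ?_, ?_⟩
  · rintro (i | i) (j | j)
    · exact hadd i j
    · show a * c ^ (j - i).val = c ^ i.val * (a * c ^ j.val)
      rw [← mul_assoc, hflip, hsub, mul_assoc]
    · show a * c ^ (i + j).val = a * c ^ i.val * c ^ j.val
      rw [hadd, mul_assoc]
    · show c ^ (j - i).val = a * c ^ i.val * (a * c ^ j.val)
      rw [mul_assoc, ← mul_assoc (c ^ i.val), hflip, mul_assoc, ← mul_assoc, ha, one_mul, hsub]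
  · show a * c ^ (0 : ZMod 4).val = a
    rw [ZMod.val_zero, pow_zero, mul_one]
  · show a * c ^ (1 : ZMod 4).val = b
    rw [show (1 : ZMod 4).val = 1 from rfl, pow_one, hc, ← mul_assoc, ha, one_mul]
  · rintro g h1 h2 (i | i)
    · exact (h1.mul_right h2).pow_right _
    · exact h1.mul_right ((h1.mul_right h2).pow_right _)

/-- The universal property of the model. -/
theorem exists_hom (a b t : G) (ha : a * a = 1) (hb : b * b = 1) (hab : (a * b) ^ 4 = 1)
    (ht : t * t = 1) (h1 : Commute a (t * a * t)) (h2 : Commute b (t * b * t))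
    (h3 : Commute a (t * b * t)) (h4 : Commute b (t * a * t)) :
    ∃ θ : W →* G, θ gA = a ∧ θ gB = b ∧ θ gT = t := by
  obtain ⟨h, ha', hb', hcomm⟩ := exists_dihedral_hom a b ha hb hab
  have htinv : t⁻¹ = t := inv_eq_of_mul_eq_one_left ht
  let h' : D →* G := (MulAut.conj t).toMonoidHom.comp h
  have hh' : ∀ u, h' u = t * h u * t := fun u => by simp [h', htinv]
  have hc : ∀ u v, Commute (h u) (h' v) := by
    intro u v
    refine ((hcomm (h' v) ?_ ?_) u).symm
    · have := hcomm (t * a * t) (Commute.symm ?_) (Commute.symm ?_) v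
      · rw [hh']
        have h5 := this.map (MulAut.conj t)
        simp only [MulAut.conj_apply, htinv] at h5
        rw [show t * (t * a * t) * t = (t * t) * a * (t * t) by group, ht, one_mul, mul_one] at h5
        exact h5.symm
      · exact h1
      · exact h4
    · have := hcomm (t * b * t) (Commute.symm ?_) (Commute.symm ?_) v
      · rw [hh']
        have h5 := this.map (MulAut.conj t)
        simp only [MulAut.conj_apply, htinv] at h5
        rw [show t * (t * b * t) * t = (t * t) * b * (t * t) by group, ht, one_mul, mul_one] at h5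
        exact h5.symm
      · exact h3
      · exact h2
  let base : D × D →* G := h.noncommCoprod h' hc
  let sT : Multiplicative (ZMod 2) →* G :=
    { toFun := fun s => if s = 1 then 1 else t
      map_one' := if_pos rfl
      map_mul' := by
        intro s s'
        have h : ∀ a b : Multiplicative (ZMod 2), a = 1 ∨ b = 1 ∨ a * b = 1 := by decide
        by_cases hs : s = 1
        · subst hs; rw [one_mul, if_pos rfl, one_mul]
        by_cases hs' : s' = 1
        · subst hs'; rw [mul_one, if_pos rfl, mul_one]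
        rw [if_neg hs, if_neg hs', if_pos ((h s s').resolve_left hs |>.resolve_left hs'), ht] }
  refine ⟨SemidirectProduct.lift base sT fun s => MonoidHom.ext fun w => ?_, ?_, ?_, ?_⟩
  · by_cases hs : s = 1
    · subst hs; simp
    · obtain ⟨u, v⟩ := w
      have hsh : swapHom s = MulEquiv.prodComm := if_neg hs
      have hst : sT s = t := if_neg hs
      show base (swapHom s (u, v)) = sT s * base (u, v) * (sT s)⁻¹
      rw [hsh, hst, htinv]
      show h v * h' u = t * (h u * h' v) * t
      rw [(hc v u).eq, hh', hh', show t * (h u * (t * h v * t)) * t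
        = t * h u * t * h v * (t * t) by group, ht, mul_one]
  · show base (DihedralGroup.sr 0, 1) * sT 1 = a
    rw [map_one, mul_one]
    show h (DihedralGroup.sr 0) * h' 1 = a
    rw [map_one, mul_one, ha']
  · show base (DihedralGroup.sr 1, 1) * sT 1 = b
    rw [map_one, mul_one]
    show h (DihedralGroup.sr 1) * h' 1 = b
    rw [map_one, mul_one, hb']
  · show base 1 * sT (Multiplicative.ofAdd 1) = t
    rw [map_one, one_mul]
    show (if Multiplicative.ofAdd (1 : ZMod 2) = 1 then 1 else t) = t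
    rw [if_neg (show ¬ Multiplicative.ofAdd (1 : ZMod 2) = 1 by decide)]

end Hom

end CfsgLib.FGS74.W8
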