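import Cfsg.Agent.S4400
import Cfsg.Agent.FGS74.WreathEightModel

/-!
# Overgroups of `D₈ ≀ 2` in 2-groups of sectional rank at most four

An element outside `P` normalising `P` interchanges the two normal elementary abelian subgroups of
order 16; hence `|N(P) : P| = 2` and `N(P)` modulo the centre is again `D₈ ≀ 2`.
-/

set_option autoImplicit false
set_option synthInstance.maxSize 2000

namespace CfsgLib.FGS74.W8

open Subgroup

/-- Classes of base elements. -/
abbrev Cls := (ZMod 2 × ZMod 2) × (ZMod 2 × ZMod 2)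

/-- Exchange of the factors on classes. -/
def halves (c : Cls) : Cls := (c.2, c.1)

/-- `α` acts as `σ` on the base modulo its centre. -/
def Acts (α : MulAut W) (σ : Cls → Cls) : Prop :=
  ∀ v, v.right = 1 → (α v).right = 1 ∧ cls (α v) = σ (cls v)

theorem cls_add_self : ∀ c : Cls, c + c = 0 := by decide +kernel

theorem cls_fixed_aux : ∀ c d : Cls, d + (c + d) + c = 0 := by decide +kernel

theorem mul_eq_one_of_ne : ∀ a b : Multiplicative (ZMod 2), a ≠ 1 → b ≠ 1 → a * b = 1 := by
  decide +kernel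

theorem right_pw (i j : Bool) : (pw gA i * pw gB j).right = 1 := by
  cases i <;> cases j <;> rfl

theorem Acts.comp {α β : MulAut W} {σ τ : Cls → Cls} (hα : Acts α σ) (hβ : Acts β τ) :
    Acts (α * β) (σ ∘ τ) := fun v hv => by
  obtain ⟨h1, h2⟩ := hβ v hv
  obtain ⟨h3, h4⟩ := hα _ h1
  exact ⟨h3, by rw [MulAut.mul_apply, h4, h2]; rfl⟩

theorem acts_conj_base (u : W) (hu : u.right = 1) : Acts (MulAut.conj u) id := fun v hv => by
  obtain ⟨hu', hc⟩ := cls_eq_zero_inv u hu
  rw [MulAut.conj_apply]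
  refine ⟨by simp [SemidirectProduct.mul_right, hu, hv, hu'], ?_⟩
  have hz : ∀ c : Cls, c + c = 0 := by decide
  rw [cls_mul (by simp [SemidirectProduct.mul_right, hu, hv]), cls_mul hu, hc, add_right_comm, hz,
    zero_add]
  rfl

theorem acts_conj_gT : Acts (MulAut.conj gT) halves := fun v hv => by
  have h : gT⁻¹ = gT := inv_eq_of_mul_eq_one_left gen_data.2.2.2.2.2.2.2.2.1
  rw [MulAut.conj_apply, h]
  exact conj_gT v hv

theorem acts_of_gens (α : MulAut W) (σ : Cls → Cls) (hσ : ∀ c d, σ (c + d) = σ c + σ d)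
    (hA : (α gA).right = 1 ∧ cls (α gA) = σ (cls gA))
    (hB : (α gB).right = 1 ∧ cls (α gB) = σ (cls gB))
    (hA' : (α gA').right = 1 ∧ cls (α gA') = σ (cls gA'))
    (hB' : (α gB').right = 1 ∧ cls (α gB') = σ (cls gB'))
    (hcA : InZb (α cA)) (hcB : InZb (α cB)) : Acts α σ := by
  obtain ⟨-, -, -, -, -, -, -, -, -, -, -, -, -, -, -, -, -, -, -, hcA0, hcB0, h10⟩ := gen_data
  have h0 : σ 0 = 0 := by
    have := hσ 0 0
    rw [add_zero] at this
    exact left_eq_add.1 this
  have hpw : ∀ (v : W) (i : Bool), ((α v).right = 1 ∧ cls (α v) = σ (cls v)) →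
      (α (pw v i)).right = 1 ∧ cls (α (pw v i)) = σ (cls (pw v i)) := by
    intro v i h
    cases i
    · show (α 1).right = 1 ∧ cls (α 1) = σ (cls 1)
      rw [map_one, h10, h0]
      exact ⟨rfl, rfl⟩
    · exact h
  have hm : ∀ u v : W, u.right = 1 →
      ((α u).right = 1 ∧ cls (α u) = σ (cls u)) → ((α v).right = 1 ∧ cls (α v) = σ (cls v)) →
      (α (u * v)).right = 1 ∧ cls (α (u * v)) = σ (cls (u * v)) := by
    intro u v hu h1 h2
    rw [map_mul, SemidirectProduct.mul_right, h1.1, h2.1, cls_mul h1.1, cls_mul hu, hσ, h1.2, h2.2]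
    exact ⟨one_mul _, rfl⟩
  have hr : ∀ (v : W) (i : Bool), v.right = 1 → (pw v i).right = 1 := by
    intro v i h
    cases i
    · rfl
    · exact h
  intro v hv
  obtain ⟨i, j, k, l, m, n, rfl⟩ := base_word v hv
  have r1 := hr gA i rfl
  have r2 := hr gB j rfl
  have r3 := hr gA' k rfl
  have r4 := hr gB' l rfl
  have r5 := hr cA m rfl
  exact hm _ _ (by simp [SemidirectProduct.mul_right, r1, r2, r3, r4, r5])
    (hm _ _ (by simp [SemidirectProduct.mul_right, r1, r2, r3, r4])
      (hm _ _ (by simp [SemidirectProduct.mul_right, r1, r2, r3])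
        (hm _ _ (by simp [SemidirectProduct.mul_right, r1, r2])
          (hm _ _ r1 (hpw _ i hA) (hpw _ j hB)) (hpw _ k hA')) (hpw _ l hB'))
      (hpw _ m ⟨hcA.1, by rw [hcA.2, hcA0, h0]⟩))
    (hpw _ n ⟨hcB.1, by rw [hcB.2, hcB0, h0]⟩)

theorem map_V1 (α : MulAut W) :
    V1.map α.toMonoidHom = V1 ∨ V1.map α.toMonoidHom = V2 := by
  refine eq_V1_or_V2 _ (normal_V1.map _ α.surjective) ?_ ?_ ?_
  · rintro _ ⟨v, hv, rfl⟩
    rw [← map_mul, sq_V1 v hv, map_one]
  · rintro _ ⟨v, hv, rfl⟩ _ ⟨w, hw, rfl⟩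
    rw [← map_mul, ← map_mul, comm_V1 v hv w hw]
  · rw [card_map_of_injective α.injective, card_V1]

theorem map_V2 (α : MulAut W) :
    V2.map α.toMonoidHom = V1 ∨ V2.map α.toMonoidHom = V2 := by
  refine eq_V1_or_V2 _ (normal_V2.map _ α.surjective) ?_ ?_ ?_
  · rintro _ ⟨v, hv, rfl⟩
    rw [← map_mul, sq_V2 v hv, map_one]
  · rintro _ ⟨v, hv, rfl⟩ _ ⟨w, hw, rfl⟩
    rw [← map_mul, ← map_mul, comm_V2 v hv w hw]
  · rw [card_map_of_injective α.injective, card_V2]

theorem V1_ne_V2 : V1 ≠ V2 := fun e => by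
  have h : InV2 gA := (e ▸ gen_data.1 : gA ∈ V2)
  revert h
  decide +kernel

/-- An automorphism fixing `V₁` fixes or exchanges the factors modulo the centre of the base. -/
theorem fix_or (α : MulAut W) (h : V1.map α.toMonoidHom = V1) :
    (Acts α id ∧ α cA = cA ∧ α cB = cB) ∨ (Acts α halves ∧ α cA = cB ∧ α cB = cA) := by
  have h2 : V2.map α.toMonoidHom = V2 := (map_V2 α).resolve_left fun e =>
    V1_ne_V2 (Subgroup.map_injective α.injective (h.trans e.symm))
  have m1 : ∀ v, InV1 v → InV1 (α v) := fun v hv => by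
    have : α v ∈ V1 := h ▸ mem_map_of_mem _ hv
    exact this
  have m2 : ∀ v, InV2 v → InV2 (α v) := fun v hv => by
    have : α v ∈ V2 := h2 ▸ mem_map_of_mem _ hv
    exact this
  obtain ⟨hA, hB, hA', hB', n1, c1, n2, c2, -, -, -, -, -, hcA, hcB, -⟩ := gen_data
  have hcA' : α cA = α gA * α gB * (α gA * α gB) := by rw [← map_mul, ← map_mul, hcA]
  have hcB' : α cB = α gA' * α gB' * (α gA' * α gB') := by rw [← map_mul, ← map_mul, hcB]
  rcases four_tuple _ (m1 _ hA) _ (m2 _ hB)
      (fun e => n1 (α.injective (by rw [map_mul, map_mul]; exact e)))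
      _ (m1 _ hA') (by rw [← map_mul, ← map_mul, c1]) _ (m2 _ hB')
      (fun e => n2 (α.injective (by rw [map_mul, map_mul]; exact e)))
      (by rw [← map_mul, ← map_mul, c2]) with ⟨e1, e2, e3, e4⟩ | ⟨e1, e2, e3, e4⟩
  · have f1 : α cA = cA := hcA'.trans
      ((commutator_cls_cases _ _ (m1 _ hA).1 (m2 _ hB).1).1 e1 e2)
    have f2 : α cB = cB := hcB'.trans
      ((commutator_cls_cases _ _ (m1 _ hA').1 (m2 _ hB').1).2.1 e3 e4)
    exact Or.inl ⟨acts_of_gens α id (fun _ _ => rfl) ⟨(m1 _ hA).1, e1⟩ ⟨(m2 _ hB).1, e2⟩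
      ⟨(m1 _ hA').1, e3⟩ ⟨(m2 _ hB').1, e4⟩ (by rw [f1]; decide +kernel) (by rw [f2]; decide +kernel),
      f1, f2⟩
  · have f1 : α cA = cB := hcA'.trans
      ((commutator_cls_cases _ _ (m1 _ hA).1 (m2 _ hB).1).2.1 e1 e2)
    have f2 : α cB = cA := hcB'.trans
      ((commutator_cls_cases _ _ (m1 _ hA').1 (m2 _ hB').1).1 e3 e4)
    exact Or.inr ⟨acts_of_gens α halves (fun _ _ => rfl) ⟨(m1 _ hA).1, e1⟩ ⟨(m2 _ hB).1, e2⟩
      ⟨(m1 _ hA').1, e3⟩ ⟨(m2 _ hB').1, e4⟩ (by rw [f1]; decide +kernel) (by rw [f2]; decide +kernel),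
      f1, f2⟩

/-- An automorphism exchanging `V₁` and `V₂`, up to the exchange of the factors. -/
theorem swap_or (α : MulAut W) (h : V1.map α.toMonoidHom = V2) :
    (Acts α swapCls ∧ α cA = cB ∧ α cB = cA) ∨
      (Acts α (halves ∘ swapCls) ∧ α cA = cA ∧ α cB = cB) := by
  have h2 : V2.map α.toMonoidHom = V1 := (map_V2 α).resolve_right fun e =>
    V1_ne_V2 (Subgroup.map_injective α.injective (h.trans e.symm))
  have m1 : ∀ v, InV1 v → InV2 (α v) := fun v hv => by
    have : α v ∈ V2 := h ▸ mem_map_of_mem _ hv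
    exact this
  have m2 : ∀ v, InV2 v → InV1 (α v) := fun v hv => by
    have : α v ∈ V1 := h2 ▸ mem_map_of_mem _ hv
    exact this
  obtain ⟨hA, hB, hA', hB', n1, c1, n2, c2, -, -, -, -, -, hcA, hcB, -⟩ := gen_data
  have hcA' : α cA = α gA * α gB * (α gA * α gB) := by rw [← map_mul, ← map_mul, hcA]
  have hcB' : α cB = α gA' * α gB' * (α gA' * α gB') := by rw [← map_mul, ← map_mul, hcB]
  rcases four_tuple _ (m2 _ hB) _ (m1 _ hA)
      (fun e => n1 (α.injective (by rw [map_mul, map_mul]; exact e.symm)))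
      _ (m2 _ hB') (by rw [← map_mul, ← map_mul, c2]) _ (m1 _ hA')
      (fun e => n2 (α.injective (by rw [map_mul, map_mul]; exact e.symm)))
      (by rw [← map_mul, ← map_mul, c1]) with ⟨e2, e1, e4, e3⟩ | ⟨e2, e1, e4, e3⟩
  · have f1 : α cA = cA := hcA'.trans
      ((commutator_cls_cases _ _ (m1 _ hA).1 (m2 _ hB).1).2.2.1 e1 e2)
    have f2 : α cB = cB := hcB'.trans
      ((commutator_cls_cases _ _ (m1 _ hA').1 (m2 _ hB').1).2.2.2 e3 e4)
    exact Or.inr ⟨acts_of_gens α _ (fun _ _ => rfl)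
      ⟨(m1 _ hA).1, e1.trans (by decide +kernel)⟩ ⟨(m2 _ hB).1, e2.trans (by decide +kernel)⟩
      ⟨(m1 _ hA').1, e3.trans (by decide +kernel)⟩ ⟨(m2 _ hB').1, e4.trans (by decide +kernel)⟩
      (by rw [f1]; decide +kernel) (by rw [f2]; decide +kernel), f1, f2⟩
  · have f1 : α cA = cB := hcA'.trans
      ((commutator_cls_cases _ _ (m1 _ hA).1 (m2 _ hB).1).2.2.2 e1 e2)
    have f2 : α cB = cA := hcB'.trans
      ((commutator_cls_cases _ _ (m1 _ hA').1 (m2 _ hB').1).2.2.1 e3 e4)
    exact Or.inl ⟨acts_of_gens α _ (fun _ _ => rfl)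
      ⟨(m1 _ hA).1, e1.trans (by decide +kernel)⟩ ⟨(m2 _ hB).1, e2.trans (by decide +kernel)⟩
      ⟨(m1 _ hA').1, e3.trans (by decide +kernel)⟩ ⟨(m2 _ hB').1, e4.trans (by decide +kernel)⟩
      (by rw [f1]; decide +kernel) (by rw [f2]; decide +kernel), f1, f2⟩

section Overgroup

variable {S : Type*} [Group S] [Finite S] {f : W →* S}

/-- The automorphism induced by an element normalising the image. -/
theorem exists_induced (hf : Function.Injective f) {g : S}
    (hg : g ∈ normalizer ((f.range : Subgroup S) : Set S)) :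
    ∃ α : MulAut W, ∀ v, f (α v) = g * f v * g⁻¹ := by
  have hmem : ∀ v, ∃ u, f u = g * f v * g⁻¹ := fun v => (mem_normalizer_iff.1 hg (f v)).1 ⟨v, rfl⟩
  choose u hu using hmem
  have hbij : Function.Bijective u := by
    have hi : Function.Injective u := fun a b e => hf (by
      have := congrArg f e
      rw [hu, hu] at this
      exact mul_left_cancel (mul_right_cancel this))
    exact ⟨hi, Finite.injective_iff_surjective.1 hi⟩
  refine ⟨MulEquiv.ofBijective (MonoidHom.mk' u fun a b => hf ?_) hbij, hu⟩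
  rw [hu, map_mul, map_mul, hu, hu]
  group

/-- No element outside the image normalises it and `V₁`. -/
theorem not_fix (hr : Cfsg.SectionalPRankLE 2 4 S) (hf : Function.Injective f) {g : S}
    (hg : g ∉ f.range) (hg2 : g ^ 2 ∈ f.range) {α : MulAut W}
    (hα : ∀ v, f (α v) = g * f v * g⁻¹) (ha : Acts α id) (hcA : α cA = cA) (hcB : α cB = cB) :
    False := by
  obtain ⟨p, hp⟩ := hg2
  obtain ⟨-, -, -, -, -, -, -, -, -, -, -, -, -, -, -, hcAB, -, -, -, -, -, h10⟩ := gen_data
  have hzfix : ∀ z, InZb z → α z = z := by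
    intro z hz
    rcases zb_cases z hz with rfl | rfl | rfl | rfl
    · exact map_one α
    · exact hcA
    · exact hcB
    · rw [← hcAB, map_mul, hcA, hcB]
  have hdiff : ∀ v, v.right = 1 → InZb (v⁻¹ * α v) := by
    intro v hv
    obtain ⟨h1, h2⟩ := ha v hv
    obtain ⟨h3, h4⟩ := cls_eq_zero_inv v hv
    refine ⟨by rw [SemidirectProduct.mul_right, h3, h1, one_mul], ?_⟩
    rw [cls_mul h3, h4, h2]
    exact (by decide : ∀ c : Cls, c + c = 0) _
  have htwo : ∀ v, v.right = 1 → α (α v) = v := by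
    intro v hv
    have hz := hdiff v hv
    have hs : ∀ z, InZb z → z * z = 1 := by decide +kernel
    have h1 : α v = v * (v⁻¹ * α v) := (mul_inv_cancel_left _ _).symm
    rw [h1, map_mul, hzfix _ hz, h1]
    rw [inv_mul_cancel_left, mul_assoc, hs _ hz, mul_one]
  have hpz : InZb p := by
    have hc : ∀ v, v.right = 1 → p * v = v * p := fun v hv => hf (by
      have h2 : f (α (α v)) = g ^ 2 * f v * (g ^ 2)⁻¹ := by
        rw [hα, hα, pow_two]; group
      rw [htwo v hv, ← hp] at h2
      rw [map_mul, map_mul]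
      exact eq_mul_inv_iff_mul_eq.1 h2 |>.symm)
    exact centralizer_base p (hc _ rfl) (hc _ rfl) (hc _ rfl) (hc _ rfl)
  -- the section
  let gens : Set S := f '' {v | v.right = 1} ∪ {g}
  let H : Subgroup S := closure gens
  let Z : Subgroup W :=
    { carrier := {v | InZb v}
      one_mem' := ⟨rfl, h10⟩
      mul_mem' := fun {a b} ha hb =>
        ⟨by rw [SemidirectProduct.mul_right, ha.1, hb.1, one_mul],
          by rw [cls_mul ha.1, ha.2, hb.2, add_zero]⟩
      inv_mem' := fun {a} ha =>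
        ⟨(cls_eq_zero_inv a ha.1).1, by rw [(cls_eq_zero_inv a ha.1).2, ha.2]⟩ }
  have hZc : ∀ z ∈ Z.map f, ∀ x ∈ H, x * z = z * x := by
    rintro _ ⟨z, hz, rfl⟩ x hx
    refine mem_centralizer_singleton_iff.1 ((closure_le (centralizer {f z})).2 ?_ hx)
    rintro _ (⟨v, hv, rfl⟩ | rfl)
    · rw [SetLike.mem_coe, mem_centralizer_singleton_iff, ← map_mul, ← map_mul, zb_comm z hz v hv]
    · rw [SetLike.mem_coe, mem_centralizer_singleton_iff]
      exact eq_mul_inv_iff_mul_eq.1 (by
        have h := hα z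
        rwa [hzfix z hz] at h) |>.symm
  have hZH : Z.map f ≤ H := by
    rintro _ ⟨z, hz, rfl⟩
    exact subset_closure (Or.inl ⟨z, hz.1, rfl⟩)
  haveI : ((Z.map f).subgroupOf H).Normal := ⟨fun n hn x => by
    rw [mem_subgroupOf] at hn ⊢
    rw [coe_mul, coe_mul, coe_inv, hZc _ hn _ x.2, mul_inv_cancel_right]
    exact hn⟩
  let π := QuotientGroup.mk' ((Z.map f).subgroupOf H)
  have hker : ∀ (x : S) (hx : x ∈ H), x ∈ Z.map f → π ⟨x, hx⟩ = 1 := fun x hx h =>
    (QuotientGroup.eq_one_iff _).2 h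
  -- commutativity
  have hcm : ∀ a ∈ gens, ∀ b ∈ gens, a * b * a⁻¹ * b⁻¹ ∈ Z.map f := by
    have hbb : ∀ u v : W, u.right = 1 → v.right = 1 → InZb (u * v * u⁻¹ * v⁻¹) := by
      intro u v hu hv
      obtain ⟨hu', hcu⟩ := cls_eq_zero_inv u hu
      obtain ⟨hv', hcv⟩ := cls_eq_zero_inv v hv
      refine ⟨by simp [SemidirectProduct.mul_right, hu, hv, hu', hv'], ?_⟩
      rw [cls_mul (by simp [SemidirectProduct.mul_right, hu, hv, hu']),
        cls_mul (by simp [SemidirectProduct.mul_right, hu, hv]), cls_mul hu, hcu, hcv]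
      exact (by decide : ∀ c d : Cls, c + d + c + d = 0) _ _
    have hgv : ∀ v : W, v.right = 1 → g * f v * g⁻¹ * (f v)⁻¹ ∈ Z.map f := by
      intro v hv
      refine ⟨α v * v⁻¹, ?_, by rw [map_mul, map_inv, hα]⟩
      obtain ⟨h3, h4⟩ := cls_eq_zero_inv v hv
      obtain ⟨h1, h2⟩ := ha v hv
      exact ⟨by rw [SemidirectProduct.mul_right, h1, h3, one_mul],
        by rw [cls_mul h1, h4, h2]; exact (by decide : ∀ c : Cls, c + c = 0) _⟩
    rintro a (⟨u, hu, rfl⟩ | rfl) b (⟨v, hv, rfl⟩ | rfl)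
    · exact ⟨_, hbb u v hu hv, by simp⟩
    · have := inv_mem (hgv u hu)
      rwa [show (b * f u * b⁻¹ * (f u)⁻¹)⁻¹ = f u * b * (f u)⁻¹ * b⁻¹ by group] at this
    · exact hgv v hv
    · rw [show b * b * b⁻¹ * b⁻¹ = 1 by group]; exact one_mem _
  have hgen : ∀ a ∈ gens, a ∈ H := fun a ha => subset_closure ha
  let A : Subgroup (H ⧸ (Z.map f).subgroupOf H) := closure (π '' {x | (x : S) ∈ gens})
  have hAtop : A = ⊤ := by
    have h1 : closure ({x : H | (x : S) ∈ gens}) = ⊤ := by
      refine map_injective H.subtype_injective ?_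
      rw [MonoidHom.map_closure, ← MonoidHom.range_eq_map, range_subtype]
      congr 1
      ext x
      exact ⟨fun ⟨y, hy, e⟩ => e ▸ hy, fun hx => ⟨⟨x, hgen x hx⟩, hx, rfl⟩⟩
    rw [show A = closure (π '' {x | (x : S) ∈ gens}) from rfl, ← MonoidHom.map_closure, h1,
      map_top_of_surjective _ (QuotientGroup.mk'_surjective _)]
  have hcomm : ∀ a ∈ A, ∀ b ∈ A, a * b = b * a := by
    haveI : IsMulCommutative A := isMulCommutative_closure (by
      rintro _ ⟨x, hx, rfl⟩ _ ⟨y, hy, rfl⟩
      rw [← commutatorElement_eq_one_iff_mul_comm, ← map_commutatorElement]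
      exact hker _ _ (hcm _ hx _ hy))
    intro a ha b hb
    exact congrArg Subtype.val (mul_comm' (⟨a, ha⟩ : A) ⟨b, hb⟩)
  have hexp : ∀ a ∈ A, a ^ 2 = 1 := by
    intro a ha
    induction ha using closure_induction with
    | mem a ha =>
      obtain ⟨⟨x, hxH⟩, hx, rfl⟩ := ha
      rw [← map_pow]
      refine hker _ _ ?_
      rcases hx with ⟨v, hv, rfl⟩ | hx
      · refine ⟨v * v, ⟨by rw [SemidirectProduct.mul_right, hv, one_mul], ?_⟩, by rw [map_mul, pow_two]⟩
        rw [cls_mul hv]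
        exact (by decide : ∀ c : Cls, c + c = 0) _
      · rw [Set.mem_singleton_iff] at hx
        exact ⟨p, hpz, by rw [hp, ← hx]⟩
    | one => exact one_pow 2
    | mul a b ha hb h1 h2 => rw [Commute.mul_pow (hcomm a ha b hb), h1, h2, one_mul]
    | inv a _ h1 => rw [inv_pow, h1, inv_one]
  have h16 := Cfsg.Agent.S4400.card_le_of_hom hr H π ⊤
    (fun x _ => QuotientGroup.mk'_surjective _ x)
    (fun a _ b _ => hcomm a (hAtop ▸ mem_top a) b (hAtop ▸ mem_top b))
    (fun a _ => hexp a (hAtop ▸ mem_top a))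
  rw [card_top, ← index_eq_card] at h16
  -- the order
  let B : Subgroup S := ((SemidirectProduct.rightHom : W →* Multiplicative (ZMod 2)).ker).map f
  have hBH : B ≤ H := by
    rintro _ ⟨v, hv, rfl⟩
    exact subset_closure (Or.inl ⟨v, hv, rfl⟩)
  have hB : Nat.card B = 64 := by
    rw [card_map_of_injective hf]
    exact card_base
  have hlt : 2 * Nat.card B ≤ Nat.card H := by
    obtain ⟨k, hk⟩ := card_dvd_of_le hBH
    have hpos : 0 < Nat.card H := Nat.card_pos
    have hk2 : 2 ≤ k := by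
      by_contra hlt
      have hk1 : k = 1 := by
        rcases Nat.eq_zero_or_pos k with h | h
        · rw [h, mul_zero] at hk; omega
        · omega
      rw [hk1, mul_one] at hk
      have heq : B = H := eq_of_le_of_card_ge hBH hk.le
      obtain ⟨v, -, hv⟩ : g ∈ B := heq ▸ hgen g (Or.inr rfl)
      exact hg ⟨v, hv⟩
    rw [hk, mul_comm]
    exact Nat.mul_le_mul_left _ hk2
  have hidx := ((Z.map f).subgroupOf H).card_mul_index
  have hcZ : Nat.card ((Z.map f).subgroupOf H) = 4 := by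
    rw [Nat.card_congr (subgroupOfEquivOfLe hZH).toEquiv, card_map_of_injective hf]
    exact card_zb
  rw [hcZ] at hidx
  omega

/-- An element normalising the image and `V₁` lies in the image. -/
theorem mem_of_normalizes (h2 : IsPGroup 2 S) (hr : Cfsg.SectionalPRankLE 2 4 S)
    (hf : Function.Injective f) {g : S}
    (hg : g ∈ normalizer ((f.range : Subgroup S) : Set S))
    (hgV : g ∈ normalizer ((V1.map f : Subgroup S) : Set S)) : g ∈ f.range := by
  by_contra hgP
  -- a power with square in the image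
  obtain ⟨k, hk⟩ := h2 g
  have hex : ∃ m, g ^ 2 ^ m ∈ f.range := ⟨k, hk ▸ one_mem _⟩
  classical
  obtain ⟨m, hm⟩ : ∃ m, Nat.find hex = m + 1 := by
    refine Nat.exists_eq_succ_of_ne_zero fun e => hgP ?_
    have := Nat.find_spec hex
    rwa [e, pow_zero, pow_one] at this
  set w := g ^ 2 ^ m with hw
  have hwP : w ∉ f.range := Nat.find_min hex (by omega)
  have hw2 : w ^ 2 ∈ f.range := by
    have := Nat.find_spec hex
    rwa [hm, pow_succ, pow_mul] at this
  have hwN : w ∈ normalizer ((f.range : Subgroup S) : Set S) := pow_mem hg _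
  have hwV : w ∈ normalizer ((V1.map f : Subgroup S) : Set S) := pow_mem hgV _
  obtain ⟨α, hα⟩ := exists_induced hf hwN
  have hV : V1.map α.toMonoidHom = V1 := by
    refine eq_of_le_of_card_ge ?_ (by rw [card_map_of_injective α.injective])
    rintro _ ⟨v, hv, rfl⟩
    obtain ⟨v', hv', e⟩ := (mem_normalizer_iff.1 hwV (f v)).1 (mem_map_of_mem f hv)
    rw [← hα] at e
    rw [show α.toMonoidHom v = v' from (hf e).symm]
    exact hv'
  rcases fix_or α hV with ⟨h1, h3, h4⟩ | ⟨h1, h3, h4⟩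
  · exact not_fix hr hf hwP hw2 hα h1 h3 h4
  · have hT : f gT ∈ f.range := ⟨gT, rfl⟩
    have hTN : f gT ∈ normalizer ((f.range : Subgroup S) : Set S) := le_normalizer hT
    refine not_fix hr hf (g := f gT * w) (α := MulAut.conj gT * α) (fun h => hwP ?_) ?_ ?_ ?_ ?_ ?_
    · have := mul_mem (inv_mem hT) h
      rwa [inv_mul_cancel_left] at this
    · rw [pow_two, show f gT * w * (f gT * w) = f gT * (w * f gT * w⁻¹) * w ^ 2 by rw [pow_two]; group]
      exact mul_mem (mul_mem hT ⟨α gT, hα gT⟩) hw2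
    · intro v
      rw [MulAut.mul_apply, MulAut.conj_apply, map_mul, map_mul, hα, map_inv]
      group
    · have h5 : Acts (MulAut.conj gT * α) (halves ∘ halves) := acts_conj_gT.comp h1
      exact h5
    · rw [MulAut.mul_apply, h3]; decide +kernel
    · rw [MulAut.mul_apply, h4]; decide +kernel

/-- An element outside the image normalising it exchanges `V₁` and `V₂`. -/
theorem swaps (h2 : IsPGroup 2 S) (hr : Cfsg.SectionalPRankLE 2 4 S) (hf : Function.Injective f)
    {g : S} (hg : g ∈ normalizer ((f.range : Subgroup S) : Set S)) (hgP : g ∉ f.range)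
    {α : MulAut W} (hα : ∀ v, f (α v) = g * f v * g⁻¹) : V1.map α.toMonoidHom = V2 := by
  refine (map_V1 α).resolve_left fun e => hgP (mem_of_normalizes h2 hr hf hg ?_)
  rw [mem_normalizer_iff_conj_image_eq]
  refine Set.eq_of_subset_of_ncard_le ?_ ?_
  · rintro _ ⟨_, ⟨v, hv, rfl⟩, rfl⟩
    refine ⟨α v, ?_, by rw [hα]; rfl⟩
    rw [← e]
    exact mem_map_of_mem _ hv
  · exact le_of_eq (Set.ncard_image_of_injective _ (MulAut.conj g).injective).symm

/-- The image has index two in its normaliser, when proper. -/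
theorem relIndex_normalizer (h2 : IsPGroup 2 S) (hr : Cfsg.SectionalPRankLE 2 4 S)
    (hf : Function.Injective f) (hne : f.range ≠ ⊤) :
    f.range.relIndex (normalizer ((f.range : Subgroup S) : Set S)) = 2 := by
  haveI : Fact (Nat.Prime 2) := ⟨Nat.prime_two⟩
  haveI := h2.isNilpotent
  obtain ⟨g, hg, hgP⟩ := SetLike.exists_of_lt
    (Group.normalizerCondition_of_isNilpotent f.range (lt_top_iff_ne_top.2 hne))
  obtain ⟨α, hα⟩ := exists_induced hf hg
  have hsw := swaps h2 hr hf hg hgP hα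
  rw [relIndex, index_eq_two_iff]
  refine ⟨⟨g, hg⟩, fun b => ?_⟩
  simp only [mem_subgroupOf, coe_mul]
  by_cases hb : (b : S) ∈ f.range
  · refine Or.inr ⟨hb, fun h => hgP ?_⟩
    simpa using mul_mem (inv_mem hb) h
  · refine Or.inl ⟨?_, hb⟩
    obtain ⟨β, hβ⟩ := exists_induced hf b.2
    have hswb := swaps h2 hr hf b.2 hb hβ
    refine mem_of_normalizes h2 hr hf (mul_mem b.2 hg) ?_
    have hV2 : V2.map β.toMonoidHom = V1 := (map_V2 β).resolve_right fun e =>
      V1_ne_V2 (Subgroup.map_injective β.injective (hswb.trans e.symm))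
    rw [mem_normalizer_iff_conj_image_eq]
    refine Set.eq_of_subset_of_ncard_le ?_ ?_
    · rintro _ ⟨_, ⟨v, hv, rfl⟩, rfl⟩
      refine ⟨β (α v), ?_, by rw [hβ, hα, MulAut.conj_apply]; group⟩
      have h1 : α v ∈ V2 := hsw ▸ mem_map_of_mem _ hv
      exact hV2 ▸ mem_map_of_mem β.toMonoidHom h1
    · exact le_of_eq (Set.ncard_image_of_injective _ (MulAut.conj _).injective).symm

/-- The centre of an overgroup is the centre of the image. -/
theorem center_eq (h2 : IsPGroup 2 S) (hr : Cfsg.SectionalPRankLE 2 4 S)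
    (hf : Function.Injective f) : center S = (zpowers cZ).map f ∧ Nat.card (center S) = 2 := by
  haveI : Fact (Nat.Prime 2) := ⟨Nat.prime_two⟩
  have hz : orderOf cZ = 2 := orderOf_eq_prime (by decide +kernel) (by decide +kernel)
  have hc : Nat.card ((zpowers cZ).map f) = 2 := by
    rw [card_map_of_injective hf, Nat.card_zpowers, hz]
  have hle : center S ≤ (zpowers cZ).map f := by
    intro z hz
    have hcom := mem_center_iff.1 hz
    obtain ⟨v, rfl⟩ : z ∈ f.range := by
      refine mem_of_normalizes h2 hr hf ?_ ?_ <;>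
      · refine mem_normalizer_iff.2 fun x => ?_
        rw [← hcom x, mul_inv_cancel_right]
    refine ⟨v, ?_, rfl⟩
    rcases center_cases v (hf (by rw [map_mul, map_mul, ← hcom]))
        (hf (by rw [map_mul, map_mul, ← hcom])) (hf (by rw [map_mul, map_mul, ← hcom])) with h | h
    · rw [h]; exact one_mem _
    · rw [h]; exact mem_zpowers _
  haveI : Nontrivial S := ⟨⟨f cZ, f 1, fun e => (by decide +kernel : cZ ≠ 1) (hf e)⟩⟩
  have h1 : 1 < Nat.card (center S) := by
    rw [one_lt_card_iff_ne_bot]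
    exact nontrivial_iff_ne_bot _ |>.1 h2.center_nontrivial
  have h3 : Nat.card (center S) ∣ 2 := hc ▸ card_dvd_of_le hle
  have h4 : Nat.card (center S) = 2 := ((Nat.dvd_prime Nat.prime_two).1 h3).resolve_left (by omega)
  exact ⟨eq_of_le_of_card_ge hle (by rw [hc, h4]), h4⟩

/-- A standard element outside the image. -/
theorem exists_good (h2 : IsPGroup 2 S) (hr : Cfsg.SectionalPRankLE 2 4 S)
    (hf : Function.Injective f) (hne : f.range ≠ ⊤) :
    ∃ (w : S) (α : MulAut W), w ∈ normalizer ((f.range : Subgroup S) : Set S) ∧ w ∉ f.range ∧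
      (∀ v, f (α v) = w * f v * w⁻¹) ∧ Acts α swapCls ∧ w * w ∈ center S ∧
      (gT * α gT).right = 1 ∧ cls (gT * α gT) = cls gA + cls gB + cls gA' + cls gB' := by
  haveI : Fact (Nat.Prime 2) := ⟨Nat.prime_two⟩
  haveI := h2.isNilpotent
  obtain ⟨g, hg, hgP⟩ := SetLike.exists_of_lt
    (Group.normalizerCondition_of_isNilpotent f.range (lt_top_iff_ne_top.2 hne))
  obtain ⟨-, -, -, -, -, -, -, -, hTT, -, -, -, -, -, -, hcAB, hTc, hcne, hTr, hcA0, hcB0, h10⟩ :=
    gen_data
  obtain ⟨α₀, hα₀⟩ := exists_induced hf hg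
  obtain ⟨w, α, hwN, hwP, hα, hact, hA, hB⟩ : ∃ (w : S) (α : MulAut W),
      w ∈ normalizer ((f.range : Subgroup S) : Set S) ∧ w ∉ f.range ∧
      (∀ v, f (α v) = w * f v * w⁻¹) ∧ Acts α swapCls ∧ α cA = cB ∧ α cB = cA := by
    rcases swap_or α₀ (swaps h2 hr hf hg hgP hα₀) with ⟨h1, h3, h4⟩ | ⟨h1, h3, h4⟩
    · exact ⟨g, α₀, hg, hgP, hα₀, h1, h3, h4⟩
    · have hT : f gT ∈ f.range := ⟨gT, rfl⟩
      refine ⟨f gT * g, MulAut.conj gT * α₀, mul_mem (le_normalizer hT) hg, fun h => hgP ?_, ?_,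
        ?_, ?_, ?_⟩
      · simpa using mul_mem (inv_mem hT) h
      · intro v
        rw [MulAut.mul_apply, MulAut.conj_apply, map_mul, map_mul, hα₀, map_inv]
        group
      · have h5 : Acts (MulAut.conj gT * α₀) (halves ∘ (halves ∘ swapCls)) := acts_conj_gT.comp h1
        exact h5
      · rw [MulAut.mul_apply, h3]; decide +kernel
      · rw [MulAut.mul_apply, h4]; decide +kernel
  -- the square
  have hw2 : w * w ∈ f.range := by
    have hi := relIndex_normalizer h2 hr hf hne
    have := mul_self_mem_of_index_two (H := f.range.subgroupOf (normalizer (f.range : Set S))) hi ⟨w, hwN⟩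
    exact this
  obtain ⟨p, hp⟩ := hw2
  have hsq : ∀ v, α (α v) = p * v * p⁻¹ := fun v => hf (by
    rw [hα, hα, map_mul, map_mul, map_inv, hp]; group)
  have hαp : α p = p := hf (by rw [hα, hp]; group)
  have hpb : p.right = 1 := by
    refine centralizer_base_cls p ?_
    rw [← hsq]
    obtain ⟨h1, h3⟩ := hact gA rfl
    rw [(hact _ h1).2, h3]
    decide +kernel
  obtain ⟨i, j, hij⟩ := swap_fixed p hpb (by rw [← (hact p hpb).2, hαp])
  set x := pw gA i * pw gB j with hx
  have hxb : x.right = 1 := right_pw i j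
  have hα1 : ∀ v, f ((α * MulAut.conj x) v) = w * f x * f v * (w * f x)⁻¹ := fun v => by
    rw [MulAut.mul_apply, MulAut.conj_apply, hα, map_mul, map_mul, map_inv]
    group
  have hact1 : Acts (α * MulAut.conj x) swapCls := hact.comp (acts_conj_base x hxb)
  have hxc : ∀ c, InZb c → MulAut.conj x c = c := fun c hc => by
    rw [MulAut.conj_apply, ← zb_comm c hc x hxb, mul_inv_cancel_right]
  have hA1 : (α * MulAut.conj x) cA = cB := by
    rw [MulAut.mul_apply, hxc cA ⟨rfl, hcA0⟩, hA]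
  have hB1 : (α * MulAut.conj x) cB = cA := by
    rw [MulAut.mul_apply, hxc cB ⟨rfl, hcB0⟩, hB]
  set α1 := α * MulAut.conj x
  set w1 := w * f x with hw1
  have hw1N : w1 ∈ normalizer ((f.range : Subgroup S) : Set S) :=
    mul_mem hwN (le_normalizer ⟨x, rfl⟩)
  have hw1P : w1 ∉ f.range := fun h => hwP (by
    have := mul_mem h (inv_mem (⟨x, rfl⟩ : f x ∈ f.range))
    rwa [hw1, mul_inv_cancel_right] at this)
  have hq : w1 * w1 = f (α x * p * x) := by
    rw [map_mul, map_mul, hα, hp, hw1]; group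
  have hw1c : w1 * w1 ∈ center S := by
    obtain ⟨h1, h3⟩ := hact x hxb
    have hqz : InZb (α x * p * x) := by
      refine ⟨by simp [SemidirectProduct.mul_right, h1, hpb, hxb], ?_⟩
      rw [cls_mul (by simp [SemidirectProduct.mul_right, h1, hpb]), cls_mul h1, h3, hij]
      exact cls_fixed_aux _ _
    have hfix : α1 (α x * p * x) = α x * p * x := hf (by rw [hα1, ← hq]; group)
    rw [hq, (center_eq h2 hr hf).1]
    refine ⟨_, ?_, rfl⟩
    rcases zb_cases _ hqz with h | h | h | h <;> rw [h] at hfix ⊢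
    · exact one_mem _
    · exact absurd (hfix.symm.trans hA1) hcne
    · exact absurd (hfix.symm.trans hB1).symm hcne
    · exact mem_zpowers _
  -- the image of `gT`
  have key : ∀ (β : MulAut W), Acts β swapCls → (∀ v, β (β v) = v) →
      (gT * β gT).right = 1 ∧ swapCls (cls (gT * β gT)) = cls (gT * β gT) ∧
        gT * (gT * β gT) * gT * (gT * β gT) = 1 := by
    intro β hβ hinv
    have htr : (β gT).right ≠ 1 := fun h => by
      have h' := (hβ _ h).1
      rw [hinv] at h'
      exact hTr h'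
    have hb : (gT * β gT).right = 1 := by
      rw [SemidirectProduct.mul_right]
      exact mul_eq_one_of_ne _ _ hTr htr
    have hττ : β gT * β gT = 1 := by rw [← map_mul, hTT, map_one]
    refine ⟨hb, ?_, ?_⟩
    · rw [← (hβ _ hb).2, map_mul, hinv]
      obtain ⟨h1, h3⟩ := cls_eq_zero_inv _ hb
      rw [← h3]
      congr 1
      refine (inv_eq_of_mul_eq_one_right ?_).symm
      rw [mul_assoc, ← mul_assoc (β gT), hττ, one_mul, hTT]
    · calc gT * (gT * β gT) * gT * (gT * β gT)
          = (gT * gT) * β gT * ((gT * gT) * β gT) := by group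
        _ = 1 := by rw [hTT, one_mul, hττ]
  have hinv1 : ∀ v, α1 (α1 v) = v := fun v => hf (by
    rw [hα1, hα1, show w1 * (w1 * f v * w1⁻¹) * w1⁻¹ = (w1 * w1) * f v * (w1 * w1)⁻¹ by group,
      ← mem_center_iff.1 hw1c (f v), mul_inv_cancel_right])
  obtain ⟨hb, hsw, hinvol⟩ := key α1 hact1 hinv1
  rcases gamma_cases _ hb hinvol hsw with hg0 | hgall
  · -- conjugate by `gA`
    have hAA : gA * gA = 1 := by decide +kernel
    refine ⟨f gA * w1 * f gA, MulAut.conj gA * α1 * MulAut.conj gA,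
      mul_mem (mul_mem (le_normalizer ⟨_, rfl⟩) hw1N) (le_normalizer ⟨_, rfl⟩),
      fun h => hw1P ?_, ?_, ?_, ?_, ?_, ?_⟩
    · have := mul_mem (mul_mem (inv_mem (⟨gA, rfl⟩ : f gA ∈ f.range)) h)
        (inv_mem (⟨gA, rfl⟩ : f gA ∈ f.range))
      rwa [show (f gA)⁻¹ * (f gA * w1 * f gA) * (f gA)⁻¹ = w1 by group] at this
    · intro v
      simp only [MulAut.mul_apply, MulAut.conj_apply, map_mul, map_inv, hα1]
      group
    · exact ((acts_conj_base gA rfl).comp hact1).comp (acts_conj_base gA rfl)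
    · rw [show f gA * w1 * f gA * (f gA * w1 * f gA)
        = f gA * w1 * (f gA * f gA) * w1 * f gA by group, ← map_mul, hAA, map_one, mul_one,
        mul_assoc (f gA) w1 w1, mem_center_iff.1 hw1c (f gA), mul_assoc, ← map_mul, hAA, map_one,
        mul_one]
      exact hw1c
    · have e : (MulAut.conj gA * α1 * MulAut.conj gA) gT
          = gA * α1 (gA * gT * gA⁻¹) * gA⁻¹ := rfl
      have e2 : gT * (MulAut.conj gA * α1 * MulAut.conj gA) gT
          = gA' * (gT * α1 gA * gT) * (gT * α1 gT) * (α1 gA)⁻¹ * gA⁻¹ := by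
        rw [e, map_mul, map_mul, map_inv,
          show gA' = gT * gA * gT from gen_data.2.2.2.2.2.2.2.2.2.1.symm]
        simp only [mul_assoc]
        rw [← mul_assoc gT gT, hTT, one_mul, ← mul_assoc gT gT, hTT, one_mul]
      rw [e2]
      obtain ⟨h1, h3⟩ := hact1 gA rfl
      obtain ⟨h4, h5⟩ := conj_gT _ h1
      obtain ⟨h6, -⟩ := cls_eq_zero_inv _ h1
      rw [SemidirectProduct.mul_right, SemidirectProduct.mul_right, SemidirectProduct.mul_right,
        SemidirectProduct.mul_right, h4, hb, h6, (cls_eq_zero_inv gA rfl).1]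
      rfl
    · have e : (MulAut.conj gA * α1 * MulAut.conj gA) gT
          = gA * α1 (gA * gT * gA⁻¹) * gA⁻¹ := rfl
      have e2 : gT * (MulAut.conj gA * α1 * MulAut.conj gA) gT
          = gA' * (gT * α1 gA * gT) * (gT * α1 gT) * (α1 gA)⁻¹ * gA⁻¹ := by
        rw [e, map_mul, map_mul, map_inv,
          show gA' = gT * gA * gT from gen_data.2.2.2.2.2.2.2.2.2.1.symm]
        simp only [mul_assoc]
        rw [← mul_assoc gT gT, hTT, one_mul, ← mul_assoc gT gT, hTT, one_mul]
      rw [e2]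
      obtain ⟨h1, h3⟩ := hact1 gA rfl
      obtain ⟨h4, h5⟩ := conj_gT _ h1
      obtain ⟨h6, h7⟩ := cls_eq_zero_inv _ h1
      rw [cls_mul (by rw [SemidirectProduct.mul_right, SemidirectProduct.mul_right,
          SemidirectProduct.mul_right, h4, hb, h6]; rfl),
        cls_mul (by rw [SemidirectProduct.mul_right, SemidirectProduct.mul_right, h4, hb];
                    rfl),
        cls_mul (by rw [SemidirectProduct.mul_right, h4]; rfl),
        cls_mul (show gA'.right = 1 from rfl), h5, hg0, h7, h3]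
      decide +kernel
  · exact ⟨w1, α1, hw1N, hw1P, hα1, hact1, hw1c, hb, hgall⟩

theorem commutes_of_cls : ∀ v : W, v.right = 1 → cls v = swapCls (cls gA) → v * gA = gA * v := by
  decide +kernel

theorem gT_gA_conj : gT * (gA * gT * gA) = gA * gT * gA * gT := by decide +kernel

/-- The normaliser modulo the centre is again the model. -/
theorem quotient_equiv (h2 : IsPGroup 2 S) (hr : Cfsg.SectionalPRankLE 2 4 S)
    (hf : Function.Injective f) (hne : f.range ≠ ⊤) :
    ∃ (_ : ((center S).subgroupOf (normalizer ((f.range : Subgroup S) : Set S))).Normal),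
      Nonempty (normalizer ((f.range : Subgroup S) : Set S) ⧸
        (center S).subgroupOf (normalizer ((f.range : Subgroup S) : Set S)) ≃* W) := by
  haveI hn : ((center S).subgroupOf (normalizer ((f.range : Subgroup S) : Set S))).Normal :=
    Subgroup.normal_subgroupOf
  refine ⟨hn, ?_⟩
  obtain ⟨w, α, hwN, hwP, hα, hact, hw2, hb, hgall⟩ := exists_good h2 hr hf hne
  obtain ⟨hcen, hc2⟩ := center_eq h2 hr hf
  obtain ⟨-, -, -, -, -, -, -, -, hTT, hTA, hTB, hAA, -, -, -, hcAB, hTc, hcne, hTr, hcA0, hcB0, -⟩ :=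
    gen_data
  have hz : ∀ c : W, f c ∈ center S ↔ c = 1 ∨ c = cZ := by
    intro c
    rw [hcen, mem_map]
    constructor
    · rintro ⟨d, hd, e⟩
      rw [← hf e]
      obtain ⟨n, rfl⟩ := mem_zpowers_iff.1 hd
      have h2z : cZ ^ (2 : ℤ) = 1 := by decide +kernel
      rcases Int.even_or_odd n with ⟨m, rfl⟩ | ⟨m, rfl⟩
      · left; rw [← two_mul, zpow_mul, h2z, one_zpow]
      · right; rw [zpow_add, zpow_mul, h2z, one_zpow, one_mul, zpow_one]
    · rintro (rfl | rfl)
      · exact ⟨1, one_mem _, rfl⟩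
      · exact ⟨cZ, mem_zpowers _, rfl⟩
  set NS := normalizer ((f.range : Subgroup S) : Set S)
  let π := QuotientGroup.mk' ((center S).subgroupOf NS)
  have hπ : ∀ {u v : S} (hu : u ∈ NS) (hv : v ∈ NS), u⁻¹ * v ∈ center S →
      π ⟨u, hu⟩ = π ⟨v, hv⟩ := fun hu hv h => QuotientGroup.eq.2 h
  have hfN : ∀ v, f v ∈ NS := fun v => le_normalizer ⟨v, rfl⟩
  let F : W →* NS := f.codRestrict NS hfN
  set t := π (F gT) with ht'
  set b := π ⟨w, hwN⟩ with hb'
  set a := π (F gA) with ha'
  have htt : t * t = 1 := by rw [ht', ← map_mul, ← map_mul, hTT, map_one, map_one]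
  have haa : a * a = 1 := by rw [ha', ← map_mul, ← map_mul, hAA, map_one, map_one]
  have hbb : b * b = 1 := by
    rw [hb', ← map_mul]
    exact (QuotientGroup.eq_one_iff _).2 hw2
  have htb : (t * b) ^ 4 = 1 := by
    have e : (t * b) * (t * b) = π (F (gT * α gT)) := by
      rw [ht', hb', ← map_mul, ← map_mul]
      refine hπ _ _ ?_
      show (f gT * w * (f gT * w))⁻¹ * f (gT * α gT) ∈ center S
      rw [map_mul, hα, show (f gT * w * (f gT * w))⁻¹ * (f gT * (w * f gT * w⁻¹)) = (w * w)⁻¹ by group]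
      exact inv_mem hw2
    rw [show (t * b) ^ 4 = ((t * b) * (t * b)) * ((t * b) * (t * b)) by simp [pow_succ, mul_assoc], e, ← map_mul, ← map_mul,
      gamma_sq _ hb hgall]
    exact (QuotientGroup.eq_one_iff _).2 ((hz cZ).2 (Or.inr rfl))
  obtain ⟨hAb, hAc⟩ := hact gA rfl
  have hA1 : gA⁻¹ = gA := inv_eq_of_mul_eq_one_left hAA
  have h1 : Commute t (a * t * a) := by
    rw [Commute, SemiconjBy, ht', ha', ← map_mul, ← map_mul, ← map_mul, ← map_mul, ← map_mul,
      ← map_mul, ← map_mul, ← map_mul, gT_gA_conj]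
  have hh2 : Commute b (a * b * a) := by
    rw [Commute, SemiconjBy, hb', ha', ← map_mul, ← map_mul, ← map_mul, ← map_mul]
    refine hπ _ _ ?_
    show (w * (f gA * w * f gA))⁻¹ * (f gA * w * f gA * w) ∈ center S
    have e1 : w * (f gA * w * f gA) = f (α gA) * ((w * w) * f gA) := by rw [hα]; group
    have e2 : f gA * w * f gA * w = f gA * f (α gA) * (w * w) := by rw [hα]; group
    have e3 : f gA * f (α gA) = f (α gA) * f gA := by
      rw [← map_mul, ← map_mul, commutes_of_cls _ hAb hAc]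
    rw [e1, e2, e3, ← mem_center_iff.1 hw2 (f gA), mul_assoc (f (α gA)) (f gA), inv_mul_cancel]
    exact one_mem _
  have h3 : Commute t (a * b * a) := by
    obtain ⟨v, hv⟩ : ∃ v, v = gA * α gA := ⟨_, rfl⟩
    have hvb : v.right = 1 := by
      rw [hv, SemidirectProduct.mul_right, hAb, mul_one]
      rfl
    set K := gT * (v * α gT * v⁻¹) with hK
    obtain ⟨hv', hvc'⟩ := cls_eq_zero_inv v hvb
    have hKe : K = (gT * v * gT) * (gT * α gT) * v⁻¹ := by
      rw [hK]
      simp only [mul_assoc]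
      rw [← mul_assoc gT gT, hTT, one_mul]
    obtain ⟨hc1, hc2'⟩ := conj_gT v hvb
    have hKz : InZb K := by
      refine ⟨by rw [hKe, SemidirectProduct.mul_right, SemidirectProduct.mul_right, hc1, hb, hv']; rfl, ?_⟩
      rw [hKe, cls_mul (by rw [SemidirectProduct.mul_right, hc1, hb, one_mul]), cls_mul hc1, hc2',
        hgall, hvc', hv, cls_mul (show gA.right = 1 from rfl), hAc]
      decide +kernel
    have hττ : α gT * α gT = 1 := by rw [← map_mul, hTT, map_one]
    have hKinv : gT * K * gT = K⁻¹ := by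
      refine eq_inv_of_mul_eq_one_left ?_
      rw [hK, show gT * (gT * (v * α gT * v⁻¹)) * gT * (gT * (v * α gT * v⁻¹))
        = (gT * gT) * (v * α gT * v⁻¹) * ((gT * gT) * (v * α gT * v⁻¹)) by group, hTT, one_mul,
        show v * α gT * v⁻¹ * (v * α gT * v⁻¹) = v * (α gT * α gT) * v⁻¹ by group, hττ, mul_one,
        mul_inv_cancel]
    have hKc : f K ∈ center S := (hz K).2 (by
      rcases zb_cases K hKz with h | h | h | h <;> rw [h] at hKinv
      · exact Or.inl h
      · exact absurd hKinv (by decide +kernel)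
      · exact absurd hKinv (by decide +kernel)
      · exact Or.inr h)
    rw [Commute, SemiconjBy, ht', hb', ha', ← map_mul, ← map_mul, ← map_mul, ← map_mul]
    refine hπ _ _ ?_
    show (f gT * (f gA * w * f gA))⁻¹ * (f gA * w * f gA * f gT) ∈ center S
    have e1 : f gA * w * f gA = f v * w := by rw [hv, map_mul, hα]; group
    have e2' : gT * K * v = v * α gT := by
      rw [hK, ← mul_assoc gT gT, hTT, one_mul, inv_mul_cancel_right]
    have e2 : f v * w * f gT = (f gT * f K * f v) * w := by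
      rw [← map_mul, ← map_mul, e2', map_mul, hα]
      group
    rw [e1, e2, mem_center_iff.1 hKc (f gT), show f K * f gT * f v * w = f K * (f gT * (f v * w)) by
      group, ← mem_center_iff.1 hKc (f gT * (f v * w)), ← mul_assoc, inv_mul_cancel, one_mul]
    exact hKc
  have h4 : Commute b (a * t * a) := by
    have h := (h3.map (MulAut.conj a)).symm
    simp only [MulAut.conj_apply, inv_eq_of_mul_eq_one_left haa] at h
    rwa [show a * (a * b * a) * a = (a * a) * b * (a * a) by group, haa, one_mul, mul_one] at h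
  obtain ⟨θ, hθA, hθB, hθT⟩ := exists_hom t b a htt hbb htb haa h1 hh2 h3 h4
  have hsurj : θ.range = ⊤ := by
    let K : Subgroup W := (θ.range.comap π).comap F
    have hT : gT ∈ K := ⟨gA, hθA⟩
    have hA : gA ∈ K := ⟨gT, hθT⟩
    have hwK : b ∈ θ.range := ⟨gB, hθB⟩
    have hαA : α gA ∈ K := by
      show π (F (α gA)) ∈ θ.range
      have e : F (α gA) = ⟨w, hwN⟩ * F gA * (⟨w, hwN⟩ : NS)⁻¹ := Subtype.ext (hα gA)
      rw [e, map_mul, map_mul, map_inv]
      exact mul_mem (mul_mem hwK hA) (inv_mem hwK)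
    obtain ⟨hy1, hy2⟩ := conj_gT _ hAb
    set y := gT * α gA * gT with hy
    have hyK : y ∈ K := mul_mem (mul_mem hT hαA) hT
    have hyc : cls y = cls gB := by
      rw [hy2, hAc]; decide +kernel
    have hcA : cA ∈ K := by
      rw [← (commutator_cls_cases gA y rfl hy1).1 rfl hyc]
      exact mul_mem (mul_mem hA hyK) (mul_mem hA hyK)
    have hcB : cB ∈ K := by rw [← hTc]; exact mul_mem (mul_mem hT hcA) hT
    have hzK : ∀ c, InZb c → c ∈ K := fun c hc => by
      rcases zb_cases c hc with rfl | rfl | rfl | rfl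
      · exact one_mem K
      · exact hcA
      · exact hcB
      · rw [← hcAB]; exact mul_mem hcA hcB
    have hB : gB ∈ K := by
      have h : InZb (y⁻¹ * gB) := by
        obtain ⟨h5, h6⟩ := cls_eq_zero_inv y hy1
        refine ⟨by rw [SemidirectProduct.mul_right, h5]; rfl, ?_⟩
        rw [cls_mul h5, h6, hyc]
        exact (by decide : ∀ c : Cls, c + c = 0) _
      have := mul_mem hyK (hzK _ h)
      rwa [mul_inv_cancel_left] at this
    have hpw : ∀ v i, v ∈ K → pw v i ∈ K := fun v i hv => by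
      cases i
      · exact one_mem K
      · exact hv
    have hA' : gA' ∈ K := by rw [← hTA]; exact mul_mem (mul_mem hT hA) hT
    have hB' : gB' ∈ K := by rw [← hTB]; exact mul_mem (mul_mem hT hB) hT
    have hbase : ∀ v : W, v.right = 1 → v ∈ K := by
      intro v hv
      obtain ⟨i, j, k, l, m, n, rfl⟩ := base_word v hv
      exact mul_mem (mul_mem (mul_mem (mul_mem (mul_mem (hpw _ i hA) (hpw _ j hB)) (hpw _ k hA'))
        (hpw _ l hB')) (hpw _ m hcA)) (hpw _ n hcB)
    have hall : ∀ v, v ∈ K := by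
      intro v
      by_cases hv : v.right = 1
      · exact hbase v hv
      · have h : (gT * v).right = 1 := by
          rw [SemidirectProduct.mul_right]
          exact (by decide : ∀ a b : Multiplicative (ZMod 2), a ≠ 1 → b ≠ 1 → a * b = 1) _ _ hTr hv
        have := mul_mem hT (hbase _ h)
        rwa [← mul_assoc, hTT, one_mul] at this
    refine eq_top_iff.2 fun q _ => ?_
    obtain ⟨⟨u, hu⟩, rfl⟩ := QuotientGroup.mk'_surjective _ q
    by_cases huP : u ∈ f.range
    · obtain ⟨v, rfl⟩ := huP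
      exact hall v
    · have hi := relIndex_normalizer h2 hr hf hne
      have hmem : w⁻¹ * u ∈ f.range := by
        have h := (mul_mem_iff_of_index_two (H := f.range.subgroupOf NS) hi
          (a := (⟨w, hwN⟩ : NS)⁻¹) (b := ⟨u, hu⟩)).2
        refine h (iff_of_false (fun h' => hwP ?_) huP)
        have := inv_mem h'
        rwa [inv_inv] at this
      obtain ⟨v, hv⟩ := hmem
      have e : (⟨u, hu⟩ : NS) = ⟨w, hwN⟩ * F v := Subtype.ext (by
        show u = w * f v
        rw [hv, mul_inv_cancel_left])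
      rw [show π ⟨u, hu⟩ = b * π (F v) by rw [e, map_mul]]
      exact mul_mem hwK (hall v)
  have hcard : Nat.card (NS ⧸ (center S).subgroupOf NS) = Nat.card W := by
    have h1 := ((center S).subgroupOf NS).card_mul_index
    have h2' := Cfsg.Agent.S4400.relIndex_mul_natCard (H := f.range) (K := NS) le_normalizer
    rw [relIndex_normalizer h2 hr hf hne,
      show Nat.card f.range = Nat.card W from (Nat.card_congr (MonoidHom.ofInjective hf).toEquiv).symm]
      at h2'
    rw [Nat.card_congr (subgroupOfEquivOfLe (show center S ≤ NS from center_le_normalizer _)).toEquiv,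
      hc2, index_eq_card, ← h2'] at h1
    omega
  exact ⟨(MulEquiv.ofBijective θ ((Nat.bijective_iff_surjective_and_card θ).2
    ⟨MonoidHom.range_eq_top.1 hsurj, hcard.symm⟩)).symm⟩

end Overgroup

end CfsgLib.FGS74.W8
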