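import Cfsg.Agent.LocalEven49.SylowEight
import Cfsg.Agent.FGS74.WreathEight

/-!
# `D₈ ≀ 2` as a Sylow 2-subgroup of `S₈`
-/

set_option autoImplicit false
set_option synthInstance.maxSize 2000

namespace CfsgLib.FGS74.W8

open Subgroup Equiv

/-- The model is isomorphic to every Sylow 2-subgroup of `S₈`. -/
theorem nonempty_equiv_sylow (T : Sylow 2 (Perm (Fin 8))) :
    Nonempty (W ≃* (T : Subgroup (Perm (Fin 8)))) := by
  haveI : Fact (Nat.Prime 2) := ⟨Nat.prime_two⟩
  set a : Perm (Fin 8) := swap 0 1 with ha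
  set b : Perm (Fin 8) := swap 0 2 * swap 1 3 with hb
  set t : Perm (Fin 8) := swap 0 4 * swap 1 5 * swap 2 6 * swap 3 7 with ht
  obtain ⟨φ, h1, h2, h3⟩ := exists_hom a b t (by rw [ha]; decide +kernel) (by rw [hb]; decide +kernel)
    (by rw [ha, hb]; decide +kernel) (by rw [ht]; decide +kernel)
    (by rw [Commute, SemiconjBy, ha, ht]; decide +kernel)
    (by rw [Commute, SemiconjBy, hb, ht]; decide +kernel)
    (by rw [Commute, SemiconjBy, ha, hb, ht]; decide +kernel)
    (by rw [Commute, SemiconjBy, ha, hb, ht]; decide +kernel)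
  obtain ⟨-, -, -, -, -, -, -, -, hTT, -, -, -, -, hcA, -, hcAB, hTc, -⟩ := gen_data
  have hz : φ cZ ≠ 1 := by
    rw [← hcAB, ← hTc, ← hcA]
    simp only [map_mul, h1, h2, h3]
    rw [ha, hb, ht]
    decide +kernel
  have hW : IsPGroup 2 W := IsPGroup.of_card (n := 7) (by rw [card_W]; norm_num)
  have hinj : Function.Injective φ := by
    rw [← MonoidHom.ker_eq_bot_iff]
    by_contra hne
    obtain ⟨z, hzk, hz1, hzc⟩ := Cfsg.Agent.S4400.exists_central_mem hW φ.ker hne
    rcases center_cases z (mem_center_iff.1 hzc gA).symm (mem_center_iff.1 hzc gB).symm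
      (mem_center_iff.1 hzc gT).symm with h | h
    · exact hz1 h
    · exact hz (h ▸ MonoidHom.mem_ker.1 hzk)
  obtain ⟨e⟩ := CfsgLib.SylowEight.nonempty_equiv_sylow (G := Perm (Fin 8)) (e := 7) (m := 315)
    (by rw [Nat.card_eq_fintype_card, Fintype.card_perm, Fintype.card_fin]; rfl) (by norm_num)
    φ.range (by rw [← Nat.card_congr (MonoidHom.ofInjective hinj).toEquiv, card_W]; norm_num) T
  exact ⟨(MonoidHom.ofInjective hinj).trans e⟩

end CfsgLib.FGS74.W8
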